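import Mathlib

/-!
Finite facts about the alternating group of degree six used in the 3-local recognition of the
McLaughlin group.
-/

set_option autoImplicit false

namespace Cfsg.Lib.McLThree

open Equiv

/-- Elements of the alternating group of degree six. -/
abbrev ASix := alternatingGroup (Fin 6)

/-- A permutation as an element of `ASix`. -/
def mkSix (p : Perm (Fin 6)) (h : Perm.sign p = 1 := by decide) : ASix :=
  ⟨p, Equiv.Perm.mem_alternatingGroup.2 h⟩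

/-- first generator of the Sylow 3-subgroup -/
def x0 : ASix := mkSix c[(0 : Fin 6), 1, 2]
/-- second generator of the Sylow 3-subgroup -/
def y0 : ASix := mkSix c[(3 : Fin 6), 4, 5]
/-- an involution inverting the Sylow 3-subgroup -/
def j0 : ASix := mkSix (c[(0 : Fin 6), 1] * c[(3 : Fin 6), 4])
/-- an element of order four normalising the Sylow 3-subgroup -/
def h0 : ASix := mkSix (c[(0 : Fin 6), 3, 1, 4] * c[(2 : Fin 6), 5])
/-- an involution commuting with `j0` outside the Sylow normaliser -/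
def s0 : ASix := mkSix (c[(0 : Fin 6), 1] * c[(2 : Fin 6), 5])
/-- an element of order three permuting the four group `⟨j0, s0⟩` -/
def g0 : ASix := mkSix (c[(0 : Fin 6), 2, 3] * c[(1 : Fin 6), 5, 4])

/-- membership of the standard Sylow 3-subgroup -/
def InP (g : ASix) : Prop := ∃ a b : Fin 3, g = x0 ^ (a : ℕ) * y0 ^ (b : ℕ)

instance : DecidablePred InP := fun g => by unfold InP; infer_instance

/-- membership of the normaliser of the standard Sylow 3-subgroup -/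
def NormP (g : ASix) : Prop := InP (g * x0 * g⁻¹) ∧ InP (g * y0 * g⁻¹)

instance : DecidablePred NormP := fun g => by unfold NormP; infer_instance

theorem inP_one : InP 1 := ⟨0, 0, by simp⟩

theorem inP_mul_all : ∀ a b c d : Fin 3,
    InP (x0 ^ (a : ℕ) * y0 ^ (b : ℕ) * (x0 ^ (c : ℕ) * y0 ^ (d : ℕ))) ∧
      InP (x0 ^ (a : ℕ) * y0 ^ (b : ℕ))⁻¹ := by
  decide +kernel

/-- The standard Sylow 3-subgroup of the alternating group of degree six. -/
def sylP : Subgroup ASix where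
  carrier := {g | InP g}
  one_mem' := inP_one
  mul_mem' := by
    rintro _ _ ⟨a, b, rfl⟩ ⟨c, d, rfl⟩
    exact (inP_mul_all a b c d).1
  inv_mem' := by
    rintro _ ⟨a, b, rfl⟩
    exact (inP_mul_all a b 0 0).2

theorem mem_sylP {g : ASix} : g ∈ sylP ↔ InP g := Iff.rfl

theorem card_sylP : Nat.card sylP = 9 := by
  have h : Nat.card {g : ASix // InP g} = 9 := by
    rw [Nat.card_eq_fintype_card]; decide +kernel
  exact h

theorem normP_form : ∀ g : ASix, NormP g →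
    ∃ a b : Fin 3, ∃ c : Fin 4, g = x0 ^ (a : ℕ) * y0 ^ (b : ℕ) * h0 ^ (c : ℕ) := by
  decide +kernel

theorem fixed_cosets : ∀ g : ASix, NormP (g⁻¹ * j0 * g) → NormP g ∨ NormP (s0 * g) := by
  decide +kernel

theorem cent_j0 : ∀ g : ASix, g * j0 = j0 * g →
    ∃ c : Fin 4, g = h0 ^ (c : ℕ) ∨ g = s0 * h0 ^ (c : ℕ) := by
  decide +kernel

theorem no_three : ∀ p : ASix, p ^ 3 = 1 → p ≠ 1 →
    ¬ (p * (j0 * p * j0) = j0 * p * j0 * p ∧ p * (s0 * p * s0) = s0 * p * s0 * p) := by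
  decide +kernel

theorem inverting_form : ∀ g : ASix, g * x0 * g⁻¹ = x0⁻¹ → g * y0 * g⁻¹ = y0⁻¹ →
    ∃ a b : Fin 3,
      g = (x0 ^ (a : ℕ) * y0 ^ (b : ℕ)) * j0 * (x0 ^ (a : ℕ) * y0 ^ (b : ℕ))⁻¹ := by
  decide +kernel

theorem six_relations :
    NormP ((x0 * x0 * s0)⁻¹ * (s0 * x0 * s0)) ∧ NormP ((y0 * s0)⁻¹ * (s0 * y0 * s0)) ∧
      NormP ((x0 * (y0 * y0) * s0)⁻¹ * (s0 * (x0 * y0) * s0)) ∧ ¬ NormP s0 := by
  decide +kernel

theorem six_basic :
    s0 * s0 = 1 ∧ h0 * h0 = j0 ∧ s0 * h0 * s0 = h0⁻¹ ∧ j0 * j0 = 1 ∧ s0 * j0 = j0 * s0 ∧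
      j0 * x0 * j0 = x0⁻¹ ∧ j0 * y0 * j0 = y0⁻¹ ∧ x0 ^ 3 = 1 ∧ y0 ^ 3 = 1 ∧ x0 * y0 = y0 * x0 ∧
      h0 ^ 4 = 1 ∧ NormP h0 ∧ NormP j0 ∧ ¬ InP h0 ∧ ¬ InP j0 ∧ j0 ≠ 1 ∧ s0 ≠ 1 ∧ s0 ≠ j0 ∧
      h0 * s0 * h0⁻¹ * s0⁻¹ = j0 := by
  decide +kernel

theorem g0_spec : g0 ^ 3 = 1 ∧ g0 * j0 * g0⁻¹ = s0 ∧ g0 * s0 * g0⁻¹ = j0 * s0 := by
  decide +kernel

end Cfsg.Lib.McLThree
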