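import Cfsg.Agent.Lib.McLThree.Elements

/-!
The quotient of the centraliser of `t` by `⟨t⟩`, and the centraliser of `z` in it.
-/

set_option autoImplicit false
set_option linter.style.haveILetI false
set_option linter.unusedSectionVars false

namespace Cfsg.Lib.McLThree

open Equiv Cfsg.Lib.Recog.Icosa
open Cfsg.Lib.AltEightThree (mem_cent_singleton conj_mem_normalizer mem_normalizer_of_forall
  mem_normalizer_of_cent)

variable {G : Type*} [Group G] [Finite G]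

namespace LocC

variable (C : LocC G)

/-- The centraliser of `t`. -/
abbrev CT : Subgroup G := Subgroup.centralizer ({C.t} : Set G)

/-- `⟨t⟩` inside its centraliser. -/
abbrev Nt : Subgroup C.CT := (Subgroup.zpowers C.t).subgroupOf C.CT

instance Nt_normal : C.Nt.Normal := ⟨fun n hn g => by
  rw [Subgroup.mem_subgroupOf] at hn ⊢
  obtain ⟨i, hi⟩ := hn
  simp only at hi
  have hg : Commute (g : G) C.t := mem_cent_singleton.1 g.2
  push_cast
  rw [← hi, (hg.zpow_right i).eq, mul_inv_cancel_right]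
  exact zpow_mem (Subgroup.mem_zpowers _) i⟩

/-- The centraliser of `t` modulo `⟨t⟩`. -/
abbrev Bar := C.CT ⧸ C.Nt

/-- The image of an element centralising `t`. -/
def bar (x : G) (hx : x * C.t = C.t * x) : C.Bar :=
  QuotientGroup.mk ⟨x, mem_cent_singleton.2 hx⟩

theorem exists_bar (g : C.Bar) : ∃ x : G, ∃ hx : x * C.t = C.t * x, C.bar x hx = g := by
  obtain ⟨⟨x, hx⟩, rfl⟩ := QuotientGroup.mk_surjective g
  exact ⟨x, mem_cent_singleton.1 hx, rfl⟩

theorem bar_congr {x y : G} (h : x = y) (hx : x * C.t = C.t * x) (hy : y * C.t = C.t * y) :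
    C.bar x hx = C.bar y hy := by subst h; rfl

theorem bar_mul {x y : G} (hx : x * C.t = C.t * x) (hy : y * C.t = C.t * y) :
    C.bar x hx * C.bar y hy = C.bar (x * y) (Commute.mul_left hx hy).eq := rfl

theorem bar_inv {x : G} (hx : x * C.t = C.t * x) :
    (C.bar x hx)⁻¹ = C.bar x⁻¹ (Commute.inv_left hx).eq := rfl

theorem bar_pow {x : G} (hx : x * C.t = C.t * x) (n : ℕ) :
    (C.bar x hx) ^ n = C.bar (x ^ n) (Commute.pow_left hx n).eq := rfl

theorem bar_one : C.bar 1 (Commute.one_left C.t).eq = 1 := rfl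

theorem bar_conj {x y : G} (hx : x * C.t = C.t * x) (hy : y * C.t = C.t * y) :
    C.bar x hx * C.bar y hy * (C.bar x hx)⁻¹ =
      C.bar (x * y * x⁻¹) (((show Commute x C.t from hx).mul_left hy).mul_left
        (show Commute x C.t from hx).inv_left).eq := rfl

theorem bar_eq {x y : G} (hx : x * C.t = C.t * x) (hy : y * C.t = C.t * y)
    (h : C.bar x hx = C.bar y hy) : y = x ∨ y = x * C.t := by
  rw [bar, bar, QuotientGroup.eq, Subgroup.mem_subgroupOf] at h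
  obtain ⟨i, hi⟩ := mem_powers_iff_mem_zpowers.2 h
  simp only [Subgroup.coe_mul, Subgroup.coe_inv] at hi
  rcases C.t_pow_cases i with h' | h' <;> rw [h'] at hi
  · left; exact (inv_mul_eq_one.1 hi.symm).symm
  · right; rw [hi, mul_inv_cancel_left]

theorem bar_eq_one {x : G} (hx : x * C.t = C.t * x) : C.bar x hx = 1 ↔ x = 1 ∨ x = C.t := by
  constructor
  · intro h
    rw [← C.bar_one] at h
    rcases C.bar_eq _ _ h.symm with h' | h'
    · exact Or.inl h'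
    · exact Or.inr (by rw [h', one_mul])
  · rintro (h | h)
    · rw [C.bar_congr h hx (Commute.one_left C.t).eq]; rfl
    · rw [C.bar_congr h hx rfl, bar, QuotientGroup.eq_one_iff, Subgroup.mem_subgroupOf]
      exact Subgroup.mem_zpowers _

/-- Equalities modulo `t` between elements of order dividing three are equalities. -/
theorem bar_three {x y : G} (hx : x * C.t = C.t * x) (hy : y * C.t = C.t * y) (hx3 : x ^ 3 = 1)
    (hy3 : y ^ 3 = 1) (h : C.bar x hx = C.bar y hy) : x = y := by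
  rcases C.bar_eq hx hy h with h' | h'
  · exact h'.symm
  · exfalso
    apply C.toLocT.t_ne
    rw [h', (show Commute x C.t from hx).mul_pow, hx3, one_mul, pow_three, C.t_sq, mul_one] at hy3
    exact hy3

theorem comm_of_bar {x a : G} (hx : x * C.t = C.t * x) (ha : a * C.t = C.t * a) (ha3 : a ^ 3 = 1)
    (h : C.bar x hx * C.bar a ha = C.bar a ha * C.bar x hx) : x * a = a * x := by
  have h' : C.bar x hx * C.bar a ha * (C.bar x hx)⁻¹ = C.bar a ha := by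
    rw [h, mul_inv_cancel_right]
  rw [C.bar_conj] at h'
  exact mul_inv_eq_iff_eq_mul.1 (C.bar_three _ ha (by rw [conj_pow, ha3]; group) ha3 h')

theorem zz_exp' : C.zz ^ 3 = 1 := C.toLocH.zz_exp

theorem z_comm_t : C.z * C.t = C.t * C.z := C.toLocT.t_z.symm

theorem zz_comm_t : C.zz * C.t = C.t * C.zz := C.zz_t.symm

theorem D_comm_t {d : G} (hd : d ∈ C.FixD) : d * C.t = C.t * d := ((C.mem_FixD.1 hd).2).symm

theorem D_exp {d : G} (hd : d ∈ C.FixD) : d ^ 3 = 1 := C.J_exp d (C.mem_FixD.1 hd).1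

/-- The image of `D`. -/
def Dbar : Subgroup C.Bar := (C.FixD.subgroupOf C.CT).map (QuotientGroup.mk' C.Nt)

theorem mem_Dbar {g : C.Bar} : g ∈ C.Dbar ↔ ∃ d : G, ∃ hd : d ∈ C.FixD,
    C.bar d (C.D_comm_t hd) = g := by
  constructor
  · rintro ⟨⟨d, hd'⟩, hd, rfl⟩
    exact ⟨d, hd, rfl⟩
  · rintro ⟨d, hd, rfl⟩
    exact ⟨⟨d, mem_cent_singleton.2 (C.D_comm_t hd)⟩, hd, rfl⟩

theorem card_FixD : Nat.card C.FixD = 9 := by
  have hb : Function.Bijective (fun p : Fin 3 × Fin 3 =>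
      (⟨C.z ^ (p.1 : ℕ) * C.zz ^ (p.2 : ℕ), mul_mem (pow_mem C.z_D _) (pow_mem C.zz_D _)⟩ : C.FixD)) := by
    constructor
    · rintro ⟨i, j⟩ ⟨i', j'⟩ h
      have h' : C.z ^ (i : ℕ) * C.zz ^ (j : ℕ) = C.z ^ (i' : ℕ) * C.zz ^ (j' : ℕ) :=
        congrArg Subtype.val h
      have hj : j = j' := by
        by_contra hne
        apply C.zz_not_Q
        have h2 : C.zz ^ (j : ℕ) * (C.zz ^ (j' : ℕ))⁻¹ ∈ C.Q := by
          have h3 : C.zz ^ (j : ℕ) * (C.zz ^ (j' : ℕ))⁻¹ = (C.z ^ (i : ℕ))⁻¹ * C.z ^ (i' : ℕ) := by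
            rw [eq_inv_mul_iff_mul_eq, ← mul_assoc, h', mul_inv_cancel_right]
          rw [h3]
          exact mul_mem (inv_mem (pow_mem C.z_mem _)) (pow_mem C.z_mem _)
        have hz3 := C.toLocH.zz_exp
        fin_cases j <;> fin_cases j'
        all_goals simp only [pow_zero, pow_one, one_mul, inv_one, mul_one] at h2
        · exact absurd rfl hne
        · simpa using inv_mem h2
        · have := h2
          rw [show (C.zz ^ 2)⁻¹ = C.zz from inv_eq_of_mul_eq_one_right (by rw [← pow_succ, hz3])] at this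
          exact this
        · exact h2
        · exact absurd rfl hne
        · rw [show C.zz * (C.zz ^ 2)⁻¹ = C.zz⁻¹ by group] at h2
          simpa using inv_mem h2
        · rw [show C.zz ^ 2 = C.zz⁻¹ from eq_inv_of_mul_eq_one_left (by rw [← pow_succ, hz3])] at h2
          simpa using inv_mem h2
        · rw [show C.zz ^ 2 * C.zz⁻¹ = C.zz by group] at h2
          exact h2
        · exact absurd rfl hne
      subst hj
      have hi : C.z ^ (i : ℕ) = C.z ^ (i' : ℕ) := mul_right_cancel h'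
      have h3 : orderOf C.z = 3 := orderOf_eq_prime C.z_exp C.z_ne
      have := pow_inj_mod.1 hi
      rw [h3, Nat.mod_eq_of_lt i.2, Nat.mod_eq_of_lt i'.2] at this
      exact Prod.ext (Fin.ext this) rfl
    · rintro ⟨x, hx⟩
      obtain ⟨i, j, rfl⟩ := C.D_form hx
      exact ⟨(i, j), rfl⟩
  rw [← Nat.card_eq_of_bijective _ hb]
  simp

theorem card_Dbar : Nat.card C.Dbar = 9 := by
  rw [← C.card_FixD]
  symm
  refine Nat.card_eq_of_bijective
    (fun d : C.FixD => (⟨C.bar d (C.D_comm_t d.2), C.mem_Dbar.2 ⟨d, d.2, rfl⟩⟩ : C.Dbar)) ⟨?_, ?_⟩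
  · intro a b h
    exact Subtype.ext (C.bar_three (C.D_comm_t a.2) (C.D_comm_t b.2) (C.D_exp a.2) (C.D_exp b.2)
      (congrArg Subtype.val h))
  · rintro ⟨g, hg⟩
    obtain ⟨d, hd, rfl⟩ := C.mem_Dbar.1 hg
    exact ⟨⟨d, hd⟩, rfl⟩

/-! ### The map to a group of order three -/

/-- `C(z) ∩ C(t)`. -/
abbrev CZ : Subgroup G := Subgroup.centralizer ({C.z} : Set G) ⊓ C.CT

theorem CZ_le : C.CZ ≤ C.NZ := fun _ hg =>
  C.mem_NZ_of_cent (mem_cent_singleton.1 hg.1) (mem_cent_singleton.1 hg.2)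

theorem mem_CZ {g : G} (hz : g * C.z = C.z * g) (ht : g * C.t = C.t * g) : g ∈ C.CZ :=
  ⟨mem_cent_singleton.2 hz, mem_cent_singleton.2 ht⟩

/-- `ρ` on `C(z) ∩ C(t)`. -/
noncomputable def ρz : C.CZ →* Perm (Fin 5) := C.ρ.comp (Subgroup.inclusion C.CZ_le)

theorem D_le_CZ : C.FixD ≤ C.CZ := fun d hd =>
  C.mem_CZ (C.J_comm d (C.mem_FixD.1 hd).1 C.z C.toLoc.z_J) (C.D_comm_t hd)

theorem t_CZ : C.t ∈ C.CZ := C.mem_CZ C.toLocT.t_z rfl

theorem z_CZ : C.z ∈ C.CZ := C.mem_CZ rfl C.z_comm_t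

theorem exists_CZ {p : Perm (Fin 5)} (hp : Perm.sign p = 1) : ∃ k : C.CZ, C.ρz k = p := by
  obtain ⟨k, hkL, hkt, -, hkN, hρk⟩ := C.exists_L hp
  exact ⟨⟨k, C.mem_CZ (C.L_cent k hkL) hkt⟩, hρk⟩

theorem ρz_ker (g : C.CZ) (h : C.ρz g = 1) : ∃ i j : ℕ, (g : G) = C.z ^ i * C.t ^ j :=
  C.ρ_kernel (mem_cent_singleton.1 g.2.1) (mem_cent_singleton.1 g.2.2) h

theorem index_D_coprime : ¬ 3 ∣ (C.FixD.subgroupOf C.CZ).index := by
  intro h3
  have h1 := (C.FixD.subgroupOf C.CZ).card_mul_index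
  rw [Nat.card_congr (Subgroup.subgroupOfEquivOfLe C.D_le_CZ).toEquiv, C.card_FixD] at h1
  have h27 : 27 ∣ Nat.card C.CZ := by
    rw [← h1, show (27 : ℕ) = 9 * 3 from rfl]
    exact Nat.mul_dvd_mul_left 9 h3
  have h2 := C.ρz.ker.card_mul_index
  rw [Subgroup.index_ker] at h2
  have hr : Nat.card C.ρz.range ∣ 120 := by
    have := Subgroup.card_subgroup_dvd_card C.ρz.range
    rwa [Nat.card_perm, Nat.card_fin, show (5 : ℕ).factorial = 120 from rfl] at this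
  have hk : Nat.card C.ρz.ker ∣ 6 := by
    set w : C.CZ := ⟨C.z * C.t, mul_mem C.z_CZ C.t_CZ⟩ with hw
    have hle : C.ρz.ker ≤ Subgroup.zpowers w := by
      intro g hg
      obtain ⟨i, j, hij⟩ := C.ρz_ker g hg
      refine ⟨((4 * i + 3 * j : ℕ) : ℤ), ?_⟩
      apply Subtype.ext
      show ((w ^ ((4 * i + 3 * j : ℕ) : ℤ) : C.CZ) : G) = g
      rw [zpow_natCast, hij, SubmonoidClass.coe_pow]
      show (C.z * C.t) ^ (4 * i + 3 * j) = _
      rw [(show Commute C.z C.t from C.z_comm_t).mul_pow]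
      congr 1
      · rw [show 4 * i + 3 * j = i + 3 * (i + j) by ring, pow_add C.z, pow_mul, C.z_exp, one_pow,
          mul_one]
      · rw [show 4 * i + 3 * j = j + 2 * (2 * i + j) by ring, pow_add C.t, pow_mul, pow_two, C.t_sq,
          one_pow, mul_one]
    refine (Subgroup.card_dvd_of_le hle).trans ?_
    rw [Nat.card_zpowers]
    apply orderOf_dvd_of_pow_eq_one
    apply Subtype.ext
    show (C.z * C.t) ^ 6 = 1
    rw [(show Commute C.z C.t from C.z_comm_t).mul_pow, show 6 = 3 * 2 from rfl, pow_mul, C.z_exp,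
      one_pow, one_mul, mul_comm 3 2, pow_mul, pow_two C.t, C.t_sq, one_pow]
  have := h27.trans (h2 ▸ Nat.mul_dvd_mul hk hr)
  norm_num at this

theorem exists_chi : ∃ χ : C.CZ →* Subgroup.zpowers C.z,
    (χ ⟨C.z, C.z_CZ⟩ : G) = C.z ∧ χ ⟨C.t, C.t_CZ⟩ = 1 := by
  obtain ⟨hD, -⟩ : (∀ a ∈ C.FixD, ∀ b ∈ C.FixD, a * b = b * a) ∧ True :=
    ⟨fun a ha b hb => C.J_comm a (C.mem_FixD.1 ha).1 b (C.mem_FixD.1 hb).1, trivial⟩
  set DD : Subgroup C.CZ := C.FixD.subgroupOf C.CZ with hDD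
  -- the projection onto `⟨z⟩` along `⟨zz⟩`
  choose fi fj hfij using fun d : DD => C.D_form (Subgroup.mem_subgroupOf.1 d.2)
  have huniq : ∀ (i j i' j' : Fin 3), C.z ^ (i : ℕ) * C.zz ^ (j : ℕ) = C.z ^ (i' : ℕ) * C.zz ^ (j' : ℕ) →
      C.z ^ (i : ℕ) = C.z ^ (i' : ℕ) := by
    intro i j i' j' h
    have h2 : C.zz ^ (j : ℕ) * (C.zz ^ (j' : ℕ))⁻¹ = (C.z ^ (i : ℕ))⁻¹ * C.z ^ (i' : ℕ) := by
      rw [eq_inv_mul_iff_mul_eq, ← mul_assoc, h, mul_inv_cancel_right]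
    have h3 : (C.z ^ (i : ℕ))⁻¹ * C.z ^ (i' : ℕ) ∈ Subgroup.zpowers C.zz := by
      rw [← h2]
      exact mul_mem (pow_mem (Subgroup.mem_zpowers _) _) (inv_mem (pow_mem (Subgroup.mem_zpowers _) _))
    by_contra hne
    apply C.zz_not_z
    have hz' : (C.z ^ (i : ℕ))⁻¹ * C.z ^ (i' : ℕ) ∈ Subgroup.zpowers C.z :=
      mul_mem (inv_mem (pow_mem (Subgroup.mem_zpowers _) _)) (pow_mem (Subgroup.mem_zpowers _) _)
    have hne' : (C.z ^ (i : ℕ))⁻¹ * C.z ^ (i' : ℕ) ≠ 1 := fun e => hne (inv_mul_eq_one.1 e)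
    rcases zpow_mem_of_three C.toLocH.zz_exp h3 with e | e | e
    · exact absurd e hne'
    · rwa [e] at hz'
    · rw [e] at hz'
      have := pow_mem hz' 2
      rwa [← pow_mul, show 2 * 2 = 3 + 1 from rfl, pow_succ, C.toLocH.zz_exp, one_mul] at this
  let pr : DD →* Subgroup.zpowers C.z :=
    MonoidHom.mk' (fun d => ⟨C.z ^ (fi d : ℕ), pow_mem (Subgroup.mem_zpowers _) _⟩) (fun a b => by
      apply Subtype.ext
      show C.z ^ (fi (a * b) : ℕ) = C.z ^ (fi a : ℕ) * C.z ^ (fi b : ℕ)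
      obtain ⟨n, hn⟩ : ∃ n : Fin 3, C.z ^ (fi a : ℕ) * C.z ^ (fi b : ℕ) = C.z ^ (n : ℕ) := by
        refine ⟨⟨((fi a : ℕ) + (fi b : ℕ)) % 3, Nat.mod_lt _ (by norm_num)⟩, ?_⟩
        show C.z ^ (fi a : ℕ) * C.z ^ (fi b : ℕ) = C.z ^ (((fi a : ℕ) + (fi b : ℕ)) % 3)
        rw [← pow_add]
        conv_lhs => rw [← Nat.mod_add_div ((fi a : ℕ) + (fi b : ℕ)) 3, pow_add, pow_mul, C.z_exp,
          one_pow, mul_one]
      obtain ⟨m, hm⟩ : ∃ m : Fin 3, C.zz ^ (fj a : ℕ) * C.zz ^ (fj b : ℕ) = C.zz ^ (m : ℕ) := by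
        refine ⟨⟨((fj a : ℕ) + (fj b : ℕ)) % 3, Nat.mod_lt _ (by norm_num)⟩, ?_⟩
        show C.zz ^ (fj a : ℕ) * C.zz ^ (fj b : ℕ) = C.zz ^ (((fj a : ℕ) + (fj b : ℕ)) % 3)
        rw [← pow_add]
        conv_lhs => rw [← Nat.mod_add_div ((fj a : ℕ) + (fj b : ℕ)) 3, pow_add, pow_mul,
          C.toLocH.zz_exp, one_pow, mul_one]
      rw [hn]
      refine huniq _ (fj (a * b)) _ m ?_
      rw [← hn, ← hm, ← hfij (a * b)]
      push_cast
      rw [hfij a, hfij b]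
      have hc : Commute (C.zz ^ (fj a : ℕ)) (C.z ^ (fi b : ℕ)) :=
        (show Commute C.zz C.z from C.zz_cent).pow_pow _ _
      rw [mul_assoc, ← mul_assoc (C.zz ^ _), hc.eq]
      group)
  letI : CommGroup (Subgroup.zpowers C.z) :=
    { (inferInstance : Group (Subgroup.zpowers C.z)) with
      mul_comm := fun a b => Subtype.ext (C.toLoc.zpow_comm_z b.2 a (C.toLoc.Q_z (C.toLoc.zpow_mem_Q a.2))) }
  let χ := MonoidHom.transfer pr
  have hzc : ∀ g : C.CZ, g * ⟨C.z, C.z_CZ⟩ = ⟨C.z, C.z_CZ⟩ * g :=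
    fun g => Subtype.ext (mem_cent_singleton.1 g.2.1)
  have hχz : χ ⟨C.z, C.z_CZ⟩ = ⟨C.z, Subgroup.mem_zpowers _⟩ ^ DD.index := by
    rw [MonoidHom.transfer_eq_pow pr _ (fun k g₀ _ => by
      rw [mul_assoc, ← (Commute.pow_right (hzc g₀) k).eq, inv_mul_cancel_left])]
    apply Subtype.ext
    set d : DD := ⟨(⟨C.z, C.z_CZ⟩ : C.CZ) ^ DD.index, pow_mem (show (⟨C.z, C.z_CZ⟩ : C.CZ) ∈ DD from
      C.z_D) _⟩
    show C.z ^ (fi d : ℕ) = C.z ^ DD.index
    have h1 : C.z ^ DD.index = C.z ^ (fi d : ℕ) * C.zz ^ (fj d : ℕ) := hfij d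
    have h2 := huniq ⟨DD.index % 3, Nat.mod_lt _ (by norm_num)⟩ 0 (fi d) (fj d) (by
      show C.z ^ (DD.index % 3) * C.zz ^ 0 = _
      rw [← h1, pow_zero, mul_one]
      conv_rhs => rw [← Nat.mod_add_div DD.index 3, pow_add, pow_mul, C.z_exp, one_pow, mul_one])
    rw [← h2]
    show C.z ^ (DD.index % 3) = _
    conv_rhs => rw [← Nat.mod_add_div DD.index 3, pow_add, pow_mul, C.z_exp, one_pow, mul_one]
  -- normalise
  obtain ⟨m, hm⟩ : ∃ m : ℕ, DD.index * m % 3 = 1 := by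
    have h3 : ¬ 3 ∣ DD.index := C.index_D_coprime
    rcases (by omega : DD.index % 3 = 1 ∨ DD.index % 3 = 2) with h | h
    · exact ⟨1, by rw [mul_one]; exact h⟩
    · exact ⟨2, by rw [Nat.mul_mod, h]⟩
  refine ⟨(powMonoidHom m).comp χ, ?_, ?_⟩
  · show ((χ ⟨C.z, C.z_CZ⟩ ^ m : Subgroup.zpowers C.z) : G) = C.z
    rw [hχz]
    push_cast
    show (C.z ^ DD.index) ^ m = C.z
    rw [← pow_mul, ← Nat.mod_add_div (DD.index * m) 3, hm, pow_add, pow_one, pow_mul, C.z_exp,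
      one_pow, mul_one]
  · show χ ⟨C.t, C.t_CZ⟩ ^ m = 1
    have h2 : χ ⟨C.t, C.t_CZ⟩ ^ 2 = 1 := by
      rw [← map_pow, show (⟨C.t, C.t_CZ⟩ : C.CZ) ^ 2 = 1 from Subtype.ext (by
        push_cast; rw [pow_two, C.t_sq]), map_one]
    have h3 : χ ⟨C.t, C.t_CZ⟩ ^ 3 = 1 := by
      have := pow_card_eq_one' (x := χ ⟨C.t, C.t_CZ⟩)
      rwa [C.toLoc.card_zpow] at this
    rw [eq_one_of_pow_coprime h2 h3 (by norm_num), one_pow]

end LocC

end Cfsg.Lib.McLThree
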