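import Cfsg.Agent.Lib.Recog.Icosahedral

/-!
Finite facts about the binary icosahedral group and the symmetric group of degree five.
-/

set_option autoImplicit false

namespace Cfsg.Lib.McLThree

open Equiv Cfsg.Lib.Recog.Icosa

theorem sl_neg_unique : ∀ A : SL25, A * A = 1 → A = 1 ∨ A = gensSL 2 := by
  decide +kernel

theorem sl_centre : gensSL 2 * gensSL 2 = 1 ∧ gensSL 2 ≠ 1 ∧ (∀ A : SL25, A * gensSL 2 = gensSL 2 * A) ∧
    gensSL 1 ^ 5 = 1 ∧ gensSL 1 ≠ 1 ∧ gensSL 0 ^ 3 = 1 ∧ gensSL 0 ≠ 1 := by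
  decide +kernel

theorem sl_three_moved : ∀ A : SL25, A ^ 3 = 1 → A ≠ 1 →
    ∃ i : Fin 2, ![gensSL 0, gensSL 1] i * A * (![gensSL 0, gensSL 1] i)⁻¹ * A ≠
      A * (![gensSL 0, gensSL 1] i * A * (![gensSL 0, gensSL 1] i)⁻¹) := by
  decide +kernel

theorem sl_three_cent : ∀ A : SL25, A ^ 3 = 1 → A ≠ 1 → ∀ B : SL25, B * A = A * B →
    B ^ 6 = 1 := by
  decide +kernel

theorem sl_three_inv : ∀ A : SL25, A ^ 3 = 1 → A ≠ 1 → ∀ B : SL25, B * A * B⁻¹ = A⁻¹ →
    B * B = gensSL 2 := by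
  decide +kernel

theorem sl_three_word : ∀ A : SL25, A ^ 3 = 1 → ∀ B : SL25, B ^ 3 = 1 → A * B ≠ B * A →
    ∃ n : Fin 12, (A * B) ^ (n : ℕ) = gensSL 2 ∨ (A * B⁻¹) ^ (n : ℕ) = gensSL 2 := by
  decide +kernel

/-- first generator of the alternating group of degree five -/
def a5 : alternatingGroup (Fin 5) := ⟨c[(0 : Fin 5), 3, 2], Equiv.Perm.mem_alternatingGroup.2 (by decide)⟩

/-- second generator of the alternating group of degree five -/
def b5 : alternatingGroup (Fin 5) :=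
  ⟨c[(0 : Fin 5), 1, 2, 3, 4], Equiv.Perm.mem_alternatingGroup.2 (by decide)⟩

/-- products of at most `n` generators -/
def words : ℕ → Finset (alternatingGroup (Fin 5))
  | 0 => {1}
  | n + 1 => words n ∪ (words n).image (· * a5) ∪ (words n).image (· * b5)

theorem words_le (H : Subgroup (alternatingGroup (Fin 5))) (ha : a5 ∈ H) (hb : b5 ∈ H) :
    ∀ n, ∀ g ∈ words n, g ∈ H := by
  intro n
  induction n with
  | zero => intro g hg; simp [words] at hg; exact hg ▸ one_mem H
  | succ n ih =>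
    intro g hg
    simp only [words, Finset.mem_union, Finset.mem_image] at hg
    rcases hg with (h | ⟨w, hw, rfl⟩) | ⟨w, hw, rfl⟩
    · exact ih g h
    · exact mul_mem (ih w hw) ha
    · exact mul_mem (ih w hw) hb

theorem words_all : ∀ g : alternatingGroup (Fin 5), g ∈ words 12 := by
  decide +kernel

/-- The double cover map from `SL(2,5)` onto the alternating group of degree five. -/
theorem exists_sl_to_alt :
    ∃ π : SL25 →* alternatingGroup (Fin 5), Function.Surjective π ∧ π (gensSL 2) = 1 ∧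
      ∀ A, π A = 1 → A = 1 ∨ A = gensSL 2 := by
  obtain ⟨hfin, -⟩ := finite_presented_120
  let e := MulEquiv.ofBijective (PresentedGroup.toGroup gensSL_rels)
    ((Nat.bijective_iff_surjective_and_card _).2 ⟨toGroup_surjective, by
      have h := finite_presented_120.2
      have h' := Nat.card_le_card_of_surjective _ toGroup_surjective
      rw [card_sl_two_five] at h' ⊢
      omega⟩)
  let u : Fin 3 → alternatingGroup (Fin 5) := ![a5, b5, 1]
  have hu : ∀ r ∈ rels120, FreeGroup.lift u r = 1 :=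
    lift_rels120 u (by decide +kernel) (by decide +kernel) (by decide +kernel) (by decide +kernel)
      (by decide +kernel) (by decide +kernel)
  let π : SL25 →* alternatingGroup (Fin 5) := (PresentedGroup.toGroup hu).comp e.symm.toMonoidHom
  have hπ : ∀ i, π (gensSL i) = u i := by
    intro i
    have h1 : e (PresentedGroup.of i) = gensSL i := PresentedGroup.toGroup.of gensSL_rels
    show PresentedGroup.toGroup hu (e.symm (gensSL i)) = u i
    rw [← h1, e.symm_apply_apply]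
    exact PresentedGroup.toGroup.of hu
  have hsurj : Function.Surjective π := by
    intro g
    exact words_le π.range ⟨_, hπ 0⟩ ⟨_, hπ 1⟩ 12 g (words_all g)
  refine ⟨π, hsurj, hπ 2, fun A hA => ?_⟩
  have hcard : Nat.card π.ker = 2 := by
    have h1 := π.ker.card_mul_index
    rw [Subgroup.index_ker, MonoidHom.range_eq_top.2 hsurj, Subgroup.card_top, card_sl_two_five,
      nat_card_alternatingGroup, Nat.card_fin] at h1
    rw [show (5 : ℕ).factorial / 2 = 60 from rfl] at h1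
    omega
  apply sl_neg_unique
  have h2 : (⟨A, MonoidHom.mem_ker.2 hA⟩ : π.ker) ^ Nat.card π.ker = 1 := pow_card_eq_one'
  rw [hcard, pow_two] at h2
  exact congrArg Subtype.val h2

theorem five_three_conj : ∀ p : Perm (Fin 5), p ^ 3 = 1 → p ≠ 1 →
    ∃ c : Perm (Fin 5), c * p * c⁻¹ = c[(0 : Fin 5), 1, 2] := by
  decide +kernel

theorem five_three_cent : ∀ q : Perm (Fin 5), q * c[(0 : Fin 5), 1, 2] = c[(0 : Fin 5), 1, 2] * q →
    ∃ a : Fin 3, ∃ b : Fin 2, q = c[(0 : Fin 5), 1, 2] ^ (a : ℕ) * Equiv.swap 3 4 ^ (b : ℕ) := by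
  decide +kernel

theorem five_basic :
    Equiv.swap (3 : Fin 5) 4 * c[(0 : Fin 5), 1, 2] = c[(0 : Fin 5), 1, 2] * Equiv.swap 3 4 ∧
    (c[(1 : Fin 5), 2] * c[(3 : Fin 5), 4]) * c[(0 : Fin 5), 1, 2] *
      (c[(1 : Fin 5), 2] * c[(3 : Fin 5), 4])⁻¹ = c[(0 : Fin 5), 1, 2]⁻¹ ∧
    Perm.sign (c[(1 : Fin 5), 2] * c[(3 : Fin 5), 4]) = 1 ∧
    Perm.sign (Equiv.swap (3 : Fin 5) 4) = -1 := by
  decide +kernel

end Cfsg.Lib.McLThree
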