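import Cfsg.Agent.Lib.McLThree.Tools
import Cfsg.Agent.Lib.McLThree.AltSix
import Cfsg.Agent.Lib.McLThree.SmallFive

/-!
The local data of the 3-local recognition of the McLaughlin group and their first consequences.
-/

set_option autoImplicit false
set_option linter.unusedSectionVars false
set_option linter.style.haveILetI false

namespace Cfsg.Lib.McLThree

open Cfsg.Lib.Recog.Icosa
open Cfsg.Lib.AltEightThree (mem_cent_singleton conj_mem_normalizer mem_normalizer_of_forall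
  mem_normalizer_of_cent)

/-- The 3-local configuration. -/
structure Loc (G : Type*) [Group G] where
  /-- Sylow 3-subgroup -/
  S : Sylow 3 G
  /-- generator of the centre of `S` -/
  z : G
  /-- the elementary abelian group of order 81 -/
  J : Subgroup G
  /-- the extraspecial group of order 243 -/
  Q : Subgroup G
  /-- the group generated by the 3-elements of the normaliser of `J` -/
  M : Subgroup G
  /-- the group generated by the 3-elements of the centraliser of `z` -/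
  L : Subgroup G
  S_card : Nat.card (S : Subgroup G) = 729
  J_le : J ≤ S
  J_comm : ∀ a ∈ J, ∀ b ∈ J, a * b = b * a
  J_exp : ∀ a ∈ J, a ^ 3 = 1
  J_card : Nat.card J = 81
  Q_le : Q ≤ S
  Q_card : Nat.card Q = 243
  Q_exp : ∀ a ∈ Q, a ^ 3 = 1
  Q_comm : ∀ a ∈ Q, ∀ b ∈ Q, a * b * a⁻¹ * b⁻¹ ∈ Subgroup.zpowers z
  Q_centre : ∀ a ∈ Q, (∀ b ∈ Q, a * b = b * a) → a ∈ Subgroup.zpowers z
  z_mem : z ∈ Q
  z_exp : z ^ 3 = 1
  z_ne : z ≠ 1
  z_S : ∀ s ∈ (S : Subgroup G), s * z = z * s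
  S_centre : ∀ s ∈ (S : Subgroup G), (∀ r ∈ (S : Subgroup G), s * r = r * s) →
    s ∈ Subgroup.zpowers z
  Q_norm : ∀ g ∈ Subgroup.normalizer (Subgroup.zpowers z : Set G), ∀ q ∈ Q, g * q * g⁻¹ ∈ Q
  Q_cent : ∀ g, (∀ q ∈ Q, g * q = q * g) → g ∈ Q
  M_norm : M ≤ Subgroup.normalizer (J : Set G)
  M_conj : ∀ g ∈ Subgroup.normalizer (J : Set G), ∀ m ∈ M, g * m * g⁻¹ ∈ M
  M_three : ∀ g ∈ Subgroup.normalizer (J : Set G), ∀ k : ℕ, g ^ 3 ^ k = 1 → g ∈ M
  L_cent : ∀ l ∈ L, l * z = z * l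
  L_conj : ∀ g ∈ Subgroup.normalizer (Subgroup.zpowers z : Set G), ∀ l ∈ L, g * l * g⁻¹ ∈ L
  L_three : ∀ g, g * z = z * g → ∀ k : ℕ, g ^ 3 ^ k = 1 → g ∈ L
  /-- the map onto the alternating group of degree six -/
  φ : M →* ASix
  φ_surj : Function.Surjective φ
  φ_ker : ∀ m : M, φ m = 1 ↔ (m : G) ∈ J
  /-- the map onto the binary icosahedral group -/
  ψ : L →* SL25
  ψ_surj : Function.Surjective ψ
  ψ_ker : ∀ l : L, ψ l = 1 ↔ (l : G) ∈ Q

variable {G : Type*} [Group G] [Finite G] (D : Loc G)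

namespace Loc

theorem three_pow {g : G} {P : Subgroup G} (hP : IsPGroup 3 P) (hg : g ∈ P) :
    ∃ k : ℕ, g ^ 3 ^ k = 1 := by
  obtain ⟨k, hk⟩ := hP ⟨g, hg⟩
  exact ⟨k, congrArg Subtype.val hk⟩

include D in
theorem card_three_le {P : Subgroup G} (hP : IsPGroup 3 P) : Nat.card P ≤ 729 := by
  haveI : Fact (Nat.Prime 3) := ⟨Nat.prime_three⟩
  obtain ⟨T, hT⟩ := hP.exists_le_sylow
  calc Nat.card P ≤ Nat.card (T : Subgroup G) := Nat.le_of_dvd Nat.card_pos (Subgroup.card_dvd_of_le hT)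
    _ = 729 := by rw [T.card_eq_multiplicity, ← Sylow.card_eq_multiplicity D.S, D.S_card]

theorem zpow_comm_z {x : G} (hx : x ∈ Subgroup.zpowers D.z) (g : G) (hg : g * D.z = D.z * g) :
    g * x = x * g := by
  obtain ⟨i, rfl⟩ := hx
  exact (Commute.zpow_right hg i).eq

theorem zpow_mem_Q {x : G} (hx : x ∈ Subgroup.zpowers D.z) : x ∈ D.Q :=
  (Subgroup.zpowers_le.2 D.z_mem) hx

theorem Q_z {q : G} (hq : q ∈ D.Q) : q * D.z = D.z * q := D.z_S q (D.Q_le hq)

theorem card_zpow : Nat.card (Subgroup.zpowers D.z) = 3 := by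
  rw [Nat.card_zpowers]
  exact orderOf_eq_prime D.z_exp D.z_ne

theorem cent_norm {g : G} (hg : g * D.z = D.z * g) :
    g ∈ Subgroup.normalizer (Subgroup.zpowers D.z : Set G) := mem_normalizer_of_cent hg

theorem Q_conj {g q : G} (hg : g * D.z = D.z * g) (hq : q ∈ D.Q) : g * q * g⁻¹ ∈ D.Q :=
  D.Q_norm g (D.cent_norm hg) q hq

theorem card_L : Nat.card D.L = 29160 := by
  have h := D.ψ.ker.card_mul_index
  have hk : Nat.card D.ψ.ker = 243 := by
    rw [← D.Q_card]
    refine Nat.card_congr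
      { toFun := fun l => ⟨((l : D.L) : G), (D.ψ_ker _).1 l.2⟩
        invFun := fun q => ⟨⟨(q : G), D.L_three q (D.Q_z q.2) 1 (by simpa using D.Q_exp q q.2)⟩,
          (D.ψ_ker _).2 q.2⟩
        left_inv := fun x => rfl
        right_inv := fun x => rfl }
  rw [hk, Subgroup.index_ker, MonoidHom.range_eq_top.2 D.ψ_surj, Subgroup.card_top,
    card_sl_two_five] at h
  exact h.symm

theorem Q_le_L {q : G} (hq : q ∈ D.Q) : q ∈ D.L :=
  D.L_three q (D.Q_z hq) 1 (by simpa using D.Q_exp q hq)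

theorem ψ_of_mem_Q {q : G} (hq : q ∈ D.Q) (h : q ∈ D.L) : D.ψ ⟨q, h⟩ = 1 := (D.ψ_ker _).2 hq

/-- Commutation modulo the centre of `Q`. -/
def Triv (g : G) (q : G) : Prop := g * q * g⁻¹ * q⁻¹ ∈ Subgroup.zpowers D.z

theorem exists_gens : ∃ F : Fin 4 → G, (∀ i, F i ∈ D.Q) ∧
    ∀ q ∈ D.Q, q ∈ Subgroup.closure (insert D.z (Set.range F)) := by
  classical
  have step : ∀ k ≤ 4, ∃ F : Fin 4 → G, (∀ i, F i ∈ D.Q) ∧
      3 ^ (k + 1) ≤ Nat.card (Subgroup.closure (insert D.z (F '' {i : Fin 4 | (i : ℕ) < k}))) := by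
    intro k hk
    induction k with
    | zero =>
      refine ⟨fun _ => 1, fun _ => one_mem _, ?_⟩
      have he : insert D.z ((fun _ : Fin 4 => (1 : G)) '' {i : Fin 4 | (i : ℕ) < 0}) = {D.z} := by
        simp
      rw [he, ← Subgroup.zpowers_eq_closure, D.card_zpow]
      norm_num
    | succ k ih =>
      obtain ⟨F, hF, hc⟩ := ih (by omega)
      set W := Subgroup.closure (insert D.z (F '' {i : Fin 4 | (i : ℕ) < k})) with hW
      have hWQ : W ≤ D.Q := by
        rw [hW, Subgroup.closure_le]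
        rintro x (rfl | ⟨i, -, rfl⟩)
        · exact D.z_mem
        · exact hF i
      by_cases hall : D.Q ≤ W
      · refine ⟨F, hF, ?_⟩
        calc 3 ^ (k + 1 + 1) ≤ 3 ^ 5 := Nat.pow_le_pow_right (by norm_num) (by omega)
          _ = Nat.card D.Q := by rw [D.Q_card]
          _ ≤ Nat.card W := Nat.le_of_dvd Nat.card_pos (Subgroup.card_dvd_of_le hall)
          _ ≤ _ := Nat.le_of_dvd Nat.card_pos (Subgroup.card_dvd_of_le (Subgroup.closure_mono
              (Set.insert_subset_insert (Set.image_mono (fun i (hi : (i : ℕ) < k) => by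
                show (i : ℕ) < k + 1
                omega)))))
      · obtain ⟨q, hq, hqW⟩ := SetLike.not_le_iff_exists.1 hall
        refine ⟨Function.update F ⟨k, by omega⟩ q, fun i => ?_, ?_⟩
        · rcases eq_or_ne i ⟨k, by omega⟩ with rfl | hi
          · simpa using hq
          · simpa [Function.update_of_ne hi] using hF i
        · set W' := Subgroup.closure (insert D.z
            (Function.update F ⟨k, by omega⟩ q '' {i : Fin 4 | (i : ℕ) < k + 1})) with hW'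
          have hle : W ≤ W' := by
            rw [hW, Subgroup.closure_le]
            rintro x (rfl | ⟨i, hi, rfl⟩)
            · exact Subgroup.subset_closure (Set.mem_insert _ _)
            · have hi' : (i : ℕ) < k := hi
              refine Subgroup.subset_closure (Set.mem_insert_of_mem _ ⟨i, Nat.lt_succ_of_lt hi', ?_⟩)
              exact Function.update_of_ne (fun e => by simp [e] at hi') _ _
          have hqW' : q ∈ W' := Subgroup.subset_closure (Set.mem_insert_of_mem _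
            ⟨⟨k, by omega⟩, Nat.lt_succ_self k, Function.update_self _ _ _⟩)
          have hne : W.relIndex W' ≠ 1 := fun e => hqW ((Subgroup.relIndex_eq_one.1 e) hqW')
          have hW'Q : W' ≤ D.Q := by
            rw [hW', Subgroup.closure_le]
            rintro x (rfl | ⟨i, -, rfl⟩)
            · exact D.z_mem
            · rcases eq_or_ne i ⟨k, by omega⟩ with rfl | hi
              · simpa using hq
              · simpa [Function.update_of_ne hi] using hF i
          have hdvd : W.relIndex W' ∣ 243 := by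
            rw [← D.Q_card]
            exact (Dvd.intro_left _ (card_mul_relIndex hle)).trans (Subgroup.card_dvd_of_le hW'Q)
          have h3 : 3 ≤ W.relIndex W' := by
            obtain ⟨j, hj, he⟩ := (Nat.dvd_prime_pow Nat.prime_three (m := 5)).1
              (by norm_num; exact hdvd)
            rw [he] at hne ⊢
            exact Nat.le_self_pow (fun e => hne (by rw [e, pow_zero])) 3
          calc 3 ^ (k + 1 + 1) = 3 ^ (k + 1) * 3 := pow_succ 3 (k + 1)
            _ ≤ Nat.card W * W.relIndex W' := Nat.mul_le_mul hc h3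
            _ = Nat.card W' := card_mul_relIndex hle
  obtain ⟨F, hF, hc⟩ := step 4 le_rfl
  refine ⟨F, hF, ?_⟩
  set W := Subgroup.closure (insert D.z (F '' {i : Fin 4 | (i : ℕ) < 4})) with hW
  have hWQ : W ≤ D.Q := by
    rw [hW, Subgroup.closure_le]
    rintro x (rfl | ⟨i, -, rfl⟩)
    · exact D.z_mem
    · exact hF i
  have heq : W = D.Q := Subgroup.eq_of_le_of_card_ge hWQ (by rw [D.Q_card]; simpa using hc)
  intro q hq
  rw [← heq, hW] at hq
  refine Subgroup.closure_mono (Set.insert_subset_insert ?_) hq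
  rintro x ⟨i, -, rfl⟩
  exact ⟨i, rfl⟩

theorem triv_mul {g h q : G} (hg : g * D.z = D.z * g) (h1 : D.Triv g q) (h2 : D.Triv h q) :
    D.Triv (g * h) q ∧ (g * h) * q * (g * h)⁻¹ * q⁻¹ =
      g * q * g⁻¹ * q⁻¹ * (h * q * h⁻¹ * q⁻¹) := by
  have e : (g * h) * q * (g * h)⁻¹ * q⁻¹ = g * q * g⁻¹ * q⁻¹ * (h * q * h⁻¹ * q⁻¹) := by
    have hgc := D.zpow_comm_z h2 g hg
    have hcc : (h * q * h⁻¹ * q⁻¹) * (g * q * g⁻¹ * q⁻¹) =
        (g * q * g⁻¹ * q⁻¹) * (h * q * h⁻¹ * q⁻¹) := by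
      obtain ⟨i, hi⟩ := h1
      obtain ⟨j, hj⟩ := h2
      simp only at hi hj
      rw [← hi, ← hj, ← zpow_add, ← zpow_add, add_comm]
    calc (g * h) * q * (g * h)⁻¹ * q⁻¹
        = g * (h * q * h⁻¹ * q⁻¹) * (q * g⁻¹ * q⁻¹) := by group
      _ = (h * q * h⁻¹ * q⁻¹) * (g * q * g⁻¹ * q⁻¹) := by rw [hgc]; group
      _ = _ := hcc
  exact ⟨by rw [Triv, e]; exact mul_mem h1 h2, e⟩

theorem triv_Q {g q : G} (hg : g ∈ D.Q) (hq : q ∈ D.Q) : D.Triv g q := D.Q_comm g hg q hq

theorem triv_one (q : G) : D.Triv 1 q := by simp [Triv]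

theorem triv_right_mul {g a b : G} (ha : D.Triv g a) (hb : D.Triv g b) (haQ : a ∈ D.Q) :
    D.Triv g (a * b) := by
  have hc := D.zpow_comm_z hb a (D.Q_z haQ)
  have e : g * (a * b) * g⁻¹ * (a * b)⁻¹ =
      g * a * g⁻¹ * a⁻¹ * (g * b * g⁻¹ * b⁻¹) := by
    calc g * (a * b) * g⁻¹ * (a * b)⁻¹ = g * a * g⁻¹ * ((g * b * g⁻¹ * b⁻¹) * a⁻¹) := by group
      _ = g * a * g⁻¹ * (a⁻¹ * (g * b * g⁻¹ * b⁻¹)) := by
          congr 1
          exact (Commute.inv_left hc).eq.symm
      _ = _ := by group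
  show _ ∈ Subgroup.zpowers D.z
  rw [e]
  exact mul_mem ha hb

/-- The elements of `Q` fixed modulo the centre by `g`. -/
def fixQ (g : G) (hg : g * D.z = D.z * g) : Subgroup G where
  carrier := {q | q ∈ D.Q ∧ D.Triv g q}
  one_mem' := ⟨one_mem _, by simp [Triv]⟩
  mul_mem' := fun {a b} ha hb => ⟨mul_mem ha.1 hb.1, D.triv_right_mul ha.2 hb.2 ha.1⟩
  inv_mem' := fun {a} ha => ⟨inv_mem ha.1, by
    have hc := D.zpow_comm_z (inv_mem ha.2) a⁻¹ ((Commute.inv_left (D.Q_z ha.1)).eq)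
    show g * a⁻¹ * g⁻¹ * a⁻¹⁻¹ ∈ Subgroup.zpowers D.z
    have e : g * a⁻¹ * g⁻¹ * a⁻¹⁻¹ = (g * a * g⁻¹ * a⁻¹)⁻¹ := by
      calc g * a⁻¹ * g⁻¹ * a⁻¹⁻¹ = a⁻¹ * (g * a * g⁻¹ * a⁻¹)⁻¹ * a := by group
        _ = _ := by rw [hc, inv_mul_cancel_right]
    rw [e]
    exact inv_mem ha.2⟩

theorem mem_fixQ {g : G} {hg : g * D.z = D.z * g} {q : G} :
    q ∈ D.fixQ g hg ↔ q ∈ D.Q ∧ D.Triv g q := Iff.rfl

theorem z_fixQ {g : G} (hg : g * D.z = D.z * g) : D.z ∈ D.fixQ g hg :=
  ⟨D.z_mem, by rw [Triv, hg]; simp⟩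

theorem fixQ_le {g : G} (hg : g * D.z = D.z * g) : D.fixQ g hg ≤ D.Q := fun _ h => h.1

theorem zpow_conj_eq {g : G} (hg : g * D.z = D.z * g) {x : G} (hx : x ∈ Subgroup.zpowers D.z) :
    g * x * g⁻¹ = x := by rw [D.zpow_comm_z hx g hg, mul_inv_cancel_right]

theorem mem_Q_of_triv {g : G} (hg : g * D.z = D.z * g) (h : ∀ q ∈ D.Q, D.Triv g q) : g ∈ D.Q := by
  obtain ⟨F, hF, hgen⟩ := D.exists_gens
  haveI : IsMulCommutative (Subgroup.zpowers D.z) := inferInstance
  let G1 : Subgroup G :=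
    { carrier := {x | x * D.z = D.z * x ∧ ∀ q ∈ D.Q, D.Triv x q}
      one_mem' := ⟨by simp, fun q _ => D.triv_one q⟩
      mul_mem' := fun {a b} ha hb =>
        ⟨(Commute.mul_left ha.1 hb.1).eq, fun q hq => (D.triv_mul ha.1 (ha.2 q hq) (hb.2 q hq)).1⟩
      inv_mem' := fun {a} ha => ⟨(Commute.inv_left ha.1).eq, fun q hq => by
        have e : a⁻¹ * q * a⁻¹⁻¹ * q⁻¹ = a⁻¹ * (a * q * a⁻¹ * q⁻¹)⁻¹ * a := by group
        show _ ∈ Subgroup.zpowers D.z
        rw [e, D.zpow_comm_z (inv_mem (ha.2 q hq)) a⁻¹ (Commute.inv_left ha.1).eq,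
          inv_mul_cancel_right]
        exact inv_mem (ha.2 q hq)⟩ }
  let Θ : G1 →* (Fin 4 → Subgroup.zpowers D.z) :=
    { toFun := fun x i => ⟨(x : G) * F i * (x : G)⁻¹ * (F i)⁻¹, x.2.2 _ (hF i)⟩
      map_one' := funext fun i => Subtype.ext (by simp)
      map_mul' := fun x y => funext fun i => Subtype.ext
        (D.triv_mul x.2.1 (x.2.2 _ (hF i)) (y.2.2 _ (hF i))).2 }
  have hker : ∀ x : G1, Θ x = 1 → (x : G) ∈ Subgroup.zpowers D.z := by
    intro x hx
    have hall : ∀ q ∈ D.Q, (x : G) * q = q * x := by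
      intro q hq
      have hle : Subgroup.closure (insert D.z (Set.range F)) ≤
          Subgroup.centralizer ({(x : G)} : Set G) := by
        rw [Subgroup.closure_le]
        rintro w (rfl | ⟨i, rfl⟩)
        · exact mem_cent_singleton.2 x.2.1.symm
        · have h0 := congrArg Subtype.val (congrFun hx i)
          simp only [Pi.one_apply, OneMemClass.coe_one] at h0
          have h1 : (x : G) * F i * (x : G)⁻¹ * (F i)⁻¹ = 1 := h0
          exact mem_cent_singleton.2 (mul_inv_eq_iff_eq_mul.1 (mul_inv_eq_one.1 h1)).symm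
      exact (mem_cent_singleton.1 (hle (hgen q hq))).symm
    exact D.Q_centre x (D.Q_cent x hall) hall
  have hcard : Nat.card G1 ≤ 243 := by
    have h1 := Θ.ker.card_mul_index
    rw [Subgroup.index_ker] at h1
    have h2 : Nat.card Θ.ker ≤ 3 := by
      rw [← D.card_zpow]
      exact Nat.card_le_card_of_injective (fun x => (⟨_, hker x.1 x.2⟩ : Subgroup.zpowers D.z))
        (fun a b e => Subtype.ext (Subtype.ext (Subtype.mk.inj e)))
    have h3 : Nat.card Θ.range ≤ 81 := by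
      refine (Nat.card_le_card_of_injective _ Subtype.val_injective).trans ?_
      rw [Nat.card_pi]
      simp [Finset.prod_const, D.card_zpow]
    calc Nat.card G1 = Nat.card Θ.ker * Nat.card Θ.range := h1.symm
      _ ≤ 3 * 81 := Nat.mul_le_mul h2 h3
  have hle : D.Q ≤ G1 := fun a ha => ⟨D.Q_z ha, fun q hq => D.triv_Q ha hq⟩
  have heq : D.Q = G1 := Subgroup.eq_of_le_of_card_ge hle (by rwa [D.Q_card])
  rw [heq]
  exact ⟨hg, h⟩

end Loc

end Cfsg.Lib.McLThree
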