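import Cfsg.Agent.Lib.McLThree.NormD
import Cfsg.Agent.S3329
import Cfsg.Agent.S3334
import Cfsg.Agent.Lib.Core.Cores

/-!
When every element of `C(z, t)` induces an even permutation, `C(t)` is the double cover of the
alternating group of degree eight and `G` is the McLaughlin group.
-/

set_option autoImplicit false
set_option linter.style.haveILetI false
set_option linter.unusedSectionVars false

namespace Cfsg.Lib.McLThree

open Equiv Cfsg.Lib.Recog.Icosa
open Cfsg.Lib.AltEightThree (mem_cent_singleton conj_mem_normalizer mem_normalizer_of_forall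
  mem_normalizer_of_cent)

universe v

variable {G : Type v} [Group G] [Finite G]

namespace LocC

variable (C : LocC G)

theorem even_cent_Dbar (hev : C.EvenType) :
    Subgroup.centralizer (C.Dbar : Set C.Bar) = C.Dbar := by
  apply le_antisymm
  · intro g hg
    obtain ⟨x, hx, rfl⟩ := C.exists_bar g
    obtain ⟨hz, hzz⟩ := C.cent_of_bar hx hg
    exact C.bar_cent_even (g := ⟨x, C.mem_CZ hz hx⟩) (hev _) hzz hx
  · intro g hg
    exact Subgroup.mem_centralizer_iff.2 (fun d hd => C.Dbar_comm d hd g hg)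

theorem even_eC (hev : C.EvenType) :
    Nonempty (Subgroup.centralizer ({C.pbar 0} : Set C.Bar) ≃*
      Multiplicative (ZMod 3) × alternatingGroup (Fin 5)) := by
  obtain ⟨χ, hχz, hχt⟩ := C.exists_chi
  obtain ⟨e⟩ := C.cent_z_equiv χ hχz hχt
  haveI : Fact (Nat.Prime 3) := ⟨Nat.prime_three⟩
  let i3 : Multiplicative (ZMod 3) ≃* Subgroup.zpowers C.z :=
    mulEquivOfPrimeCardEq (p := 3) (by simp) C.toLoc.card_zpow
  let ι : Multiplicative (ZMod 3) × alternatingGroup (Fin 5) →* Subgroup.zpowers C.z × Perm (Fin 5) :=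
    i3.toMonoidHom.prodMap (alternatingGroup (Fin 5)).subtype
  have hι : Function.Injective ι := by
    intro a b h
    exact Prod.ext (i3.injective (congrArg Prod.fst h)) (Subtype.ext (congrArg (fun p => p.2) h))
  have hrange : ι.range = (MonoidHom.prod χ C.ρz).range := by
    apply le_antisymm
    · rintro _ ⟨⟨a, p⟩, rfl⟩
      obtain ⟨k, hk⟩ := C.exists_CZ (Perm.mem_alternatingGroup.1 p.2)
      obtain ⟨g, hg1, hg2⟩ := C.cent_range χ hχz (i3 a) k
      exact ⟨g, Prod.ext hg1 (hg2.trans hk)⟩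
    · rintro _ ⟨g, rfl⟩
      exact ⟨(i3.symm (χ g), ⟨C.ρz g, Perm.mem_alternatingGroup.2 (hev g)⟩),
        Prod.ext (i3.apply_symm_apply _) rfl⟩
  exact ⟨e.trans ((MulEquiv.subgroupCongr hrange.symm).trans (MonoidHom.ofInjective hι).symm)⟩

theorem even_eL (hev : C.EvenType) :
    Nonempty (Subgroup.normalizer (Subgroup.zpowers (C.pbar 0) : Set C.Bar) ≃*
      (((Equiv.Perm.sign).comp (MonoidHom.fst (Equiv.Perm (Fin 3)) (Equiv.Perm (Fin 5)))) *
        ((Equiv.Perm.sign).comp (MonoidHom.snd (Equiv.Perm (Fin 3)) (Equiv.Perm (Fin 5))))).ker) := by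
  obtain ⟨χ, f, hχz, hχt, hft, hχf, ⟨hfz3, hfz1⟩, hinv, hker⟩ := C.exists_f
  obtain ⟨e⟩ := C.norm_z_equiv f hft hker
  refine ⟨e.trans (MulEquiv.subgroupCongr ?_)⟩
  set zN : C.NZ := ⟨C.z, C.CZ_le C.z_CZ⟩
  set hN : C.NZ := ⟨C.h, C.h_NZ⟩
  have hρz : C.ρ zN = 1 := (C.ρ_L (C.CZ_le C.z_CZ) (C.toLoc.Q_le_L C.z_mem)).trans (C.π_z _)
  have hhodd : Perm.sign (C.ρ hN) = -1 := C.h_odd
  have hfh : Perm.sign (f hN) = -1 := three_invert_sign _ _ hfz3 hfz1 hinv
  have hclean : ∀ k : C.CZ, ∃ i : ℕ, f (Subgroup.inclusion C.CZ_le k) = f zN ^ i := by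
    intro k
    obtain ⟨m, hm⟩ := mem_powers_iff_mem_zpowers.2 (χ k).2
    simp only at hm
    refine ⟨m, ?_⟩
    have h1 : χ (((⟨C.z, C.z_CZ⟩ : C.CZ) ^ m)⁻¹ * k) = 1 := by
      rw [map_mul, map_inv, map_pow, inv_mul_eq_one]
      exact Subtype.ext (by push_cast; rw [hχz]; exact hm)
    have h2 := hχf _ h1
    rw [map_mul, map_inv, map_pow, map_mul, map_inv, map_pow, inv_mul_eq_one] at h2
    exact h2.symm
  have hsz : Perm.sign (f zN) = 1 := by
    have h2 := congrArg Perm.sign hfz3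
    rw [map_pow, map_one] at h2
    rcases Int.units_eq_one_or (Perm.sign (f zN)) with h | h
    · exact h
    · rw [h] at h2; exact absurd h2 (by decide)
  apply le_antisymm
  · rintro _ ⟨g, rfl⟩
    rw [MonoidHom.mem_ker]
    show Perm.sign (f g) * Perm.sign (C.ρ g) = 1
    rcases C.NZ_form g.2 with h | h
    · obtain ⟨i, hi⟩ := hclean ⟨g, h⟩
      rw [show f g = f zN ^ i from hi, map_pow, hsz, one_pow, one_mul]
      exact hev ⟨g, h⟩
    · obtain ⟨i, hi⟩ := hclean ⟨_, h⟩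
      have e : g = hN * Subgroup.inclusion C.CZ_le ⟨_, h⟩ := Subtype.ext (by
        show (g : G) = C.h * (C.h⁻¹ * (g : G)); group)
      rw [e, map_mul, map_mul, map_mul, map_mul, hi, map_pow, hsz, one_pow, mul_one, hfh, hhodd,
        show Perm.sign (C.ρ (Subgroup.inclusion C.CZ_le ⟨_, h⟩)) = 1 from hev ⟨_, h⟩]
      decide
  · rintro ⟨σ, p⟩ hp
    rw [MonoidHom.mem_ker] at hp
    have hp' : Perm.sign σ * Perm.sign p = 1 := hp
    obtain ⟨b, i, hσ, hs⟩ := three_all _ _ hfz3 hfz1 hinv σ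
    have hpb : Perm.sign ((C.ρ hN ^ (b : ℕ))⁻¹ * p) = 1 := by
      rw [map_mul, map_inv, map_pow, hhodd]
      rw [hs] at hp'
      rw [Int.units_inv_eq_self]
      exact hp'
    obtain ⟨k, hk⟩ := C.exists_CZ hpb
    obtain ⟨k', hk'1, hk'2⟩ := C.cent_range χ hχz 1 k
    refine ⟨hN ^ (b : ℕ) * zN ^ (i : ℕ) * Subgroup.inclusion C.CZ_le k', ?_⟩
    refine Prod.ext ?_ ?_
    · show f _ = σ
      rw [map_mul, map_mul, map_pow, map_pow, hχf k' hk'1, mul_one, hσ]
    · show C.ρ _ = p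
      rw [map_mul, map_mul, map_pow, map_pow, hρz, one_pow, mul_one,
        show C.ρ (Subgroup.inclusion C.CZ_le k') = _ from hk'2.trans hk, mul_inv_cancel_left]

theorem ybar_ne : C.ybar ≠ 1 := fun h => by
  rcases (C.bar_eq_one _).1 h with h' | h'
  · exact C.toLocH.y_ne h'
  · exact C.toLocT.t_ne (eq_one_of_pow_coprime (by rw [pow_two, C.t_sq])
      (by rw [← h']; exact C.D_exp (mul_mem C.z_D C.zz_D)) (by norm_num))

variable (hdec : C.toLocH.Dec)
include hdec

theorem y_norm {g : C.Bar}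
    (h : g * C.ybar * g⁻¹ = C.ybar ∨ g * C.ybar * g⁻¹ = C.ybar⁻¹) :
    g ∈ Subgroup.normalizer (C.Dbar : Set C.Bar) := by
  -- reduce to an element fixing `ȳ`
  have key : ∀ g : C.Bar, g * C.ybar = C.ybar * g → g ∈ Subgroup.normalizer (C.Dbar : Set C.Bar) := by
    intro g hg
    obtain ⟨x, hx, rfl⟩ := C.exists_bar g
    have hy := C.comm_of_bar hx (C.D_comm_t (mul_mem C.z_D C.zz_D))
      (C.D_exp (mul_mem C.z_D C.zz_D)) hg
    exact C.bar_mem_norm hx (hdec C.y (Or.inl rfl) x hy hx)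
  rcases h with h | h
  · exact key g (mul_inv_eq_iff_eq_mul.1 h)
  · have hhD : C.h ∈ Subgroup.normalizer (C.FixD : Set G) :=
      C.norm_D_of (by rw [C.h_z]; exact inv_mem C.z_D) (by rw [C.h_zz]; exact inv_mem C.zz_D)
    set H := C.bar C.h C.toLocH.h_t with hH
    have hHy : H * C.ybar * H⁻¹ = C.ybar⁻¹ := by
      rw [hH, ybar, C.bar_conj, C.bar_inv]
      refine C.bar_congr ?_ _ _
      show C.h * (C.z * C.zz) * C.h⁻¹ = (C.z * C.zz)⁻¹
      rw [← conj_mul, C.h_z, C.h_zz, C.toLocH.z_zz, mul_inv_rev]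
    have h2 := key (H * g) (by
      apply mul_inv_eq_iff_eq_mul.1
      rw [← conj_conj, h, ← conj_inv, hHy, inv_inv])
    have h3 := mul_mem (inv_mem (C.bar_mem_norm C.toLocH.h_t hhD)) h2
    rwa [← hH, inv_mul_cancel_left] at h3

theorem even_bar_iso (hev : C.EvenType) : Nonempty (C.Bar ≃* alternatingGroup (Fin 8)) := by
  obtain ⟨P, hP⟩ := C.exists_sylow hdec
  obtain ⟨σ, hσ, hker⟩ := C.exists_sigma4 hdec
  obtain ⟨S, H, K, hS, hH, hK, hSv, hHv, -, hform⟩ := C.sigma4_form hdec σ hσ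
  have hcent := C.even_cent_Dbar hev
  have hkerD : ∀ g : Subgroup.normalizer (C.Dbar : Set C.Bar), σ g = 1 ↔ (g : C.Bar) ∈ C.Dbar :=
    fun g => (hker g).trans (by rw [hcent])
  have hσform : ∀ g, ∃ a b c : Fin 2,
      σ g = permS ^ (c : ℕ) * permH ^ (b : ℕ) * permK ^ (a : ℕ) := by
    intro g
    obtain ⟨a, b, c, e, he, rfl⟩ := hform g
    exact ⟨a, b, c, by simp only [map_mul, map_pow, hS, hH, hK, (hker e).2 he, mul_one]⟩
  have hrange : σ.range = dihHom.range := by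
    apply le_antisymm
    · rintro _ ⟨g, rfl⟩
      obtain ⟨a, b, c, h⟩ := hσform g
      rw [h]; exact perm_dih a b c
    · rintro _ ⟨d, rfl⟩
      obtain ⟨a, b, c, h⟩ := dih_perm d
      refine ⟨S ^ (c : ℕ) * H ^ (b : ℕ) * K ^ (a : ℕ), ?_⟩
      simp only [map_mul, map_pow, hS, hH, hK]
      exact h.symm
  haveI hnorm : (C.Dbar.subgroupOf (Subgroup.normalizer (C.Dbar : Set C.Bar))).Normal :=
    Subgroup.normal_in_normalizer
  obtain ⟨eN⟩ : Nonempty (Subgroup.normalizer (C.Dbar : Set C.Bar) ⧸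
      C.Dbar.subgroupOf (Subgroup.normalizer (C.Dbar : Set C.Bar)) ≃* DihedralGroup 4) := by
    have hk : σ.ker = C.Dbar.subgroupOf (Subgroup.normalizer (C.Dbar : Set C.Bar)) :=
      Subgroup.ext (fun g => (MonoidHom.mem_ker).trans (hkerD g))
    exact ⟨(QuotientGroup.quotientMulEquivOfEq hk.symm).trans
      ((QuotientGroup.quotientKerEquivRange σ).trans
        ((MulEquiv.subgroupCongr hrange).trans (MonoidHom.ofInjective dihHom_injective).symm))⟩
  have hDn : ∀ g : C.Bar, g ∈ C.Dbar → g ∈ Subgroup.normalizer (C.Dbar : Set C.Bar) :=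
    fun g hg => Subgroup.le_normalizer hg
  have hcnt : ∀ (U : Subgroup C.Bar) (hU : U ≤ Subgroup.normalizer (C.Dbar : Set C.Bar))
      (hD : C.Dbar ≤ U) (R : Finset (Perm (Fin 4))),
      (∀ p, p ∈ R ↔ ∃ g : U, σ ⟨g, hU g.2⟩ = p) → Nat.card U = 9 * R.card := by
    intro U hU hD R hR
    let τ : U →* Perm (Fin 4) := σ.comp (Subgroup.inclusion hU)
    have h1 := τ.ker.card_mul_index
    rw [Subgroup.index_ker] at h1
    have hk : Nat.card τ.ker = 9 := by
      rw [← C.card_Dbar]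
      exact Nat.card_congr
        { toFun := fun g => ⟨((g : U) : C.Bar), (hkerD ⟨_, hU (g : U).2⟩).1 g.2⟩
          invFun := fun d => ⟨⟨(d : C.Bar), hD d.2⟩, (hkerD ⟨_, hDn d d.2⟩).2 d.2⟩
          left_inv := fun _ => rfl
          right_inv := fun _ => rfl }
    have hr : Nat.card τ.range = R.card := by
      rw [← Nat.card_eq_finsetCard]
      exact Nat.card_congr (Equiv.subtypeEquivRight (fun p => (hR p).symm))
    rw [← h1, hk, hr]
  have hy : C.ybar ∈ C.Dbar := C.mem_Dbar.2 ⟨_, mul_mem C.z_D C.zz_D, rfl⟩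
  set Cy := Subgroup.centralizer ({C.ybar} : Set C.Bar) with hCy
  have hCyN : Cy ≤ Subgroup.normalizer (C.Dbar : Set C.Bar) := fun g hg =>
    C.y_norm hdec (Or.inl (by rw [mem_cent_singleton.1 hg, mul_inv_cancel_right]))
  have hSy : (S : C.Bar) * C.ybar * (S : C.Bar)⁻¹ = C.ybar :=
    (C.y_form hdec σ hσ S 0 0 1 (by rw [hS]; decide +kernel)).1.2 ⟨rfl, rfl⟩
  have hHy : (H : C.Bar) * C.ybar * (H : C.Bar)⁻¹ = C.ybar⁻¹ :=
    (C.y_form hdec σ hσ H 0 1 0 (by rw [hH]; decide +kernel)).2.2 ⟨rfl, rfl⟩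
  have hycard : Nat.card Cy = 18 := by
    rw [hcnt Cy hCyN (fun d hd => mem_cent_singleton.2 (C.Dbar_comm d hd _ hy)) {1, permS} ?_,
      show ({1, permS} : Finset (Perm (Fin 4))).card = 2 by decide +kernel]
    intro p
    constructor
    · intro hp
      rcases Finset.mem_insert.1 hp with rfl | hp
      · exact ⟨1, map_one σ⟩
      · rw [Finset.mem_singleton] at hp
        exact ⟨⟨S, mem_cent_singleton.2 (mul_inv_eq_iff_eq_mul.1 hSy)⟩, hp ▸ hS⟩
    · rintro ⟨g, rfl⟩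
      obtain ⟨a, b, c, h⟩ := hσform ⟨g, hCyN g.2⟩
      obtain ⟨rfl, rfl⟩ := (C.y_form hdec σ hσ ⟨g, hCyN g.2⟩ a b c h).1.1 (by
        rw [mem_cent_singleton.1 g.2, mul_inv_cancel_right])
      rw [h]
      clear h
      revert c; decide +kernel
  set Ny := Subgroup.normalizer (Subgroup.zpowers C.ybar : Set C.Bar) with hNy
  have hyinv : ∀ g ∈ Ny, g * C.ybar * g⁻¹ = C.ybar ∨ g * C.ybar * g⁻¹ = C.ybar⁻¹ := by
    intro g hg
    have h3 : C.ybar ^ 3 = 1 := by
      rw [ybar, C.bar_pow, C.bar_eq_one]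
      exact Or.inl (C.D_exp (mul_mem C.z_D C.zz_D))
    rcases zpow_mem_of_three h3 (conj_mem_normalizer hg (Subgroup.mem_zpowers _)) with h | h | h
    · exfalso
      have h' := conj_eq_one_iff.1 h
      exact C.ybar_ne h'
    · exact Or.inl h
    · exact Or.inr (h.trans (eq_inv_of_mul_eq_one_left (by rw [← pow_succ, h3])))
  have hNyN : Ny ≤ Subgroup.normalizer (C.Dbar : Set C.Bar) := fun g hg => C.y_norm hdec (hyinv g hg)
  have hmemNy : ∀ g : C.Bar, (g * C.ybar * g⁻¹ = C.ybar ∨ g * C.ybar * g⁻¹ = C.ybar⁻¹) → g ∈ Ny := by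
    intro g hg
    refine mem_normalizer_of_forall (fun x hx => ?_)
    obtain ⟨i, rfl⟩ := hx
    rw [← conj_zpow]
    rcases hg with h | h <;> rw [h]
    · exact zpow_mem (Subgroup.mem_zpowers _) i
    · exact zpow_mem (inv_mem (Subgroup.mem_zpowers _)) i
  have hDNy : C.Dbar ≤ Ny := fun d hd =>
    hmemNy d (Or.inl (by rw [C.Dbar_comm d hd _ hy, mul_inv_cancel_right]))
  have hNycard : Nat.card Ny = 36 := by
    rw [hcnt Ny hNyN hDNy {1, permS, permH, permS * permH} ?_,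
      show ({1, permS, permH, permS * permH} : Finset (Perm (Fin 4))).card = 4 by decide +kernel]
    intro p
    constructor
    · intro hp
      have hSN : (S : C.Bar) ∈ Ny := hmemNy _ (Or.inl hSy)
      have hHN : (H : C.Bar) ∈ Ny := hmemNy _ (Or.inr hHy)
      simp only [Finset.mem_insert, Finset.mem_singleton] at hp
      rcases hp with rfl | rfl | rfl | rfl
      · exact ⟨1, map_one σ⟩
      · exact ⟨⟨S, hSN⟩, hS⟩
      · exact ⟨⟨H, hHN⟩, hH⟩
      · refine ⟨⟨(S : C.Bar) * H, mul_mem hSN hHN⟩, ?_⟩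
        show σ (S * H) = _
        rw [map_mul, hS, hH]
    · rintro ⟨g, rfl⟩
      obtain ⟨a, b, c, h⟩ := hσform ⟨g, hNyN g.2⟩
      have ha : a = 0 := by
        rcases hyinv g g.2 with hg | hg
        · exact ((C.y_form hdec σ hσ ⟨g, hNyN g.2⟩ a b c h).1.1 hg).1
        · exact ((C.y_form hdec σ hσ ⟨g, hNyN g.2⟩ a b c h).2.1 hg).1
      subst ha
      rw [h]
      clear h
      revert b c; decide +kernel
  haveI hNyn : (C.Dbar.subgroupOf Ny).Normal := Subgroup.normal_subgroupOf_of_le_normalizer hNyN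
  have hq4 : Nat.card (Ny ⧸ C.Dbar.subgroupOf Ny) = 4 := by
    have h1 := Subgroup.card_eq_card_quotient_mul_card_subgroup (C.Dbar.subgroupOf Ny)
    rw [hNycard, Nat.card_congr (Subgroup.subgroupOfEquivOfLe hDNy).toEquiv, C.card_Dbar] at h1
    omega
  have hexp : ∀ g : Ny ⧸ C.Dbar.subgroupOf Ny, g ^ 2 = 1 := by
    intro g
    obtain ⟨⟨g, hg⟩, rfl⟩ := QuotientGroup.mk_surjective g
    rw [← QuotientGroup.mk_pow, QuotientGroup.eq_one_iff, Subgroup.mem_subgroupOf]
    refine (hkerD (⟨g, hNyN hg⟩ ^ 2)).1 ?_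
    obtain ⟨a, b, c, h⟩ := hσform ⟨g, hNyN hg⟩
    have ha : a = 0 := by
      rcases hyinv g hg with hg' | hg'
      · exact ((C.y_form hdec σ hσ ⟨g, hNyN hg⟩ a b c h).1.1 hg').1
      · exact ((C.y_form hdec σ hσ ⟨g, hNyN hg⟩ a b c h).2.1 hg').1
    subst ha
    rw [map_pow, h]
    clear h
    revert b c; decide +kernel
  obtain ⟨eC⟩ := C.even_eC hev
  obtain ⟨eL⟩ := C.even_eL hev
  exact Cfsg.Agent.S3329.result P C.Dbar hP C.ybar (C.pbar 0) C.gen_Dbar
    ⟨⟨fun a b => Subtype.ext (C.Dbar_comm a a.2 b b.2)⟩⟩ C.card_Dbar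
    (fun a ha => by
      obtain ⟨d, hd, rfl⟩ := C.mem_Dbar.1 ha
      rw [C.bar_pow, C.bar_eq_one]
      exact Or.inl (C.D_exp hd))
    hcent eN (Subgroup.normal_subgroupOf_of_le_normalizer hCyN) hycard Ny rfl hDNy hq4 hexp eC eL

omit hdec in
theorem center_CT {K : Type*} [Group K] (e : C.Bar ≃* K) (hK : Subgroup.center K = ⊥) :
    Nat.card (Subgroup.center C.CT) = 2 ∧ Subgroup.center C.CT = C.Nt := by
  have hle : C.Nt ≤ Subgroup.center C.CT := by
    rintro ⟨g, hg⟩ hgt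
    rw [Subgroup.mem_subgroupOf] at hgt
    rw [Subgroup.mem_center_iff]
    intro x
    obtain ⟨i, hi⟩ := hgt
    simp only at hi
    apply Subtype.ext
    show (x : G) * g = g * x
    rw [← hi]
    exact ((show Commute (x : G) C.t from mem_cent_singleton.1 x.2).zpow_right i).eq
  have hge : Subgroup.center C.CT ≤ C.Nt := by
    intro g hg
    have h2 : e (g : C.Bar) ∈ Subgroup.center K := by
      rw [Subgroup.mem_center_iff]
      intro k
      obtain ⟨q, rfl⟩ := e.surjective k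
      obtain ⟨x, rfl⟩ := QuotientGroup.mk_surjective q
      rw [← map_mul, ← map_mul, ← QuotientGroup.mk_mul, ← QuotientGroup.mk_mul,
        Subgroup.mem_center_iff.1 hg x]
    rw [hK, Subgroup.mem_bot, e.map_eq_one_iff, QuotientGroup.eq_one_iff] at h2
    exact h2
  have heq := le_antisymm hge hle
  refine ⟨?_, heq⟩
  rw [heq, Nat.card_congr (Subgroup.subgroupOfEquivOfLe (Subgroup.zpowers_le.2
    (mem_cent_singleton.2 rfl))).toEquiv, Nat.card_zpowers, C.toLocT.order_t]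

omit hdec in
theorem nonsplit {K : Type*} [Group K] (e : C.Bar ≃* K) (hK : Subgroup.center K = ⊥) :
    IsNonsplitDoubleCover (Subgroup.centralizer ({C.t} : Set G)) K := by
  obtain ⟨hc2, heq⟩ := C.center_CT e hK
  refine ⟨hc2, ⟨(QuotientGroup.quotientMulEquivOfEq heq).trans e⟩, ?_⟩
  intro L hL
  have hidx : L.index = 2 := by rw [← hc2]; exact hL.index_eq_card
  have ht : (⟨C.t, mem_cent_singleton.2 rfl⟩ : C.CT) ∈ L := by
    have h2 := Subgroup.mul_self_mem_of_index_two hidx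
      (⟨C.h, mem_cent_singleton.2 C.toLocH.h_t⟩ : C.CT)
    convert h2 using 1
    exact Subtype.ext C.h_sq.symm
  have htc : (⟨C.t, mem_cent_singleton.2 rfl⟩ : C.CT) ∈ Subgroup.center C.CT := by
    rw [heq]; exact Subgroup.mem_zpowers C.t
  have hbot := hL.disjoint.eq_bot
  have hmem : (⟨C.t, mem_cent_singleton.2 rfl⟩ : C.CT) ∈ Subgroup.center C.CT ⊓ L := ⟨htc, ht⟩
  rw [hbot, Subgroup.mem_bot] at hmem
  exact C.toLocT.t_ne (congrArg Subtype.val hmem)

/-- The core of odd order does not supplement `C(t)`. -/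
theorem not_core (h72 : ¬ 27 ∣ Nat.card C.CT) :
    Subgroup.centralizer ({C.t} : Set G) ⊔ Cfsg.oddCore G ≠ ⊤ := by
  intro htop
  set N := Cfsg.pPrimeCore 2 G with hN
  have hN' : Cfsg.oddCore G = N := rfl
  rw [hN'] at htop
  have hodd : ¬ 2 ∣ Nat.card N := by
    haveI : Fact (Nat.Prime 2) := ⟨Nat.prime_two⟩
    exact Cfsg.Lib.Core.pPrimeCore_not_dvd 2 G
  haveI : N.Normal := by rw [hN]; infer_instance
  -- the three part
  haveI : Fact (Nat.Prime 3) := ⟨Nat.prime_three⟩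
  have hcard : Nat.card G * Nat.card ↥(C.CT ⊓ N) = Nat.card C.CT * Nat.card N := by
    have h1 := card_mul_relIndex (inf_le_left : C.CT ⊓ N ≤ C.CT)
    rw [Subgroup.inf_relIndex_left, ← Subgroup.relIndex_sup_right, htop, Subgroup.relIndex_top_right] at h1
    rw [← h1, ← Subgroup.card_mul_index N]; ring
  have h729 : 729 ∣ Nat.card G := C.S_card ▸ Subgroup.card_subgroup_dvd_card (C.S : Subgroup G)
  have hN81 : 81 ∣ Nat.card N := by
    have h2 : 729 ∣ Nat.card C.CT * Nat.card N := hcard ▸ h729.trans (Dvd.intro _ rfl)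
    obtain ⟨a, m, hm, he⟩ := Nat.exists_eq_pow_mul_and_not_dvd (Nat.card_pos (α := C.CT)).ne' 3 (by norm_num)
    have ha : a ≤ 2 := by
      by_contra hlt
      apply h72
      rw [he]
      exact Dvd.dvd.mul_right (by rw [show (27 : ℕ) = 3 ^ 3 from rfl]; exact pow_dvd_pow 3 (by omega)) m
    rw [he, mul_assoc] at h2
    have h3 : 3 ^ 4 * 3 ^ a ∣ 3 ^ a * (m * Nat.card N) * 1 := by
      rw [← pow_add, mul_one]
      exact (pow_dvd_pow 3 (show 4 + a ≤ 6 by omega)).trans h2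
    rw [mul_one, mul_comm (3 ^ 4)] at h3
    have h4 : 3 ^ 4 ∣ m * Nat.card N := Nat.dvd_of_mul_dvd_mul_left (by positivity) h3
    exact (Nat.Coprime.pow_left 4 ((Nat.prime_three.coprime_iff_not_dvd).2 hm)).dvd_of_dvd_mul_left h4
  obtain ⟨k, hk⟩ : ∃ k : G, ∀ x, x ∈ N → k * x * k⁻¹ ∈ N := ⟨1, fun x hx => by simpa using hx⟩
  obtain ⟨R, hR⟩ := Sylow.exists_subgroup_card_pow_prime 3 (show 3 ^ 4 ∣ Nat.card N by norm_num; exact hN81)
  set R' := R.map N.subtype with hR'
  have hR'c : Nat.card R' = 81 := by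
    rw [hR', Subgroup.card_map_of_injective N.subtype_injective, hR]; norm_num
  obtain ⟨T, hT⟩ := (IsPGroup.of_card (n := 4) (by rw [hR'c]; norm_num) : IsPGroup 3 R').exists_le_sylow
  obtain ⟨g, hg⟩ := MulAction.exists_smul_eq G T C.S
  have hNS : 81 ≤ Nat.card ↥(N ⊓ (C.S : Subgroup G)) := by
    rw [← hR'c]
    refine Nat.card_le_card_of_injective
      (fun x : R' => (⟨g * x * g⁻¹, ⟨?_, ?_⟩⟩ : ↥(N ⊓ (C.S : Subgroup G)))) ?_
    · obtain ⟨y, -, hy⟩ := x.2
      exact (inferInstance : N.Normal).conj_mem _ (hy ▸ y.2) g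
    · rw [← hg]
      exact ⟨x, hT x.2, rfl⟩
    · intro a b h
      exact Subtype.ext (by simpa using congrArg Subtype.val h)
  -- `N ∩ M ≤ J`
  have hNM : ∀ m : C.M, (m : G) ∈ N → (m : G) ∈ C.J := by
    intro m hm
    set W := (N.subgroupOf C.M).map C.θ with hW
    haveI : W.Normal := Subgroup.Normal.map inferInstance C.θ C.θ_surj
    haveI : IsSimpleGroup ASix := alternatingGroup.isSimpleGroup (by simp)
    rcases IsSimpleGroup.eq_bot_or_eq_top_of_normal W inferInstance with h | h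
    · have : C.θ m ∈ W := ⟨m, hm, rfl⟩
      rw [h, Subgroup.mem_bot] at this
      exact (C.θ_ker m).1 this
    · exfalso
      apply hodd
      have h1 : Nat.card W ∣ Nat.card N := by
        refine (Subgroup.card_map_dvd (N.subgroupOf C.M) C.θ).trans ?_
        rw [← Subgroup.card_map_of_injective C.M.subtype_injective, Subgroup.subgroupOf_map_subtype]
        exact Subgroup.card_dvd_of_le inf_le_left
      rw [h, Subgroup.card_top, nat_card_alternatingGroup, Nat.card_fin,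
        show (6 : ℕ).factorial / 2 = 360 from rfl] at h1
      exact (by norm_num : 2 ∣ 360).trans h1
  have hJN : C.J ≤ N := by
    have hle : N ⊓ (C.S : Subgroup G) ≤ C.J := fun x hx => hNM ⟨x, C.toLoc.S_le_M hx.2⟩ hx.1
    have heq : N ⊓ (C.S : Subgroup G) = C.J :=
      Subgroup.eq_of_le_of_card_ge hle (by rw [C.J_card]; exact hNS)
    rw [← heq]; exact inf_le_left
  -- but `N ∩ Q` is invariant under an element of order five
  obtain ⟨d, -, hdz, hd5, hdQ⟩ := C.toLoc.exists_d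
  rcases C.toLoc.d_invariant hdz hd5 hdQ (N ⊓ C.Q) inf_le_right ⟨hJN C.toLoc.z_J, C.z_mem⟩
    (fun w hw => ⟨(inferInstance : N.Normal).conj_mem w hw.1 d, C.toLoc.Q_conj hdz hw.2⟩) with h | h
  · have hQJ : C.Q ≤ C.J := fun q hq =>
      hNM ⟨q, C.toLoc.S_le_M (C.Q_le hq)⟩ (show q ∈ N ⊓ C.Q by rw [h]; exact hq).1
    have := Subgroup.card_dvd_of_le hQJ
    rw [C.Q_card, C.J_card] at this
    norm_num at this
  · have hA : C.toLoc.A ≤ Subgroup.zpowers C.z := fun a ha => h ⟨hJN ha.2, ha.1⟩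
    have := Subgroup.card_dvd_of_le hA
    rw [C.toLoc.card_A, C.toLoc.card_zpow] at this
    norm_num at this

theorem even_mcl (hev : C.EvenType) : Nonempty (G ≃* Cfsg.Spor.McL) := by
  obtain ⟨e⟩ := C.even_bar_iso hdec hev
  have hK : Subgroup.center (alternatingGroup (Fin 8)) = ⊥ :=
    alternatingGroup.center_eq_bot (by simp)
  rcases Cfsg.Agent.S3334.result C.t C.toLocT.order_t (C.nonsplit e hK) with h | h
  · refine absurd h (C.not_core hdec ?_)
    intro h27
    have hcard : Nat.card C.CT = 2 * 20160 := by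
      have h1 := Subgroup.card_eq_card_quotient_mul_card_subgroup C.Nt
      rw [Nat.card_congr e.toEquiv, nat_card_alternatingGroup, Nat.card_fin,
        show (8 : ℕ).factorial / 2 = 20160 from rfl,
        Nat.card_congr (Subgroup.subgroupOfEquivOfLe (Subgroup.zpowers_le.2
          (mem_cent_singleton.2 rfl : C.t ∈ C.CT))).toEquiv, Nat.card_zpowers,
        C.toLocT.order_t] at h1
      omega
    rw [hcard] at h27
    norm_num at h27
  · exact h

end LocC

end Cfsg.Lib.McLThree
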