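import Cfsg.Agent.Lib.McLThree.CaseA
import Cfsg.Agent.S3330

/-!
When some element of `C(z, t)` induces an odd permutation, `C(t)/⟨t⟩` is the symmetric group of
degree eight.
-/

set_option autoImplicit false
set_option linter.style.haveILetI false
set_option linter.unusedSectionVars false

namespace Cfsg.Lib.McLThree

open Equiv Cfsg.Lib.Recog.Icosa
open Cfsg.Lib.AltEightThree (mem_cent_singleton conj_mem_normalizer mem_normalizer_of_forall
  mem_normalizer_of_cent)

universe v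

theorem exists_dihedral_hom {Q : Type*} [Group Q] {R F : Q} (hR : R ^ 4 = 1) (hF : F * F = 1)
    (hFR : F * R * F = R⁻¹) :
    ∃ f : DihedralGroup 4 →* Q, (∀ i, f (.r i) = R ^ i.val) ∧ ∀ i, f (.sr i) = F * R ^ i.val := by
  let f : DihedralGroup 4 → Q := fun d => match d with
    | .r i => R ^ i.val
    | .sr i => F * R ^ i.val
  have hadd : ∀ i j : ZMod 4, R ^ (i + j).val = R ^ i.val * R ^ j.val := by
    intro i j
    rw [← pow_add, ZMod.val_add]
    conv_rhs => rw [← Nat.mod_add_div (i.val + j.val) 4, pow_add, pow_mul, hR, one_pow, mul_one]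
  have hsub : ∀ i j : ZMod 4, R ^ (j - i).val = (R ^ i.val)⁻¹ * R ^ j.val := by
    intro i j
    rw [eq_inv_mul_iff_mul_eq, ← hadd, add_sub_cancel]
  have hFi : F⁻¹ = F := inv_eq_of_mul_eq_one_right hF
  have hconj : ∀ n : ℕ, R ^ n * F = F * (R ^ n)⁻¹ := by
    intro n
    have h : F * R ^ n * F⁻¹ = (R ^ n)⁻¹ := by
      rw [← conj_pow, hFi, hFR, inv_pow]
    rw [← h, hFi, ← mul_assoc F, ← mul_assoc F, hF, one_mul]
  refine ⟨MonoidHom.mk' f ?_, fun i => rfl, fun i => rfl⟩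
  intro a b
  rcases a with i | i <;> rcases b with j | j
  · rw [DihedralGroup.r_mul_r]; exact hadd i j
  · rw [DihedralGroup.r_mul_sr]
    show F * R ^ (j - i).val = R ^ i.val * (F * R ^ j.val)
    rw [hsub, ← mul_assoc (R ^ i.val), hconj, mul_assoc]
  · rw [DihedralGroup.sr_mul_r]
    show F * R ^ (i + j).val = F * R ^ i.val * R ^ j.val
    rw [hadd, mul_assoc]
  · rw [DihedralGroup.sr_mul_sr]
    show R ^ (j - i).val = F * R ^ i.val * (F * R ^ j.val)
    rw [hsub, ← mul_assoc (F * R ^ i.val), mul_assoc F (R ^ i.val) F, hconj, ← mul_assoc F F, hF,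
      one_mul]

theorem five_squares : ∀ p : Perm (Fin 5), Perm.sign p = 1 → ∃ q r : Perm (Fin 5),
    Perm.sign q = 1 ∧ Perm.sign r = 1 ∧ p = q * q * (r * r) := by
  decide +kernel

theorem units_sign_cases (x : ℤˣ) : x = 1 ∨ x = -1 := Int.units_eq_one_or x

variable {G : Type v} [Group G] [Finite G]

namespace LocC

variable (C : LocC G)

theorem exists_u (hodd : ¬ C.EvenType) (hdec : C.toLocH.Dec) :
    ∃ u : C.CZ, C.ρz u = Equiv.swap 3 4 ∧ (u : G) * C.zz = C.zz * u ∧
      ((u : G) * u = 1 ∨ (u : G) * u = C.t) := by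
  obtain ⟨g, hg⟩ := not_forall.1 hodd
  have hg' : Perm.sign (C.ρz g) = -1 := (Int.units_eq_one_or _).resolve_left hg
  obtain ⟨l, hl⟩ := C.exists_CZ (p := Equiv.swap 3 4 * (C.ρz g)⁻¹) (by
    rw [map_mul, map_inv, five_basic.2.2.2, hg']; decide)
  set u0 := l * g with hu0
  have hρ : C.ρz u0 = Equiv.swap 3 4 := by rw [hu0, map_mul, hl, inv_mul_cancel_right]
  set ww : C.CZ := ⟨C.zz, C.D_le_CZ C.zz_D⟩ with hww
  have hρw : C.ρz ww = c[(0 : Fin 5), 1, 2] := C.ρ_zz
  obtain ⟨i, j, hij⟩ := C.ρz_ker (u0 * ww * u0⁻¹ * ww⁻¹) (by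
    rw [map_mul, map_mul, map_mul, map_inv, map_inv, hρ, hρw, five_basic.1, mul_inv_cancel_right,
      mul_inv_cancel])
  set v := (u0 : G) * C.zz * (u0 : G)⁻¹ with hv
  have hv1 : v = C.z ^ i * C.t ^ j * C.zz := by
    rw [← hij]; push_cast; rw [hv]; simp only [hww]; group
  have hv3 : v ^ 3 = 1 := by rw [hv, conj_pow, C.toLocH.zz_exp]; group
  have htj : C.t ^ j = 1 := by
    have c1 : Commute (C.z ^ i) (C.t ^ j) := (show Commute C.z C.t from C.z_comm_t).pow_pow i j
    have c2 : Commute (C.z ^ i * C.t ^ j) C.zz :=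
      ((show Commute C.z C.zz from C.toLocH.z_zz).pow_left i).mul_left
        ((show Commute C.t C.zz from C.zz_t).pow_left j)
    rw [hv1, c2.mul_pow, c1.mul_pow, C.toLocH.zz_exp, mul_one, ← pow_mul, mul_comm i 3, pow_mul,
      C.z_exp, one_pow, one_mul] at hv3
    exact eq_one_of_pow_coprime (m := 2) (n := 3)
      (by rw [← pow_mul, mul_comm, pow_mul, pow_two, C.t_sq, one_pow]) hv3 (by norm_num)
  rw [htj, mul_one] at hv1
  have hu0t : (u0 : G) * C.t = C.t * u0 := mem_cent_singleton.1 u0.2.2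
  have hu0z : (u0 : G) * C.z = C.z * u0 := mem_cent_singleton.1 u0.2.1
  have hzi : C.z ^ i = 1 := by
    have hD : (u0 : G) ∈ Subgroup.normalizer (C.FixD : Set G) := by
      refine C.norm_D_of ?_ ?_
      · rw [hu0z, mul_inv_cancel_right]; exact C.z_D
      · rw [← hv, hv1]; exact mul_mem (pow_mem C.z_D i) C.zz_D
    have hmem : C.z ^ i ∈ Subgroup.zpowers C.z := pow_mem (Subgroup.mem_zpowers _) i
    have himg := C.zz_image hdec hu0t hD
    rw [← hv, hv1] at himg
    rcases himg with h | h | h | h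
    · exfalso
      apply C.zz_not_z
      rw [show C.zz = (C.z ^ i)⁻¹ * C.z from eq_inv_mul_iff_mul_eq.2 h]
      exact mul_mem (inv_mem hmem) (Subgroup.mem_zpowers _)
    · exfalso
      apply C.zz_not_z
      rw [show C.zz = (C.z ^ i)⁻¹ * C.z⁻¹ from eq_inv_mul_iff_mul_eq.2 h]
      exact mul_mem (inv_mem hmem) (inv_mem (Subgroup.mem_zpowers _))
    · exact mul_eq_right.1 h
    · exfalso
      apply C.zz_not_z
      have h2 : C.zz * C.zz = (C.z ^ i)⁻¹ := by
        rw [eq_inv_iff_mul_eq_one, ← mul_eq_one_comm, ← mul_assoc, h, inv_mul_cancel]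
      have h4 : C.zz = (C.zz * C.zz) ^ 2 := by
        rw [← pow_two, ← pow_mul, show 2 * 2 = 3 + 1 from rfl, pow_succ, C.toLocH.zz_exp, one_mul]
      rw [h4, h2]
      exact pow_mem (inv_mem hmem) 2
  rw [hzi, one_mul] at hv1
  refine ⟨u0 ^ 3, ?_, ?_, ?_⟩
  · rw [map_pow, hρ]; decide +kernel
  · exact ((show Commute (u0 : G) C.zz from mul_inv_eq_iff_eq_mul.1 hv1).pow_left 3).eq
  · obtain ⟨a, b, hab⟩ := C.ρz_ker (u0 * u0) (by rw [map_mul, hρ]; decide +kernel)
    have c1 : Commute (C.z ^ a) (C.t ^ b) := (show Commute C.z C.t from C.z_comm_t).pow_pow a b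
    have e : ((u0 ^ 3 : C.CZ) : G) * ((u0 ^ 3 : C.CZ) : G) = C.t ^ b := by
      push_cast at hab ⊢
      rw [← pow_add, show 3 + 3 = 2 * 3 from rfl, pow_mul, pow_two, hab, c1.mul_pow, ← pow_mul,
        mul_comm a 3, pow_mul, C.z_exp, one_pow, one_mul, pow_three]
      rcases C.t_pow_cases b with h | h <;> rw [h]
      · simp
      · rw [C.t_sq, mul_one]
    rw [e]; exact C.t_pow_cases b

theorem k_norm_J {k : G} (hz : k * C.z = C.z * k) (hzz : k * C.zz * k⁻¹ ∈ C.J) :
    k ∈ Subgroup.normalizer (C.J : Set G) := by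
  refine C.toLoc.norm_J_of_conj (fun a ha => ?_)
  obtain ⟨i, -, c, hc, rfl⟩ := C.toLoc.S_decomp (C.J_le ha) (C.J_le C.zz_J) C.zz_not_Q
  rw [← conj_mul, ← conj_pow]
  exact mul_mem (pow_mem (C.J_le hzz) i) (C.Q_le (C.toLoc.Q_conj hz hc))

/-- An element of `M ∩ C(t)` inverting both singular points is `h^±1` up to `D`. -/
theorem inverting_M {w : G} (hwM : w ∈ C.M) (hwt : w * C.t = C.t * w)
    (hwz : w * C.z * w⁻¹ = C.z⁻¹) :
    ∃ c : ℕ, c % 2 = 1 ∧ ∃ d ∈ C.FixD, w = C.h ^ c * d := by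
  set wm : C.M := ⟨w, hwM⟩
  set hm : C.M := ⟨C.h, C.h_M⟩
  set sm : C.M := ⟨C.s, C.s_M⟩
  have hhz : ∀ c : ℕ, C.h ^ c * C.z * (C.h ^ c)⁻¹ = if c % 2 = 0 then C.z else C.z⁻¹ := by
    intro c
    induction c with
    | zero => simp
    | succ c ih =>
      have e : C.h ^ (c + 1) * C.z * (C.h ^ (c + 1))⁻¹ = C.h * (C.h ^ c * C.z * (C.h ^ c)⁻¹) * C.h⁻¹ := by
        rw [pow_succ']; group
      rw [e, ih]
      rcases Nat.mod_two_eq_zero_or_one c with h | h
      · rw [if_pos h, if_neg (by omega), C.h_z]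
      · rw [if_neg (by omega), if_pos (by omega), ← conj_inv, C.h_z, inv_inv]
  have hne : C.z ≠ C.z⁻¹ := fun e => C.z_ne
    (eq_one_of_pow_coprime (by rw [pow_two]; exact mul_eq_one_iff_eq_inv.2 e) C.z_exp (by norm_num))
  obtain ⟨c, hc⟩ := cent_j0 (C.θ wm) (by
    rw [← C.θ_t, ← map_mul, ← map_mul]; exact congrArg C.θ (Subtype.ext hwt))
  have hcase : C.θ wm = h0 ^ (c : ℕ) := by
    rcases hc with h | h
    · exact h
    · exfalso
      have hJ := C.toLocJ.θ_eq (m := wm) (m' := sm * hm ^ (c : ℕ)) (by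
        rw [h, map_mul, map_pow, C.θ_s, C.θ_h])
      push_cast at hJ
      set a := w⁻¹ * (C.s * C.h ^ (c : ℕ)) with ha
      have e : C.s * (C.h ^ (c : ℕ) * C.z * (C.h ^ (c : ℕ))⁻¹) * C.s⁻¹ = w * (a * C.z * a⁻¹) * w⁻¹ := by
        rw [ha]; group
      rw [C.J_comm a hJ C.z C.toLoc.z_J, mul_inv_cancel_right, hwz, hhz] at e
      apply C.zz_not_z
      split_ifs at e
      · show C.s * C.z * C.s⁻¹ ∈ _
        rw [e]; exact inv_mem (Subgroup.mem_zpowers _)
      · rw [← conj_inv, inv_inj] at e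
        show C.s * C.z * C.s⁻¹ ∈ _
        rw [e]; exact Subgroup.mem_zpowers _
  have hJ := C.toLocJ.θ_eq (m := hm ^ (c : ℕ)) (m' := wm) (by rw [map_pow, C.θ_h, hcase])
  push_cast at hJ
  set d := (C.h ^ (c : ℕ))⁻¹ * w with hd
  refine ⟨c, ?_, d, C.mem_FixD.2 ⟨hJ, ?_⟩, by rw [hd, mul_inv_cancel_left]⟩
  · rcases Nat.mod_two_eq_zero_or_one (c : ℕ) with h | h
    · exfalso
      apply hne
      have e : w * C.z * w⁻¹ = C.h ^ (c : ℕ) * (d * C.z * d⁻¹) * (C.h ^ (c : ℕ))⁻¹ := by rw [hd]; group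
      rw [C.J_comm d hJ C.z C.toLoc.z_J, mul_inv_cancel_right, hhz, if_pos h, hwz] at e
      exact e.symm
    · exact h
  · exact (((show Commute C.h C.t from C.toLocH.h_t).pow_left (c : ℕ)).inv_left.mul_left hwt).eq.symm

/-- Odd powers of `h` times an element of `D` square to `t`. -/
theorem hd_sq {c : ℕ} (hc : c % 2 = 1) {d : G} (hd : d ∈ C.FixD) :
    (C.h ^ c * d) * (C.h ^ c * d) = C.t := by
  have hinv : ∀ d ∈ C.FixD, C.h * d * C.h⁻¹ = d⁻¹ := by
    intro d hd
    obtain ⟨i, j, rfl⟩ := C.D_form hd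
    rw [← conj_mul, ← conj_pow, ← conj_pow, C.h_z, C.h_zz, inv_pow, inv_pow, mul_inv_rev]
    exact C.J_comm _ (inv_mem (pow_mem C.toLoc.z_J i)) _ (inv_mem (pow_mem C.zz_J j))
  obtain ⟨m, rfl⟩ : ∃ m, c = 2 * m + 1 := ⟨c / 2, by omega⟩
  have hh2 : C.h ^ 2 = C.t := by rw [pow_two, C.h_sq]
  rw [pow_add, pow_mul, hh2, pow_one]
  have e : C.h * d * (C.h * d) = (C.h * d * C.h⁻¹) * (C.h * C.h) * d := by group
  rcases C.t_pow_cases m with h | h <;> rw [h]
  · rw [one_mul, e, hinv d hd, C.h_sq, mul_assoc, ← C.D_comm_t hd, inv_mul_cancel_left]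
  · have hct : Commute C.t (C.h * d) :=
      (show Commute C.h C.t from C.toLocH.h_t).symm.mul_right (C.D_comm_t hd).symm
    rw [mul_assoc C.t C.h d, mul_assoc C.t, ← mul_assoc (C.h * d) C.t, ← hct.eq, mul_assoc C.t,
      ← mul_assoc C.t C.t, C.t_sq, one_mul, e, hinv d hd, C.h_sq, mul_assoc, ← C.D_comm_t hd,
      inv_mul_cancel_left]

variable (hdec : C.toLocH.Dec) (hodd : ¬ C.EvenType)
include hdec hodd

theorem odd_cent_Dbar : ∃ U : C.Bar, U ∈ Subgroup.centralizer (C.Dbar : Set C.Bar) ∧ U ∉ C.Dbar ∧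
    U * U = 1 ∧ ∀ g ∈ Subgroup.centralizer (C.Dbar : Set C.Bar), g ∈ C.Dbar ∨ U * g ∈ C.Dbar := by
  obtain ⟨u, hρu, huzz, hu2⟩ := C.exists_u hodd hdec
  have hut : (u : G) * C.t = C.t * u := mem_cent_singleton.1 u.2.2
  have huz : (u : G) * C.z = C.z * u := mem_cent_singleton.1 u.2.1
  refine ⟨C.bar u hut, C.bar_mem_cent hut huz huzz, ?_, ?_, ?_⟩
  · intro hmem
    obtain ⟨d, hd, hde⟩ := C.mem_Dbar.1 hmem
    have hs : ∀ x : C.CZ, (x : G) = d ∨ (x : G) = d * C.t → Perm.sign (C.ρz x) = 1 := by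
      intro x hx
      have h6 : x ^ 6 = 1 := by
        apply Subtype.ext
        push_cast
        rcases hx with h | h <;> rw [h]
        · rw [show 6 = 3 * 2 from rfl, pow_mul, C.D_exp hd, one_pow]
        · rw [(show Commute d C.t from C.D_comm_t hd).mul_pow, show 6 = 3 * 2 from rfl, pow_mul d,
            C.D_exp hd, one_pow, one_mul, mul_comm 3 2, pow_mul, pow_two, C.t_sq, one_pow]
      have ha : C.ρz (⟨d, C.D_le_CZ hd⟩ : C.CZ) ^ 3 = 1 := by
        rw [← map_pow, show (⟨d, C.D_le_CZ hd⟩ : C.CZ) ^ 3 = 1 from Subtype.ext (C.D_exp hd), map_one]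
      have hda : C.ρz x = C.ρz ⟨d, C.D_le_CZ hd⟩ := by
        rcases hx with h | h
        · rw [show x = ⟨d, C.D_le_CZ hd⟩ from Subtype.ext h]
        · rw [show x = ⟨d, C.D_le_CZ hd⟩ * ⟨C.t, C.t_CZ⟩ from Subtype.ext h, map_mul,
            show C.ρz ⟨C.t, C.t_CZ⟩ = 1 from (C.ρ_L C.t_NZ C.t_L).trans C.π_t, mul_one]
      rw [hda]
      have h3 := congrArg Perm.sign ha
      rw [map_pow, map_one] at h3
      rcases units_sign_cases (Perm.sign (C.ρz ⟨d, C.D_le_CZ hd⟩)) with h | h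
      · exact h
      · rw [h] at h3; exact absurd h3 (by decide)
    have := hs u (C.bar_eq (C.D_comm_t hd) hut hde)
    rw [hρu, five_basic.2.2.2] at this
    exact absurd this (by decide)
  · rw [C.bar_mul, C.bar_eq_one]; exact hu2
  · intro g hg
    obtain ⟨x, hx, rfl⟩ := C.exists_bar g
    obtain ⟨hz, hzz⟩ := C.cent_of_bar hx hg
    rcases units_sign_cases (Perm.sign (C.ρz ⟨x, C.mem_CZ hz hx⟩)) with h | h
    · exact Or.inl (C.bar_cent_even (g := ⟨x, C.mem_CZ hz hx⟩) h hzz hx)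
    · right
      rw [C.bar_mul]
      refine C.bar_cent_even (g := u * ⟨x, C.mem_CZ hz hx⟩) ?_ ?_ _
      · rw [map_mul, map_mul, hρu, h, five_basic.2.2.2]; decide
      · exact ((show Commute (u : G) C.zz from huzz).mul_left hzz).eq

theorem odd_eC : Nonempty (Subgroup.centralizer ({C.pbar 0} : Set C.Bar) ≃*
      Multiplicative (ZMod 3) × Perm (Fin 5)) := by
  obtain ⟨u, hρu, -, -⟩ := C.exists_u hodd hdec
  obtain ⟨χ, hχz, hχt⟩ := C.exists_chi
  obtain ⟨e⟩ := C.cent_z_equiv χ hχz hχt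
  haveI : Fact (Nat.Prime 3) := ⟨Nat.prime_three⟩
  let i3 : Multiplicative (ZMod 3) ≃* Subgroup.zpowers C.z :=
    mulEquivOfPrimeCardEq (p := 3) (by simp) C.toLoc.card_zpow
  have hrange : (MonoidHom.prod χ C.ρz).range = ⊤ := by
    rw [eq_top_iff]
    rintro ⟨a, p⟩ -
    obtain ⟨k, hk⟩ : ∃ k, C.ρz k = p := by
      rcases units_sign_cases (Perm.sign p) with h | h
      · exact C.exists_CZ h
      · obtain ⟨k, hk⟩ := C.exists_CZ (p := p * (Equiv.swap 3 4)⁻¹) (by
          rw [map_mul, map_inv, five_basic.2.2.2, h]; decide)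
        exact ⟨k * u, by rw [map_mul, hk, hρu, inv_mul_cancel_right]⟩
    obtain ⟨g, hg1, hg2⟩ := C.cent_range χ hχz a k
    exact ⟨g, Prod.ext hg1 (hg2.trans hk)⟩
  exact ⟨e.trans ((MulEquiv.subgroupCongr hrange).trans
    (Subgroup.topEquiv.trans (MulEquiv.prodCongr i3.symm (MulEquiv.refl _))))⟩

theorem odd_eL : Nonempty (Subgroup.normalizer (Subgroup.zpowers (C.pbar 0) : Set C.Bar) ≃*
      Perm (Fin 3) × Perm (Fin 5)) := by
  obtain ⟨u, hρu, -, -⟩ := C.exists_u hodd hdec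
  obtain ⟨χ, f, hχz, hχt, hft, hχf, ⟨hfz3, hfz1⟩, hinv, hker⟩ := C.exists_f
  obtain ⟨e⟩ := C.norm_z_equiv f hft hker
  refine ⟨e.trans ((MulEquiv.subgroupCongr ?_).trans Subgroup.topEquiv)⟩
  set zN : C.NZ := ⟨C.z, C.CZ_le C.z_CZ⟩
  set hN : C.NZ := ⟨C.h, C.h_NZ⟩
  have hρz : C.ρ zN = 1 := (C.ρ_L (C.CZ_le C.z_CZ) (C.toLoc.Q_le_L C.z_mem)).trans (C.π_z _)
  rw [eq_top_iff]
  rintro ⟨σ, p⟩ -
  obtain ⟨b, i, hσ, -⟩ := three_all _ _ hfz3 hfz1 hinv σ
  obtain ⟨k, hk⟩ : ∃ k, C.ρz k = (C.ρ hN ^ (b : ℕ))⁻¹ * p := by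
    rcases units_sign_cases (Perm.sign ((C.ρ hN ^ (b : ℕ))⁻¹ * p)) with h | h
    · exact C.exists_CZ h
    · obtain ⟨k, hk⟩ := C.exists_CZ (p := (C.ρ hN ^ (b : ℕ))⁻¹ * p * (Equiv.swap 3 4)⁻¹) (by
        rw [map_mul, map_inv Perm.sign (Equiv.swap 3 4), five_basic.2.2.2, h]; decide)
      exact ⟨k * u, by rw [map_mul, hk, hρu, inv_mul_cancel_right]⟩
  obtain ⟨k', hk'1, hk'2⟩ := C.cent_range χ hχz 1 k
  refine ⟨hN ^ (b : ℕ) * zN ^ (i : ℕ) * Subgroup.inclusion C.CZ_le k', Prod.ext ?_ ?_⟩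
  · show f _ = σ
    rw [map_mul, map_mul, map_pow, map_pow, hχf k' hk'1, mul_one, hσ]
  · show C.ρ _ = p
    rw [map_mul, map_mul, map_pow, map_pow, hρz, one_pow, mul_one,
      show C.ρ (Subgroup.inclusion C.CZ_le k') = _ from hk'2.trans hk, mul_inv_cancel_left]

set_option maxHeartbeats 2000000 in
/-- The application of the recognition of the symmetric group of degree eight. -/
theorem odd_bar : Nonempty (C.Bar ≃* Perm (Fin 8)) ∨
    ∃ N : Subgroup C.Bar, N.Normal ∧ N.index = 4 ∧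
      Nonempty (N ≃* alternatingGroup (Fin 5) × alternatingGroup (Fin 5)) ∧ ∀ g, g ^ 2 ∈ N := by
  obtain ⟨P, hP⟩ := C.exists_sylow hdec
  obtain ⟨σ, hσ, hker⟩ := C.exists_sigma4 hdec
  obtain ⟨S, H, K, hS, hH, hK, hSv, hHv, ⟨k, hkt, hKv, hkL, hkk, hkzz⟩, hform⟩ :=
    C.sigma4_form hdec σ hσ
  obtain ⟨U, hUc, hUD, hU2, hUall⟩ := C.odd_cent_Dbar hdec hodd
  haveI hDn : (C.Dbar.subgroupOf (Subgroup.normalizer (C.Dbar : Set C.Bar))).Normal := Subgroup.normal_in_normalizer
  set q := QuotientGroup.mk' (C.Dbar.subgroupOf (Subgroup.normalizer (C.Dbar : Set C.Bar))) with hqdef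
  have hq1 : ∀ g : (Subgroup.normalizer (C.Dbar : Set C.Bar)), q g = 1 ↔ (g : C.Bar) ∈ C.Dbar := fun g =>
    (QuotientGroup.eq_one_iff g).trans Subgroup.mem_subgroupOf
  let Uu : (Subgroup.normalizer (C.Dbar : Set C.Bar)) := ⟨U, Subgroup.centralizer_le_normalizer _ hUc⟩
  have hcentral : ∀ g : (Subgroup.normalizer (C.Dbar : Set C.Bar)), ∀ e : (Subgroup.normalizer (C.Dbar : Set C.Bar)), (e : C.Bar) ∈ Subgroup.centralizer (C.Dbar : Set C.Bar) →
      q g * q e = q e * q g := by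
    intro g e he
    have hgeg : ((g * e * g⁻¹ : (Subgroup.normalizer (C.Dbar : Set C.Bar))) : C.Bar) ∈ Subgroup.centralizer (C.Dbar : Set C.Bar) :=
      (hker _).1 (by rw [map_mul, map_mul, map_inv, (hker e).2 he, mul_one, mul_inv_cancel])
    have hmul : ∀ x : (Subgroup.normalizer (C.Dbar : Set C.Bar)), (x : C.Bar) ∈ Subgroup.centralizer (C.Dbar : Set C.Bar) →
        q x = 1 ∨ q x = q Uu := by
      intro x hx
      rcases hUall x hx with h | h
      · exact Or.inl ((hq1 x).2 h)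
      · right
        have h2 : q (Uu * x) = 1 := (hq1 _).2 h
        rw [map_mul] at h2
        have h3 : q Uu * q Uu = 1 := by
          rw [← map_mul, hq1]; show U * U ∈ C.Dbar; rw [hU2]; exact one_mem _
        exact mul_left_cancel (h2.trans h3.symm)
    have hne : q Uu ≠ 1 := fun h => hUD ((hq1 Uu).1 h)
    have hiff : q e = 1 ↔ q (g * e * g⁻¹) = 1 := by
      rw [map_mul, map_mul, map_inv, conj_eq_one_iff]
    apply mul_inv_eq_iff_eq_mul.1
    rw [← map_inv, ← map_mul, ← map_mul]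
    rcases hmul e he with h | h <;> rcases hmul _ hgeg with h' | h'
    · rw [h, h']
    · exact absurd (hiff.1 h) (by rw [h']; exact hne)
    · exact absurd (hiff.2 h') (by rw [h]; exact hne)
    · rw [h, h']
  have hSS : q S * q S = 1 := by
    rw [← map_mul, hq1]
    show (S : C.Bar) * S ∈ C.Dbar
    rw [hSv, C.bar_mul]
    rw [(C.bar_eq_one _).2 (Or.inl C.s_sq)]
    exact one_mem _
  have hKK : q K * q K = 1 := by
    rw [← map_mul, hq1]
    show (K : C.Bar) * K ∈ C.Dbar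
    rw [hKv, C.bar_mul, (C.bar_eq_one _).2 (Or.inr hkk)]
    exact one_mem _
  have hHH : q H * q H = 1 := by
    rw [← map_mul, hq1]
    show (H : C.Bar) * H ∈ C.Dbar
    rw [hHv, C.bar_mul, (C.bar_eq_one _).2 (Or.inr C.h_sq)]
    exact one_mem _
  have hSH : q S * q H = q H * q S := by
    have e : q S * q H * (q S)⁻¹ = (q H)⁻¹ := by
      rw [← map_inv, ← map_mul, ← map_mul, ← map_inv q H]
      congr 1
      apply Subtype.ext
      push_cast
      rw [hSv, hHv, C.bar_conj, C.bar_inv]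
      exact C.bar_congr C.s_h _ _
    rw [inv_eq_of_mul_eq_one_right hHH] at e
    exact mul_inv_eq_iff_eq_mul.1 e
  -- `(s k)^4` lies in `D`
  have hSK : (q S * q K) ^ 4 = 1 := by
    have hw : σ (S * K * S⁻¹) = permH * permK := by
      rw [map_mul, map_mul, map_inv, hS, hK]; decide +kernel
    set e' : (Subgroup.normalizer (C.Dbar : Set C.Bar)) := (H * K)⁻¹ * (S * K * S⁻¹) with he'
    have he'c : (e' : C.Bar) ∈ Subgroup.centralizer (C.Dbar : Set C.Bar) :=
      (hker e').1 (by rw [he', map_mul, map_inv, hw, map_mul, hH, hK, inv_mul_cancel])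
    have hSi : (q S)⁻¹ = q S := inv_eq_of_mul_eq_one_right hSS
    have hE : q S * q K * q S = q H * q K * q e' := by
      rw [he', map_mul, map_inv, map_mul, map_mul, map_mul, map_inv, mul_inv_cancel_left, hSi]
    have hKe := hcentral K e' he'c
    have hHe := hcentral H e' he'c
    have hee : q e' * q e' = 1 := by
      rw [← map_mul, hq1]
      rcases hUall (e' : C.Bar) he'c with h | h
      · exact mul_mem h h
      · have h2 : (e' : C.Bar) * e' = U * (U * e') * (U * (U * e')) := by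
          rw [← mul_assoc U U, hU2, one_mul]
        show (e' : C.Bar) * e' ∈ C.Dbar
        rw [h2]
        set d := U * (e' : C.Bar) with hd
        have hUd : U * d = d * U := (Subgroup.mem_centralizer_iff.1 hUc d h).symm
        have e2 : U * d * (U * d) = d * d := by
          calc U * d * (U * d) = U * (d * U) * d := by group
            _ = U * (U * d) * d := by rw [hUd]
            _ = d * d := by rw [← mul_assoc U U, hU2, one_mul]
        rw [e2]
        exact mul_mem h h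
    have e1 : q H * q K * q e' * q K = q H * q e' := by
      calc q H * q K * q e' * q K = q H * (q K * q e') * q K := by group
        _ = q H * (q e' * q K) * q K := by rw [hKe]
        _ = q H * q e' * (q K * q K) := by group
        _ = q H * q e' := by rw [hKK, mul_one]
    calc (q S * q K) ^ 4 = (q S * q K * q S * q K) * (q S * q K * q S * q K) := by
          simp only [pow_succ, pow_zero, one_mul, mul_assoc]
      _ = (q H * q e') * (q H * q e') := by rw [hE, e1]
      _ = q H * q H * (q e' * q e') := by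
          rw [mul_assoc (q H), ← mul_assoc (q e'), ← hHe]; group
      _ = 1 := by rw [hHH, hee, one_mul]
  obtain ⟨f, hfr, hfs⟩ := exists_dihedral_hom (R := q S * q K) (F := q K) hSK hKK (by
    rw [mul_inv_rev, inv_eq_of_mul_eq_one_right hSS, inv_eq_of_mul_eq_one_right hKK,
      ← mul_assoc, mul_assoc, hKK, mul_one])
  let u2 : Multiplicative (ZMod 2) →* (Subgroup.normalizer (C.Dbar : Set C.Bar)) ⧸ C.Dbar.subgroupOf (Subgroup.normalizer (C.Dbar : Set C.Bar)) :=
    MonoidHom.mk' (fun v => q Uu ^ (Multiplicative.toAdd v).val) (fun a b => by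
      rw [← pow_add, toAdd_mul, ZMod.val_add]
      have h2 : q Uu ^ 2 = 1 := by
        rw [pow_two, ← map_mul, hq1]; show U * U ∈ C.Dbar; rw [hU2]; exact one_mem _
      conv_rhs => rw [← Nat.mod_add_div
        ((Multiplicative.toAdd a).val + (Multiplicative.toAdd b).val) 2, pow_add, pow_mul, h2, one_pow,
        mul_one])
  let F : DihedralGroup 4 × Multiplicative (ZMod 2) →* (Subgroup.normalizer (C.Dbar : Set C.Bar)) ⧸ C.Dbar.subgroupOf (Subgroup.normalizer (C.Dbar : Set C.Bar)) :=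
    MonoidHom.mk' (fun p => f p.1 * u2 p.2) (fun a b => by
      show f (a.1 * b.1) * u2 (a.2 * b.2) = f a.1 * u2 a.2 * (f b.1 * u2 b.2)
      have hc : u2 a.2 * f b.1 = f b.1 * u2 a.2 := by
        obtain ⟨g, hg⟩ := QuotientGroup.mk_surjective (f b.1)
        show q Uu ^ _ * f b.1 = f b.1 * q Uu ^ _
        rw [← hg]
        exact ((show Commute (q g) (q Uu) from hcentral g Uu hUc).pow_right _).eq.symm
      rw [map_mul, map_mul, mul_assoc, mul_assoc, ← mul_assoc (u2 a.2), hc, mul_assoc])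
  -- the composite with the action
  let σq : (Subgroup.normalizer (C.Dbar : Set C.Bar)) ⧸ C.Dbar.subgroupOf (Subgroup.normalizer (C.Dbar : Set C.Bar)) →* Perm (Fin 4) :=
    QuotientGroup.lift _ σ (fun g hg => (hker g).2 (Subgroup.mem_centralizer_iff.2
      (fun d hd => C.Dbar_comm d hd g hg)))
  have hσq : ∀ g : (Subgroup.normalizer (C.Dbar : Set C.Bar)), σq (q g) = σ g := fun g => rfl
  have hσF : ∀ p, σq (F p) = dihHom p.1 := by
    rintro ⟨d, v⟩
    show σq (f d * q Uu ^ _) = dihFun d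
    rw [map_mul, map_pow, hσq Uu, (hker Uu).2 hUc, one_pow, mul_one]
    rcases d with i | i
    · rw [hfr, map_pow, map_mul, hσq, hσq, hS, hK]
      show _ = (c[(0 : Fin 4), 1, 2, 3]) ^ i.val
      rw [show permS * permK = c[(0 : Fin 4), 1, 2, 3] by decide +kernel]
    · rw [hfs, map_mul, map_pow, map_mul, hσq, hσq, hS, hK]
      show _ = c[(1 : Fin 4), 3] * (c[(0 : Fin 4), 1, 2, 3]) ^ i.val
      rw [show permS * permK = c[(0 : Fin 4), 1, 2, 3] by decide +kernel]
      rfl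
  have hFinj : Function.Injective F := by
    rw [injective_iff_map_eq_one]
    rintro ⟨d, v⟩ h
    have h2 := hσF ⟨d, v⟩
    rw [h, map_one] at h2
    have hd : d = 1 := dihHom_injective (h2.symm.trans (map_one dihHom).symm)
    subst hd
    have h3 : q Uu ^ (Multiplicative.toAdd v).val = 1 := by
      have : f 1 * q Uu ^ (Multiplicative.toAdd v).val = 1 := h
      rwa [map_one, one_mul] at this
    have hv : (Multiplicative.toAdd v).val = 0 := by
      have h2' := ZMod.val_lt (Multiplicative.toAdd v)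
      interval_cases hh : (Multiplicative.toAdd v).val
      · rfl
      · rw [pow_one, hq1] at h3
        exact absurd h3 hUD
    exact Prod.ext rfl (Multiplicative.toAdd.injective ((ZMod.val_eq_zero _).1 hv))
  have hrange : ∀ g : (Subgroup.normalizer (C.Dbar : Set C.Bar)), ∃ d : DihedralGroup 4, σ g = dihHom d := by
    intro g
    obtain ⟨a, b, c, e, he, rfl⟩ := hform g
    obtain ⟨d, hd⟩ := perm_dih a b c
    exact ⟨d, by rw [hd]; simp only [map_mul, map_pow, hS, hH, hK, (hker e).2 he, mul_one]⟩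
  have hFsurj : Function.Surjective F := by
    intro x
    obtain ⟨g, rfl⟩ := QuotientGroup.mk_surjective x
    obtain ⟨d, hd⟩ := hrange g
    obtain ⟨g', hg'⟩ := QuotientGroup.mk_surjective (F (d, 1))
    have hσg' : σ g' = σ g := by
      rw [hd, ← hσq, show q g' = F (d, 1) from hg', hσF]
    have hc : ((g'⁻¹ * g : (Subgroup.normalizer (C.Dbar : Set C.Bar))) : C.Bar) ∈ Subgroup.centralizer (C.Dbar : Set C.Bar) :=
      (hker _).1 (by rw [map_mul, map_inv, hσg', inv_mul_cancel])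
    rcases hUall _ hc with h | h
    · exact ⟨(d, 1), by rw [← hg']; exact QuotientGroup.eq.2 h⟩
    · refine ⟨(d, Multiplicative.ofAdd 1), ?_⟩
      have h2 : q (Uu * (g'⁻¹ * g)) = 1 := (hq1 _).2 h
      have hu : q Uu * q Uu = 1 := by
        rw [← map_mul, hq1]; show U * U ∈ C.Dbar; rw [hU2]; exact one_mem _
      rw [map_mul, map_mul, map_inv, mul_eq_one_iff_inv_eq,
        inv_eq_of_mul_eq_one_right hu, eq_inv_mul_iff_mul_eq] at h2
      show f d * q Uu ^ 1 = q g
      rw [pow_one]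
      have h0 : F (d, 1) = f d := by show f d * q Uu ^ 0 = f d; rw [pow_zero, mul_one]
      rw [← h2, ← h0, ← hg']
      rfl
  let eN := (MulEquiv.ofBijective F ⟨hFinj, hFsurj⟩).symm
  set CD := Subgroup.centralizer (C.Dbar : Set C.Bar) with hCD
  haveI hcn : (CD.subgroupOf (Subgroup.normalizer (C.Dbar : Set C.Bar))).Normal :=
    Subgroup.normal_subgroupOf_of_le_normalizer (fun g hg => mem_normalizer_of_forall (fun e he => by
      have h1 : σ (⟨g, hg⟩ * ⟨e, Subgroup.centralizer_le_normalizer _ he⟩ * ⟨g, hg⟩⁻¹) = 1 := by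
        rw [map_mul, map_mul, map_inv, (hker ⟨e, _⟩).2 he, mul_one, mul_inv_cancel]
      exact (hker _).1 h1))
  obtain ⟨eNC⟩ : Nonempty ((Subgroup.normalizer (C.Dbar : Set C.Bar)) ⧸ CD.subgroupOf (Subgroup.normalizer (C.Dbar : Set C.Bar)) ≃* DihedralGroup 4) := by
    have hk : σ.ker = CD.subgroupOf (Subgroup.normalizer (C.Dbar : Set C.Bar)) := Subgroup.ext (fun g => (MonoidHom.mem_ker).trans (hker g))
    have hr : σ.range = dihHom.range := by
      apply le_antisymm
      · rintro _ ⟨g, rfl⟩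
        obtain ⟨d, hd⟩ := hrange g
        exact ⟨d, hd.symm⟩
      · rintro _ ⟨d, rfl⟩
        obtain ⟨g, hg⟩ := QuotientGroup.mk_surjective (F (d, 1))
        exact ⟨g, by rw [← hσq, show q g = F (d, 1) from hg, hσF]⟩
    exact ⟨(QuotientGroup.quotientMulEquivOfEq hk.symm).trans
      ((QuotientGroup.quotientKerEquivRange σ).trans
        ((MulEquiv.subgroupCongr hr).trans (MonoidHom.ofInjective dihHom_injective).symm))⟩
  have hDC : C.Dbar ≤ CD := fun g hg =>
    Subgroup.mem_centralizer_iff.2 (fun d hd => C.Dbar_comm d hd g hg)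
  have hCcard : Nat.card CD = 18 := by
    have h1 := card_mul_relIndex hDC
    rw [C.card_Dbar] at h1
    have h2 : C.Dbar.relIndex CD = 2 := by
      rw [Subgroup.relIndex, Subgroup.index_eq_two_iff]
      refine ⟨⟨U, hUc⟩, fun b => ?_⟩
      simp only [Subgroup.mem_subgroupOf, Subgroup.coe_mul]
      rcases hUall (b : C.Bar) b.2 with h | h
      · refine Or.inr ⟨h, fun h' => hUD ?_⟩
        have := mul_mem (inv_mem h) h'
        rwa [inv_mul_cancel_left] at this
      · have hc : (b : C.Bar) * U = U * b := by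
          have h2 : (b : C.Bar) * (U * b) = (U * b) * b :=
            (Subgroup.mem_centralizer_iff.1 b.2 _ h).symm
          exact mul_right_cancel (by rw [mul_assoc, h2])
        refine Or.inl ⟨?_, fun h' => hUD ?_⟩
        · show (b : C.Bar) * U ∈ C.Dbar
          rw [hc]; exact h
        · have := mul_mem h (inv_mem h')
          rwa [mul_inv_cancel_right] at this
    omega
  have hy : C.ybar ∈ C.Dbar := C.mem_Dbar.2 ⟨_, mul_mem C.z_D C.zz_D, rfl⟩
  set Cy := Subgroup.centralizer ({C.ybar} : Set C.Bar) with hCy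
  have hCyN : Cy ≤ (Subgroup.normalizer (C.Dbar : Set C.Bar)) := fun g hg =>
    C.y_norm hdec (Or.inl (by rw [mem_cent_singleton.1 hg, mul_inv_cancel_right]))
  set Ny := Subgroup.normalizer (Subgroup.zpowers C.ybar : Set C.Bar) with hNy
  have hyinv : ∀ g ∈ Ny, g * C.ybar * g⁻¹ = C.ybar ∨ g * C.ybar * g⁻¹ = C.ybar⁻¹ := by
    intro g hg
    have h3 : C.ybar ^ 3 = 1 := by
      rw [ybar, C.bar_pow, C.bar_eq_one]
      exact Or.inl (C.D_exp (mul_mem C.z_D C.zz_D))
    rcases zpow_mem_of_three h3 (conj_mem_normalizer hg (Subgroup.mem_zpowers _)) with h | h | h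
    · exfalso
      have h' := conj_eq_one_iff.1 h
      exact C.ybar_ne h'
    · exact Or.inl h
    · exact Or.inr (h.trans (eq_inv_of_mul_eq_one_left (by rw [← pow_succ, h3])))
  have hNyN : Ny ≤ (Subgroup.normalizer (C.Dbar : Set C.Bar)) := fun g hg => C.y_norm hdec (hyinv g hg)
  have hmemNy : ∀ g : C.Bar, (g * C.ybar * g⁻¹ = C.ybar ∨ g * C.ybar * g⁻¹ = C.ybar⁻¹) → g ∈ Ny := by
    intro g hg
    refine mem_normalizer_of_forall (fun x hx => ?_)
    obtain ⟨i, rfl⟩ := hx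
    rw [← conj_zpow]
    rcases hg with h | h <;> rw [h]
    · exact zpow_mem (Subgroup.mem_zpowers _) i
    · exact zpow_mem (inv_mem (Subgroup.mem_zpowers _)) i
  have hSy : (S : C.Bar) * C.ybar * (S : C.Bar)⁻¹ = C.ybar :=
    (C.y_form hdec σ hσ S 0 0 1 (by rw [hS]; decide +kernel)).1.2 ⟨rfl, rfl⟩
  have hHy : (H : C.Bar) * C.ybar * (H : C.Bar)⁻¹ = C.ybar⁻¹ :=
    (C.y_form hdec σ hσ H 0 1 0 (by rw [hH]; decide +kernel)).2.2 ⟨rfl, rfl⟩
  have hσform : ∀ g, ∃ a b c : Fin 2,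
      σ g = permS ^ (c : ℕ) * permH ^ (b : ℕ) * permK ^ (a : ℕ) := by
    intro g
    obtain ⟨a, b, c, e, he, rfl⟩ := hform g
    exact ⟨a, b, c, by simp only [map_mul, map_pow, hS, hH, hK, (hker e).2 he, mul_one]⟩
  have hcnt : ∀ (W : Subgroup C.Bar) (hW : W ≤ (Subgroup.normalizer (C.Dbar : Set C.Bar))) (hC : CD ≤ W) (R : Finset (Perm (Fin 4))),
      (∀ p, p ∈ R ↔ ∃ g : W, σ ⟨g, hW g.2⟩ = p) → Nat.card W = 18 * R.card := by
    intro W hW hC R hR
    let τ : W →* Perm (Fin 4) := σ.comp (Subgroup.inclusion hW)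
    have h1 := τ.ker.card_mul_index
    rw [Subgroup.index_ker] at h1
    have hk : Nat.card τ.ker = 18 := by
      rw [← hCcard]
      exact Nat.card_congr
        { toFun := fun g => ⟨((g : W) : C.Bar), (hker ⟨_, hW (g : W).2⟩).1 g.2⟩
          invFun := fun d => ⟨⟨(d : C.Bar), hC d.2⟩,
            (hker ⟨_, Subgroup.centralizer_le_normalizer _ d.2⟩).2 d.2⟩
          left_inv := fun _ => rfl
          right_inv := fun _ => rfl }
    have hr : Nat.card τ.range = R.card := by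
      rw [← Nat.card_eq_finsetCard]
      exact Nat.card_congr (Equiv.subtypeEquivRight (fun p => (hR p).symm))
    rw [← h1, hk, hr]
  have hCCy : CD ≤ Cy := fun g hg =>
    mem_cent_singleton.2 (Subgroup.mem_centralizer_iff.1 hg _ hy).symm
  have hycard : Nat.card Cy = 36 := by
    rw [hcnt Cy hCyN hCCy {1, permS} ?_,
      show ({1, permS} : Finset (Perm (Fin 4))).card = 2 by decide +kernel]
    intro p
    constructor
    · intro hp
      rcases Finset.mem_insert.1 hp with rfl | hp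
      · exact ⟨1, map_one σ⟩
      · rw [Finset.mem_singleton] at hp
        exact ⟨⟨S, mem_cent_singleton.2 (mul_inv_eq_iff_eq_mul.1 hSy)⟩, hp ▸ hS⟩
    · rintro ⟨g, rfl⟩
      obtain ⟨a, b, c, h⟩ := hσform ⟨g, hCyN g.2⟩
      obtain ⟨rfl, rfl⟩ := (C.y_form hdec σ hσ ⟨g, hCyN g.2⟩ a b c h).1.1 (by
        rw [mem_cent_singleton.1 g.2, mul_inv_cancel_right])
      rw [h]
      clear h
      revert c; decide +kernel
  have hNycard : Nat.card Ny = 72 := by
    rw [hcnt Ny hNyN (hCCy.trans (fun g hg => hmemNy g (Or.inl (by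
        rw [mem_cent_singleton.1 hg, mul_inv_cancel_right])))) {1, permS, permH, permS * permH} ?_,
      show ({1, permS, permH, permS * permH} : Finset (Perm (Fin 4))).card = 4 by decide +kernel]
    intro p
    constructor
    · intro hp
      have hSN : (S : C.Bar) ∈ Ny := hmemNy _ (Or.inl hSy)
      have hHN : (H : C.Bar) ∈ Ny := hmemNy _ (Or.inr hHy)
      simp only [Finset.mem_insert, Finset.mem_singleton] at hp
      rcases hp with rfl | rfl | rfl | rfl
      · exact ⟨1, map_one σ⟩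
      · exact ⟨⟨S, hSN⟩, hS⟩
      · exact ⟨⟨H, hHN⟩, hH⟩
      · refine ⟨⟨(S : C.Bar) * H, mul_mem hSN hHN⟩, ?_⟩
        show σ (S * H) = _
        rw [map_mul, hS, hH]
    · rintro ⟨g, rfl⟩
      obtain ⟨a, b, c, h⟩ := hσform ⟨g, hNyN g.2⟩
      have ha : a = 0 := by
        rcases hyinv g g.2 with hg | hg
        · exact ((C.y_form hdec σ hσ ⟨g, hNyN g.2⟩ a b c h).1.1 hg).1
        · exact ((C.y_form hdec σ hσ ⟨g, hNyN g.2⟩ a b c h).2.1 hg).1
      subst ha
      rw [h]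
      clear h
      revert b c; decide +kernel
  have hsq : ∀ g ∈ Ny, g ^ 2 ∈ C.Dbar := by
    intro g hg
    obtain ⟨a, b, c, e, he, hge⟩ := hform ⟨g, hNyN hg⟩
    have hσg : σ ⟨g, hNyN hg⟩ = permS ^ (c : ℕ) * permH ^ (b : ℕ) * permK ^ (a : ℕ) := by
      rw [hge]; simp only [map_mul, map_pow, hS, hH, hK, (hker e).2 he, mul_one]
    have ha : a = 0 := by
      rcases hyinv g hg with hg' | hg'
      · exact ((C.y_form hdec σ hσ ⟨g, hNyN hg⟩ a b c hσg).1.1 hg').1
      · exact ((C.y_form hdec σ hσ ⟨g, hNyN hg⟩ a b c hσg).2.1 hg').1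
    subst ha
    refine (hq1 (⟨g, hNyN hg⟩ ^ 2)).1 ?_
    rw [map_pow, hge, map_mul, map_mul, map_mul, map_pow, map_pow, map_pow, Fin.val_zero, pow_zero,
      mul_one]
    have cS : Commute (q S) (q e) := hcentral S e he
    have cH : Commute (q H) (q e) := hcentral H e he
    have cSH : Commute (q S) (q H) := hSH
    have hee : q e * q e = 1 := by
      rcases hUall (e : C.Bar) he with h | h
      · rw [(hq1 e).2 h, one_mul]
      · have h2 : q (Uu * e) = 1 := (hq1 _).2 h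
        have hu : q Uu * q Uu = 1 := by
          rw [← map_mul, hq1]; show U * U ∈ C.Dbar; rw [hU2]; exact one_mem _
        rw [map_mul, mul_eq_one_iff_inv_eq, inv_eq_of_mul_eq_one_right hu] at h2
        rw [← h2, hu]
    rw [((cS.pow_left _).mul_left (cH.pow_left _)).mul_pow, (cSH.pow_pow _ _).mul_pow, ← pow_mul,
      ← pow_mul, mul_comm (c : ℕ), mul_comm (b : ℕ), pow_mul, pow_mul, pow_two (q S), pow_two (q H),
      pow_two (q e), hSS, hHH, hee, one_pow, one_pow, one_mul, one_mul]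
  obtain ⟨eC⟩ := C.odd_eC hdec hodd
  obtain ⟨eL⟩ := C.odd_eL hdec hodd
  rcases Cfsg.Agent.S3330.result P C.Dbar hP C.ybar (C.pbar 0) C.gen_Dbar
      ⟨⟨fun a b => Subtype.ext (C.Dbar_comm a a.2 b b.2)⟩⟩ C.card_Dbar
      (fun a ha => by
        obtain ⟨d, hd, rfl⟩ := C.mem_Dbar.1 ha
        rw [C.bar_pow, C.bar_eq_one]
        exact Or.inl (C.D_exp hd))
      hCcard eN eNC (Subgroup.normal_subgroupOf_of_le_normalizer hCyN) hycard
      (fun g hg => hsq g (hmemNy g (Or.inl (by rw [mem_cent_singleton.1 hg, mul_inv_cancel_right]))))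
      Ny rfl (Subgroup.normal_subgroupOf_of_le_normalizer hNyN) hNycard hsq eC eL with h | h
  · exact Or.inl h
  · obtain ⟨N', h1, -, h2, -, h3, h4⟩ := h
    exact Or.inr ⟨N', h1, h3, h2, h4⟩

end LocC

end Cfsg.Lib.McLThree
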