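import Cfsg.Agent.Lib.McLThree.Bar

/-!
The centraliser and the normaliser of `⟨z⟩` in the centraliser of `t` modulo `⟨t⟩`.
-/

set_option autoImplicit false
set_option linter.style.haveILetI false
set_option linter.unusedSectionVars false

namespace Cfsg.Lib.McLThree

open Equiv Cfsg.Lib.Recog.Icosa
open Cfsg.Lib.AltEightThree (mem_cent_singleton conj_mem_normalizer mem_normalizer_of_forall
  mem_normalizer_of_cent)

universe v

theorem equiv_range_of_ker_eq {A B B' : Type*} [Group A] [Group B] [Group B'] (f : A →* B)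
    (g : A →* B') (hf : Function.Surjective f) (h : ∀ a, f a = 1 ↔ g a = 1) :
    Nonempty (B ≃* g.range) :=
  ⟨(QuotientGroup.quotientKerEquivOfSurjective f hf).symm.trans
    ((QuotientGroup.quotientMulEquivOfEq (Subgroup.ext (fun a => h a))).trans
      (QuotientGroup.quotientKerEquivRange g))⟩

theorem five_split : ∀ p : Perm (Fin 5), ∃ q : Perm (Fin 5),
    Perm.sign q = 1 ∧ q ^ 4 = 1 ∧ (q * p) ^ 4 = 1 := by
  decide +kernel

theorem three_invert_sign : ∀ c f : Perm (Fin 3), c ^ 3 = 1 → c ≠ 1 → f * c * f⁻¹ = c⁻¹ →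
    Perm.sign f = -1 := by
  decide +kernel

theorem three_all : ∀ c f : Perm (Fin 3), c ^ 3 = 1 → c ≠ 1 → f * c * f⁻¹ = c⁻¹ → ∀ σ : Perm (Fin 3),
    ∃ b : Fin 2, ∃ i : Fin 3, σ = f ^ (b : ℕ) * c ^ (i : ℕ) ∧ Perm.sign σ = (-1) ^ (b : ℕ) := by
  decide +kernel

variable {G : Type v} [Group G] [Finite G]

namespace LocC

variable (C : LocC G)

/-- Every element of `C(z, t)` induces an even permutation. -/
def EvenType : Prop := ∀ g : C.CZ, Perm.sign (C.ρz g) = 1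

theorem hom_trivial (δ : C.CZ →* Subgroup.zpowers C.z) (hz : δ ⟨C.z, C.z_CZ⟩ = 1)
    (ht : δ ⟨C.t, C.t_CZ⟩ = 1) (g : C.CZ) : δ g = 1 := by
  have hfour : ∀ x : C.CZ, C.ρz x ^ 4 = 1 → δ x = 1 := by
    intro x hx
    obtain ⟨i, j, hij⟩ := C.ρz_ker (x ^ 4) (by rw [map_pow, hx])
    have h4 : δ x ^ 4 = 1 := by
      rw [← map_pow, show x ^ 4 = (⟨C.z, C.z_CZ⟩ : C.CZ) ^ i * (⟨C.t, C.t_CZ⟩ : C.CZ) ^ j from
        Subtype.ext (by push_cast; rw [← hij]; rfl), map_mul, map_pow, map_pow, hz, ht, one_pow,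
        one_pow, mul_one]
    have h3 : δ x ^ 3 = 1 := by
      have := pow_card_eq_one' (x := δ x)
      rwa [C.toLoc.card_zpow] at this
    exact eq_one_of_pow_coprime h4 h3 (by norm_num)
  obtain ⟨q, hqs, hq4, hqp⟩ := five_split (C.ρz g)
  obtain ⟨k, hk⟩ := C.exists_CZ hqs
  have h1 := hfour k (by rw [hk, hq4])
  have h2 := hfour (k * g) (by rw [map_mul, hk, hqp])
  rwa [map_mul, h1, one_mul] at h2

theorem conj_h_CZ {g : G} (hg : g ∈ C.CZ) : C.h * g * C.h⁻¹ ∈ C.CZ ∧ C.h⁻¹ * g * C.h ∈ C.CZ := by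
  have hz : Commute g C.z := mem_cent_singleton.1 hg.1
  have ht : Commute g C.t := mem_cent_singleton.1 hg.2
  have hht : Commute C.h C.t := C.toLocH.h_t
  have hz' : C.h⁻¹ * C.z * C.h = C.z⁻¹ := by
    calc C.h⁻¹ * C.z * C.h = C.h⁻¹ * (C.z⁻¹)⁻¹ * C.h := by rw [inv_inv]
      _ = C.h⁻¹ * (C.h * C.z * C.h⁻¹)⁻¹ * C.h := by rw [C.h_z]
      _ = _ := by group
  refine ⟨C.mem_CZ ?_ ((hht.mul_left ht).mul_left hht.inv_left).eq,
    C.mem_CZ ?_ ((hht.inv_left.mul_left ht).mul_left hht).eq⟩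
  · have h1 : Commute g (C.h⁻¹ * C.z * C.h) := by rw [hz']; exact hz.inv_right
    calc C.h * g * C.h⁻¹ * C.z = C.h * (g * (C.h⁻¹ * C.z * C.h)) * C.h⁻¹ := by group
      _ = C.h * ((C.h⁻¹ * C.z * C.h) * g) * C.h⁻¹ := by rw [h1.eq]
      _ = _ := by group
  · have h1 : Commute g (C.h * C.z * C.h⁻¹) := by rw [C.h_z]; exact hz.inv_right
    calc C.h⁻¹ * g * C.h * C.z = C.h⁻¹ * (g * (C.h * C.z * C.h⁻¹)) * C.h := by group
      _ = C.h⁻¹ * ((C.h * C.z * C.h⁻¹) * g) * C.h := by rw [h1.eq]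
      _ = _ := by group

theorem NZ_form {g : G} (hg : g ∈ C.NZ) : g ∈ C.CZ ∨ C.h⁻¹ * g ∈ C.CZ := by
  obtain ⟨hN, ht⟩ := C.mem_NZ.1 hg
  rcases zpow_mem_of_three C.z_exp (conj_mem_normalizer hN (Subgroup.mem_zpowers C.z)) with h | h | h
  · exact absurd (conj_eq_one_iff.1 h) C.z_ne
  · exact Or.inl (C.mem_CZ (mul_inv_eq_iff_eq_mul.1 h) ht)
  · refine Or.inr (C.mem_CZ (mul_inv_eq_iff_eq_mul.1 ?_)
      ((show Commute C.h C.t from C.toLocH.h_t).inv_left.mul_left ht).eq)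
    have hz2 : C.z ^ 2 = C.z⁻¹ := eq_inv_of_mul_eq_one_left (by rw [← pow_succ, C.z_exp])
    rw [← conj_conj, h, hz2]
    have h2 : C.h⁻¹ * (C.h * C.z * C.h⁻¹) * C.h⁻¹⁻¹ = C.z := by group
    rwa [C.h_z] at h2

/-- `ρ` and a map onto the symmetric group of degree three jointly detect `NZ` modulo `⟨t⟩`. -/
theorem exists_f : ∃ χ : C.CZ →* Subgroup.zpowers C.z, ∃ f : C.NZ →* Perm (Fin 3),
    (χ ⟨C.z, C.z_CZ⟩ : G) = C.z ∧ χ ⟨C.t, C.t_CZ⟩ = 1 ∧
    f ⟨C.t, C.t_NZ⟩ = 1 ∧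
    (∀ k : C.CZ, χ k = 1 → f (Subgroup.inclusion C.CZ_le k) = 1) ∧
    (f ⟨C.z, C.CZ_le C.z_CZ⟩ ^ 3 = 1 ∧ f ⟨C.z, C.CZ_le C.z_CZ⟩ ≠ 1) ∧
    f ⟨C.h, C.h_NZ⟩ * f ⟨C.z, C.CZ_le C.z_CZ⟩ * (f ⟨C.h, C.h_NZ⟩)⁻¹ =
      (f ⟨C.z, C.CZ_le C.z_CZ⟩)⁻¹ ∧
    ∀ g : C.NZ, f g = 1 → C.ρ g = 1 → (g : G) = 1 ∨ (g : G) = C.t := by
  obtain ⟨χ, hχz, hχt⟩ := C.exists_chi
  have hzpow : ∀ a : Subgroup.zpowers C.z, ∀ b : Subgroup.zpowers C.z, a * b = b * a := fun a b =>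
    Subtype.ext (C.toLoc.zpow_comm_z b.2 a (C.toLoc.Q_z (C.toLoc.zpow_mem_Q a.2)))
  -- `χ` is inverted by `h`
  have hδ : ∀ k : C.CZ, χ ⟨C.h * k * C.h⁻¹, (C.conj_h_CZ k.2).1⟩ * χ k = 1 := by
    let δ : C.CZ →* Subgroup.zpowers C.z :=
      MonoidHom.mk' (fun k => χ ⟨C.h * k * C.h⁻¹, (C.conj_h_CZ k.2).1⟩ * χ k) (fun a b => by
        rw [show (⟨C.h * ((a * b : C.CZ) : G) * C.h⁻¹, (C.conj_h_CZ (a * b).2).1⟩ : C.CZ) =
          ⟨C.h * a * C.h⁻¹, (C.conj_h_CZ a.2).1⟩ * ⟨C.h * b * C.h⁻¹, (C.conj_h_CZ b.2).1⟩ from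
          Subtype.ext (by push_cast; group), map_mul, map_mul]
        generalize χ ⟨C.h * (a : G) * C.h⁻¹, (C.conj_h_CZ a.2).1⟩ = A
        generalize χ ⟨C.h * (b : G) * C.h⁻¹, (C.conj_h_CZ b.2).1⟩ = B
        rw [mul_assoc A B, ← mul_assoc B, hzpow B (χ a)]
        group)
    intro k
    refine C.hom_trivial δ ?_ ?_ k
    · show χ ⟨C.h * C.z * C.h⁻¹, _⟩ * χ ⟨C.z, C.z_CZ⟩ = 1
      rw [show (⟨C.h * C.z * C.h⁻¹, (C.conj_h_CZ C.z_CZ).1⟩ : C.CZ) = (⟨C.z, C.z_CZ⟩ : C.CZ)⁻¹ from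
        Subtype.ext C.h_z, map_inv, inv_mul_cancel]
    · show χ ⟨C.h * C.t * C.h⁻¹, _⟩ * χ ⟨C.t, C.t_CZ⟩ = 1
      rw [show (⟨C.h * C.t * C.h⁻¹, (C.conj_h_CZ C.t_CZ).1⟩ : C.CZ) = ⟨C.t, C.t_CZ⟩ from
        Subtype.ext (by show C.h * C.t * C.h⁻¹ = C.t; rw [C.toLocH.h_t, mul_inv_cancel_right]), hχt,
        mul_one]
  have hχconj : ∀ k : C.CZ, χ k = 1 → χ ⟨C.h * k * C.h⁻¹, (C.conj_h_CZ k.2).1⟩ = 1 := by
    intro k hk
    have := hδ k
    rwa [hk, mul_one] at this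
  have hχconj' : ∀ k : C.CZ, χ k = 1 → χ ⟨C.h⁻¹ * k * C.h, (C.conj_h_CZ k.2).2⟩ = 1 := by
    intro k hk
    have := hδ ⟨C.h⁻¹ * k * C.h, (C.conj_h_CZ k.2).2⟩
    rwa [show (⟨C.h * (C.h⁻¹ * (k : G) * C.h) * C.h⁻¹,
      (C.conj_h_CZ (C.conj_h_CZ k.2).2).1⟩ : C.CZ) = k from Subtype.ext (by group), hk, one_mul]
      at this
  -- the subgroup of index three
  let H3 : Subgroup C.NZ :=
    { carrier := {g | ∃ k : C.CZ, χ k = 1 ∧ ((g : G) = k ∨ (g : G) = C.h * k)}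
      one_mem' := ⟨1, map_one χ, Or.inl rfl⟩
      mul_mem' := by
        rintro a b ⟨k, hk, ha⟩ ⟨l, hl, hb⟩
        rcases ha with ha | ha <;> rcases hb with hb | hb
        · exact ⟨k * l, by rw [map_mul, hk, hl, mul_one], Or.inl (by push_cast; rw [ha, hb])⟩
        · refine ⟨⟨C.h⁻¹ * k * C.h, (C.conj_h_CZ k.2).2⟩ * l, by rw [map_mul, hχconj' k hk, hl, mul_one],
            Or.inr ?_⟩
          push_cast; rw [ha, hb]; group
        · exact ⟨k * l, by rw [map_mul, hk, hl, mul_one],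
            Or.inr (by push_cast; rw [ha, hb, mul_assoc])⟩
        · refine ⟨⟨C.t, C.t_CZ⟩ * ⟨C.h⁻¹ * k * C.h, (C.conj_h_CZ k.2).2⟩ * l, by
            rw [map_mul, map_mul, hχt, hχconj' k hk, hl, mul_one, mul_one], Or.inl ?_⟩
          push_cast; rw [ha, hb, ← C.h_sq]; group
      inv_mem' := by
        rintro a ⟨k, hk, ha⟩
        rcases ha with ha | ha
        · exact ⟨k⁻¹, by rw [map_inv, hk, inv_one], Or.inl (by push_cast; rw [ha])⟩
        · refine ⟨⟨C.t, C.t_CZ⟩ * ⟨C.h * (k⁻¹ : C.CZ) * C.h⁻¹, (C.conj_h_CZ (SetLike.coe_mem _)).1⟩,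
            by rw [map_mul, hχt, hχconj _ (by rw [map_inv, hk, inv_one]), one_mul], Or.inr ?_⟩
          push_cast
          rw [ha, ← C.toLocT.t_inv, ← C.h_sq]
          group }
  set zN : C.NZ := ⟨C.z, C.CZ_le C.z_CZ⟩ with hzN
  set hN : C.NZ := ⟨C.h, C.h_NZ⟩ with hhN
  have hxH : ∀ i : Subgroup.zpowers C.z, ∀ j : Subgroup.zpowers C.z,
      (⟨(i : G), C.CZ_le ((Subgroup.zpowers_le.2 C.z_CZ) i.2)⟩ : C.NZ)⁻¹ *
        ⟨(j : G), C.CZ_le ((Subgroup.zpowers_le.2 C.z_CZ) j.2)⟩ ∈ H3 → i = j := by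
    rintro i j ⟨k, hk, hk'⟩
    rcases hk' with hk' | hk'
    · push_cast at hk'
      have hmem : (k : G) ∈ Subgroup.zpowers C.z := by rw [← hk']; exact mul_mem (inv_mem i.2) j.2
      obtain ⟨m, hm⟩ := mem_powers_iff_mem_zpowers.2 hmem
      simp only at hm
      have hk2 : k = (⟨C.z, C.z_CZ⟩ : C.CZ) ^ m := Subtype.ext (by push_cast; exact hm.symm)
      have : C.z ^ m = 1 := by
        have h2 := congrArg Subtype.val hk
        rw [hk2, map_pow] at h2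
        push_cast at h2
        rwa [hχz] at h2
      rw [← hm, this] at hk'
      exact Subtype.ext (inv_mul_eq_one.1 hk')
    · exfalso
      push_cast at hk'
      have hmem : C.h ∈ C.CZ := by
        have h2 := mul_mem (mul_mem (inv_mem ((Subgroup.zpowers_le.2 C.z_CZ) i.2))
          ((Subgroup.zpowers_le.2 C.z_CZ) j.2)) (inv_mem k.2)
        rwa [hk', mul_inv_cancel_right] at h2
      have h3 := C.h_z
      rw [mem_cent_singleton.1 hmem.1, mul_inv_cancel_right, eq_inv_iff_mul_eq_one, ← pow_two] at h3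
      exact C.z_ne (eq_one_of_pow_coprime h3 C.z_exp (by norm_num))
  have hsurj : ∀ g : C.NZ, ∃ i : Subgroup.zpowers C.z,
      (⟨(i : G), C.CZ_le ((Subgroup.zpowers_le.2 C.z_CZ) i.2)⟩ : C.NZ)⁻¹ * g ∈ H3 := by
    intro g
    have hclean : ∀ k : C.CZ, ∃ i : Subgroup.zpowers C.z, ∃ k0 : C.CZ, χ k0 = 1 ∧ (k : G) = i * k0 := by
      intro k
      refine ⟨χ k, (⟨(χ k : G), (Subgroup.zpowers_le.2 C.z_CZ) (χ k).2⟩ : C.CZ)⁻¹ * k, ?_,
        by push_cast; group⟩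
      rw [map_mul, map_inv]
      obtain ⟨m, hm⟩ := mem_powers_iff_mem_zpowers.2 (χ k).2
      simp only at hm
      have e : (⟨(χ k : G), (Subgroup.zpowers_le.2 C.z_CZ) (χ k).2⟩ : C.CZ) =
          (⟨C.z, C.z_CZ⟩ : C.CZ) ^ m := Subtype.ext (by push_cast; exact hm.symm)
      rw [e, map_pow, show χ ⟨C.z, C.z_CZ⟩ = ⟨C.z, Subgroup.mem_zpowers _⟩ from Subtype.ext hχz,
        inv_mul_eq_one]
      exact Subtype.ext (by push_cast; exact hm)
    rcases C.NZ_form g.2 with hg | hg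
    · obtain ⟨i, k0, hk0, he⟩ := hclean ⟨g, hg⟩
      have he' : (g : G) = i * k0 := he
      exact ⟨i, k0, hk0, Or.inl (by push_cast; rw [he', inv_mul_cancel_left])⟩
    · obtain ⟨i, k0, hk0, he⟩ := hclean ⟨_, hg⟩
      have hi : C.h * (i : G) * C.h⁻¹ ∈ Subgroup.zpowers C.z :=
        conj_mem_normalizer (C.conj_zpowers_z C.h_z) i.2
      refine ⟨⟨_, hi⟩, k0, hk0, Or.inr ?_⟩
      have he' : (g : G) = C.h * (i * k0) := by rw [← inv_mul_eq_iff_eq_mul]; exact he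
      push_cast
      rw [he']
      group
  let e : Subgroup.zpowers C.z → C.NZ ⧸ H3 := fun i =>
    QuotientGroup.mk ⟨(i : G), C.CZ_le ((Subgroup.zpowers_le.2 C.z_CZ) i.2)⟩
  have he : Function.Bijective e := by
    refine ⟨fun i j h => hxH i j (QuotientGroup.eq.1 h), fun q => ?_⟩
    obtain ⟨g, rfl⟩ := QuotientGroup.mk_surjective q
    obtain ⟨i, hi⟩ := hsurj g
    exact ⟨i, QuotientGroup.eq.2 hi⟩
  have hfin : Nat.card (C.NZ ⧸ H3) = 3 := by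
    rw [← Nat.card_eq_of_bijective e he, C.toLoc.card_zpow]
  let eq3 : C.NZ ⧸ H3 ≃ Fin 3 := Nat.equivFinOfCardPos (by omega) |>.trans (finCongr hfin)
  let f : C.NZ →* Perm (Fin 3) :=
    eq3.permCongrHom.toMonoidHom.comp (MulAction.toPermHom C.NZ (C.NZ ⧸ H3))
  have hf1 : ∀ g : C.NZ, f g = 1 ↔ ∀ q : C.NZ ⧸ H3, g • q = q := by
    intro g
    show eq3.permCongrHom (MulAction.toPermHom C.NZ (C.NZ ⧸ H3) g) = 1 ↔ _
    rw [MulEquiv.map_eq_one_iff, Equiv.ext_iff]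
    rfl
  have htriv : ∀ k : C.CZ, χ k = 1 → f (Subgroup.inclusion C.CZ_le k) = 1 := by
    intro k hk
    rw [hf1]
    intro q
    obtain ⟨i, rfl⟩ := he.2 q
    show QuotientGroup.mk _ = e i
    refine QuotientGroup.eq.2 ⟨k⁻¹, by rw [map_inv, hk, inv_one], Or.inl ?_⟩
    have hc : Commute (k : G) (i : G) := C.toLoc.zpow_comm_z i.2 k (mem_cent_singleton.1 k.2.1)
    push_cast
    show ((k : G) * i)⁻¹ * i = (k : G)⁻¹
    rw [hc.eq]; group
  have hfz : f zN ≠ 1 := by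
    rw [ne_eq, hf1]
    intro hall
    have h1 := hall (e ⟨1, one_mem _⟩)
    have h2 := hxH ⟨C.z, Subgroup.mem_zpowers _⟩ ⟨1, one_mem _⟩
      (by
        have h3 : (zN * (1 : C.NZ))⁻¹ * 1 ∈ H3 := QuotientGroup.eq.1 h1
        show zN⁻¹ * 1 ∈ H3
        rwa [mul_one zN] at h3)
    exact C.z_ne (congrArg Subtype.val h2)
  have hinvz : hN * zN * hN⁻¹ = zN⁻¹ := Subtype.ext C.h_z
  refine ⟨χ, f, hχz, hχt, htriv ⟨C.t, C.t_CZ⟩ hχt, htriv, ⟨?_, hfz⟩, ?_, ?_⟩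
  · rw [← map_pow, show zN ^ 3 = 1 from Subtype.ext (by push_cast; exact C.z_exp), map_one]
  · rw [← map_inv, ← map_mul, ← map_mul, hinvz, map_inv]
  · intro g hg hρ
    have h1 : g ∈ H3 := by
      have h2 := (hf1 g).1 hg (QuotientGroup.mk 1)
      have h3 := QuotientGroup.eq.1 h2.symm
      simpa using h3
    obtain ⟨k, hk, hk'⟩ := h1
    rcases hk' with hk' | hk'
    · have hρk : C.ρz k = 1 := by
        rw [← hρ]; exact congrArg C.ρ (Subtype.ext hk'.symm)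
      obtain ⟨i, j, hij⟩ := C.ρz_ker k hρk
      have hk2 : k = (⟨C.z, C.z_CZ⟩ : C.CZ) ^ i * (⟨C.t, C.t_CZ⟩ : C.CZ) ^ j :=
        Subtype.ext (by push_cast; exact hij)
      have hi : C.z ^ i = 1 := by
        have h3 := congrArg Subtype.val hk
        rw [hk2, map_mul, map_pow, map_pow, hχt, one_pow, mul_one] at h3
        push_cast at h3
        rwa [hχz] at h3
      rw [hk', hij, hi, one_mul]
      exact C.t_pow_cases j
    · exfalso
      have h4 : g = hN * Subgroup.inclusion C.CZ_le k := Subtype.ext hk'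
      rw [h4, map_mul, htriv k hk, mul_one] at hg
      have h5 := congrArg f hinvz
      rw [map_mul, map_mul, map_inv, map_inv, hg, one_mul, inv_one, mul_one,
        eq_inv_iff_mul_eq_one, ← pow_two] at h5
      exact hfz (eq_one_of_pow_coprime h5 (by
        rw [← map_pow, show zN ^ 3 = 1 from Subtype.ext (by push_cast; exact C.z_exp), map_one])
        (by norm_num))

/-- The centraliser of the image of `z`, described by `χ` and `ρ`. -/
theorem cent_z_equiv (χ : C.CZ →* Subgroup.zpowers C.z)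
    (hχz : (χ ⟨C.z, C.z_CZ⟩ : G) = C.z) (hχt : χ ⟨C.t, C.t_CZ⟩ = 1) :
    Nonempty (Subgroup.centralizer ({C.bar C.z C.z_comm_t} : Set C.Bar) ≃*
      ((MonoidHom.prod χ C.ρz)).range) := by
  let q : C.CZ →* Subgroup.centralizer ({C.bar C.z C.z_comm_t} : Set C.Bar) :=
    MonoidHom.mk' (fun g => ⟨C.bar g (mem_cent_singleton.1 g.2.2), mem_cent_singleton.2 (by
      rw [C.bar_mul, C.bar_mul]
      exact C.bar_congr (mem_cent_singleton.1 g.2.1) _ _)⟩) (fun a b => rfl)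
  refine equiv_range_of_ker_eq q _ ?_ ?_
  · rintro ⟨g, hg⟩
    obtain ⟨x, hx, rfl⟩ := C.exists_bar g
    have hz := C.comm_of_bar hx C.z_comm_t C.z_exp (mem_cent_singleton.1 hg)
    exact ⟨⟨x, C.mem_CZ hz hx⟩, rfl⟩
  · intro g
    constructor
    · intro h
      have h1 : C.bar (g : G) (mem_cent_singleton.1 g.2.2) = 1 := congrArg Subtype.val h
      rcases (C.bar_eq_one _).1 h1 with h2 | h2
      · rw [show g = 1 from Subtype.ext h2, map_one]
      · rw [show g = ⟨C.t, C.t_CZ⟩ from Subtype.ext h2]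
        exact Prod.ext hχt ((C.ρ_L C.t_NZ C.t_L).trans C.π_t)
    · intro h
      obtain ⟨i, j, hij⟩ := C.ρz_ker g (congrArg Prod.snd h)
      have hk2 : g = (⟨C.z, C.z_CZ⟩ : C.CZ) ^ i * (⟨C.t, C.t_CZ⟩ : C.CZ) ^ j :=
        Subtype.ext (by push_cast; exact hij)
      have hi : C.z ^ i = 1 := by
        have h3 : χ g = 1 := congrArg Prod.fst h
        have h3' := congrArg Subtype.val h3
        rw [hk2, map_mul, map_pow, map_pow, hχt, one_pow, mul_one] at h3'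
        push_cast at h3'
        rwa [hχz] at h3'
      apply Subtype.ext
      refine (C.bar_eq_one (mem_cent_singleton.1 g.2.2)).2 ?_
      rw [hij, hi, one_mul]
      exact C.t_pow_cases j

/-- The normaliser of the image of `⟨z⟩`, described by `f` and `ρ`. -/
theorem norm_z_equiv (f : C.NZ →* Perm (Fin 3)) (hft : f ⟨C.t, C.t_NZ⟩ = 1)
    (hker : ∀ g : C.NZ, f g = 1 → C.ρ g = 1 → (g : G) = 1 ∨ (g : G) = C.t) :
    Nonempty (Subgroup.normalizer (Subgroup.zpowers (C.bar C.z C.z_comm_t) : Set C.Bar) ≃*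
      ((MonoidHom.prod f C.ρ)).range) := by
  have hmem : ∀ g : C.NZ, C.bar g (C.mem_NZ.1 g.2).2 ∈
      Subgroup.normalizer (Subgroup.zpowers (C.bar C.z C.z_comm_t) : Set C.Bar) := by
    intro g
    refine mem_normalizer_of_forall (fun x hx => ?_)
    obtain ⟨i, hi⟩ := mem_powers_iff_mem_zpowers.2 hx
    simp only at hi
    rw [← hi, ← conj_pow, C.bar_conj]
    refine pow_mem ?_ i
    obtain ⟨m, hm⟩ := mem_powers_iff_mem_zpowers.2
      (conj_mem_normalizer (C.mem_NZ.1 g.2).1 (Subgroup.mem_zpowers C.z))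
    simp only at hm
    refine ⟨(m : ℤ), ?_⟩
    show C.bar C.z C.z_comm_t ^ (m : ℤ) = _
    rw [zpow_natCast, C.bar_pow]
    exact C.bar_congr hm _ _
  let q : C.NZ →* Subgroup.normalizer (Subgroup.zpowers (C.bar C.z C.z_comm_t) : Set C.Bar) :=
    MonoidHom.mk' (fun g => ⟨C.bar g (C.mem_NZ.1 g.2).2, hmem g⟩) (fun a b => rfl)
  refine equiv_range_of_ker_eq q _ ?_ ?_
  · rintro ⟨g, hg⟩
    obtain ⟨x, hx, rfl⟩ := C.exists_bar g
    obtain ⟨m, hm⟩ := mem_powers_iff_mem_zpowers.2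
      (conj_mem_normalizer hg (Subgroup.mem_zpowers (C.bar C.z C.z_comm_t)))
    simp only at hm
    rw [C.bar_conj, C.bar_pow] at hm
    have h2 := C.bar_three _ _ (by rw [← pow_mul, mul_comm, pow_mul, C.z_exp, one_pow])
      (by rw [conj_pow, C.z_exp]; group) hm
    refine ⟨⟨x, C.mem_NZ.2 ⟨mem_normalizer_of_forall (fun y hy => ?_), hx⟩⟩, rfl⟩
    obtain ⟨i, rfl⟩ := hy
    rw [← conj_zpow, ← h2]
    exact zpow_mem (pow_mem (Subgroup.mem_zpowers _) m) i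
  · intro g
    constructor
    · intro h
      have h1 : C.bar (g : G) (C.mem_NZ.1 g.2).2 = 1 := congrArg Subtype.val h
      rcases (C.bar_eq_one _).1 h1 with h2 | h2
      · rw [show g = 1 from Subtype.ext h2, map_one]
      · rw [show g = ⟨C.t, C.t_NZ⟩ from Subtype.ext h2]
        exact Prod.ext hft ((C.ρ_L C.t_NZ C.t_L).trans C.π_t)
    · intro h
      apply Subtype.ext
      exact (C.bar_eq_one (C.mem_NZ.1 g.2).2).2 (hker g (congrArg Prod.fst h) (congrArg Prod.snd h))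

/-- Description of the range of the map on the centraliser. -/
theorem cent_range (χ : C.CZ →* Subgroup.zpowers C.z) (hχz : (χ ⟨C.z, C.z_CZ⟩ : G) = C.z)
    (a : Subgroup.zpowers C.z) (k : C.CZ) : ∃ g : C.CZ, χ g = a ∧ C.ρz g = C.ρz k := by
  obtain ⟨m, hm⟩ := mem_powers_iff_mem_zpowers.2 ((χ k)⁻¹ * a).2
  simp only at hm
  refine ⟨k * (⟨C.z, C.z_CZ⟩ : C.CZ) ^ m, ?_, ?_⟩
  · have e : (χ k)⁻¹ * a = χ ((⟨C.z, C.z_CZ⟩ : C.CZ) ^ m) := by
      rw [map_pow]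
      apply Subtype.ext
      push_cast at hm ⊢
      rw [← hm, hχz]
    rw [map_mul, ← e, mul_inv_cancel_left]
  · have hρ : C.ρz ⟨C.z, C.z_CZ⟩ = 1 :=
      (C.ρ_L (C.CZ_le C.z_CZ) (C.toLoc.Q_le_L C.z_mem)).trans (C.π_z _)
    rw [map_mul, map_pow, hρ, one_pow, mul_one]

end LocC

end Cfsg.Lib.McLThree
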