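import Cfsg.Agent.Lib.McLThree.Sign

/-!
An element of the normaliser of `J` inverting all of `J`.
-/

set_option autoImplicit false
set_option linter.style.haveILetI false
set_option linter.unusedSectionVars false

namespace Cfsg.Lib.McLThree

open Cfsg.Lib.AltEightThree (mem_cent_singleton conj_mem_normalizer)

universe v

/-- Pairs of residues. -/
abbrev Vec3 := ZMod 3 × ZMod 3

/-- An endomorphism of the pairs, given by the images of the two unit vectors. -/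
abbrev Mat3 := Vec3 × Vec3

/-- Evaluation. -/
def mapp (A : Mat3) (v : Vec3) : Vec3 :=
  (v.1 * A.1.1 + v.2 * A.2.1, v.1 * A.1.2 + v.2 * A.2.2)

/-- Composition. -/
def mcomp (A B : Mat3) : Mat3 := (mapp A B.1, mapp A B.2)

/-- The identity. -/
def mone : Mat3 := ((1, 0), (0, 1))

/-- Minus the identity. -/
def mneg : Mat3 := ((2, 0), (0, 2))

/-- The action of `h`. -/
def mH : Mat3 := ((0, 1), (2, 0))

theorem mat_cases : ∀ U : Mat3, mcomp U U = mneg → ∀ S : Mat3, mcomp S S = mone →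
    mcomp S (mcomp mH S) = mcomp mH (mcomp mH mH) →
    mcomp U mH = mneg ∨ mcomp U (mcomp mH (mcomp mH mH)) = mneg ∨
      mcomp (mcomp U (mcomp S (mcomp U S))) mH = mneg ∨
      mcomp (mcomp U (mcomp S (mcomp U S))) (mcomp mH (mcomp mH mH)) = mneg := by
  decide +kernel

theorem three_sq : ∀ d : ZMod 3, d ≠ 0 → d * d = 1 := by decide

theorem pow_val_congr {H : Type*} [Group H] {x : H} (hx : x ^ 3 = 1) {m n : ℕ}
    (h : (m : ZMod 3) = (n : ZMod 3)) : x ^ m = x ^ n := by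
  have h' : m % 3 = n % 3 := (ZMod.natCast_eq_natCast_iff' m n 3).1 h
  conv_lhs => rw [← Nat.mod_add_div m 3, pow_add, pow_mul, hx, one_pow, mul_one, h']
  conv_rhs => rw [← Nat.mod_add_div n 3, pow_add, pow_mul, hx, one_pow, mul_one]

theorem pow_val_add {H : Type*} [Group H] {x : H} (hx : x ^ 3 = 1) (a b : ZMod 3) :
    x ^ (a + b).val = x ^ a.val * x ^ b.val := by
  rw [← pow_add]
  exact pow_val_congr hx (by simp)

theorem pow_val_mul {H : Type*} [Group H] {x : H} (hx : x ^ 3 = 1) (a b : ZMod 3) :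
    x ^ (a * b).val = (x ^ b.val) ^ a.val := by
  rw [← pow_mul]
  exact pow_val_congr hx (by simp [mul_comm])

variable {G : Type v} [Group G] [Finite G]

namespace LocC

variable (C : LocC G)

/-- The part of `J` inverted by `t`. -/
def JW : Set G := {x | x ∈ C.J ∧ C.t * x * C.t⁻¹ = x⁻¹}

theorem t_conj_J {x : G} (hx : x ∈ C.J) : C.t * x * C.t⁻¹ ∈ C.J :=
  conj_mem_normalizer (C.M_norm C.t_M) hx

theorem fix_JW {x : G} (hx : x ∈ C.JW) (h : C.t * x = x * C.t) : x = 1 := by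
  have h2 := hx.2
  rw [h, mul_inv_cancel_right, eq_inv_iff_mul_eq_one, ← pow_two] at h2
  exact eq_one_of_pow_coprime h2 (C.J_exp x hx.1) (by norm_num)

theorem J_split {x : G} (hx : x ∈ C.J) :
    ∃ d ∈ C.FixD, ∃ w ∈ C.JW, x = d * w := by
  set x' := C.t * x * C.t⁻¹ with hx'
  have hx'J : x' ∈ C.J := C.t_conj_J hx
  have htx' : C.t * x' * C.t⁻¹ = x := by
    rw [hx', conj_conj, C.t_sq]; group
  have hc : Commute x x' := C.J_comm x hx x' hx'J
  refine ⟨(x * x') ^ 2, ?_, (x * x'⁻¹) ^ 2, ⟨pow_mem (mul_mem hx (inv_mem hx'J)) 2, ?_⟩, ?_⟩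
  · refine pow_mem (C.mem_FixD.2 ⟨mul_mem hx hx'J, ?_⟩) 2
    have e1 : C.t * (x * x') * C.t⁻¹ = x * x' := by
      rw [← conj_mul, htx', ← hx', hc.eq]
    exact mul_inv_eq_iff_eq_mul.1 e1
  · rw [← conj_pow, ← inv_pow]
    congr 1
    rw [← conj_mul, ← conj_inv, htx', ← hx', mul_inv_rev, inv_inv]
  · rw [hc.mul_pow, hc.inv_right.mul_pow, ← mul_assoc, mul_assoc (x ^ 2), (hc.symm.pow_pow 2 2).eq,
      mul_assoc, mul_assoc (x ^ 2) (x' ^ 2), inv_pow, mul_inv_cancel, mul_one,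
      ← pow_add, show 2 + 2 = 3 + 1 from rfl, pow_succ, C.J_exp x hx, one_mul]

theorem exists_w0 : ∃ w ∈ C.JW, w ≠ 1 := by
  by_contra hcon
  push Not at hcon
  have hle : C.J ≤ C.FixD := by
    intro x hx
    obtain ⟨d, hd, w, hw, rfl⟩ := C.J_split hx
    rw [hcon w hw, mul_one]
    exact hd
  have := Subgroup.card_le_of_le hle
  rw [C.J_card, C.card_FixD] at this
  norm_num at this

theorem card_JW : Nat.card C.JW ≤ 9 := by
  have h : Nat.card (C.FixD × C.JW) ≤ Nat.card C.J := by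
    refine Nat.card_le_card_of_injective
      (fun p => (⟨(p.1 : G) * p.2, mul_mem (C.mem_FixD.1 p.1.2).1 p.2.2.1⟩ : C.J)) ?_
    rintro ⟨⟨d, hd⟩, ⟨w, hw⟩⟩ ⟨⟨d', hd'⟩, ⟨w', hw'⟩⟩ h
    have h' : d * w = d' * w' := congrArg Subtype.val h
    have e1 : w * w'⁻¹ = d⁻¹ * d' := by
      rw [eq_inv_mul_iff_mul_eq, ← mul_assoc, h', mul_inv_cancel_right]
    have hmem : w * w'⁻¹ ∈ C.JW := by
      refine ⟨mul_mem hw.1 (inv_mem hw'.1), ?_⟩
      rw [← conj_mul, ← conj_inv, hw.2, hw'.2, mul_inv_rev, inv_inv]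
      exact C.J_comm _ (inv_mem hw.1) _ hw'.1
    have hw1 : w * w'⁻¹ = 1 := C.fix_JW hmem (by
      rw [e1]; exact (C.mem_FixD.1 (mul_mem (inv_mem hd) hd')).2)
    have hww : w = w' := mul_inv_eq_one.1 hw1
    subst hww
    have hdd : d = d' := mul_right_cancel h'
    subst hdd
    rfl
  rw [Nat.card_prod, C.card_FixD, C.J_card] at h
  omega

/-- An element of order four fixing the singular points gives an element inverting `J`. -/
theorem exists_inverting {u : G} (hut : u * C.t = C.t * u) (huz : u * C.z = C.z * u)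
    (huzz : u * C.zz = C.zz * u) (huu : u * u = C.t) :
    ∃ a ∈ Subgroup.normalizer (C.J : Set G), ∀ x ∈ C.J, a * x * a⁻¹ = x⁻¹ := by
  obtain ⟨w0, hw0, hw01⟩ := C.exists_w0
  obtain ⟨w1, hw1def⟩ : ∃ w1, w1 = C.h * w0 * C.h⁻¹ := ⟨_, rfl⟩
  have hhN : C.h ∈ Subgroup.normalizer (C.J : Set G) := C.M_norm C.h_M
  have hsN : C.s ∈ Subgroup.normalizer (C.J : Set G) := C.M_norm C.s_M
  have huN : u ∈ Subgroup.normalizer (C.J : Set G) :=
    C.k_norm_J huz (by rw [huzz, mul_inv_cancel_right]; exact C.zz_J)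
  have hmaps : ∀ g : G, g * C.t = C.t * g → g ∈ Subgroup.normalizer (C.J : Set G) →
      ∀ x ∈ C.JW, g * x * g⁻¹ ∈ C.JW := by
    intro g hgt hgN x hx
    refine ⟨conj_mem_normalizer hgN hx.1, ?_⟩
    calc C.t * (g * x * g⁻¹) * C.t⁻¹ = (C.t * g) * x * (C.t * g)⁻¹ := by group
      _ = (g * C.t) * x * (g * C.t)⁻¹ := by rw [hgt]
      _ = g * (C.t * x * C.t⁻¹) * g⁻¹ := by group
      _ = (g * x * g⁻¹)⁻¹ := by rw [hx.2, conj_inv]
  have hw1 : w1 ∈ C.JW := hw1def ▸ hmaps _ C.toLocH.h_t hhN _ hw0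
  have e0 : w0 ^ 3 = 1 := C.J_exp _ hw0.1
  have e1 : w1 ^ 3 = 1 := C.J_exp _ hw1.1
  have hhw1 : C.h * w1 * C.h⁻¹ = w0⁻¹ := by
    rw [hw1def, conj_conj, C.h_sq, hw0.2]
  let c : Vec3 → G := fun v => w0 ^ v.1.val * w1 ^ v.2.val
  have hJpow : ∀ (i j : ℕ), Commute (w0 ^ i) (w1 ^ j) := fun i j =>
    (show Commute w0 w1 from C.J_comm _ hw0.1 _ hw1.1).pow_pow i j
  have hcJ : ∀ v, c v ∈ C.JW := by
    intro v
    refine ⟨mul_mem (pow_mem hw0.1 _) (pow_mem hw1.1 _), ?_⟩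
    show C.t * (w0 ^ v.1.val * w1 ^ v.2.val) * C.t⁻¹ = (w0 ^ v.1.val * w1 ^ v.2.val)⁻¹
    rw [← conj_mul, ← conj_pow, ← conj_pow, hw0.2, hw1.2, (hJpow _ _).eq, mul_inv_rev, inv_pow,
      inv_pow]
  -- `c` is injective
  have hnot : w1 ∉ Subgroup.zpowers w0 := by
    intro hmem
    have key : C.h * (C.h * w0 * C.h⁻¹) * C.h⁻¹ = w0 := by
      rw [← hw1def]
      rcases zpow_mem_of_three e0 hmem with h | h | h
      · exact absurd (conj_eq_one_iff.1 (hw1def.symm.trans h)) hw01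
      · have h' : C.h * w0 * C.h⁻¹ = w0 := hw1def.symm.trans h
        rw [h, h']
      · have h' : C.h * w0 * C.h⁻¹ = w0 ^ 2 := hw1def.symm.trans h
        rw [h, ← conj_pow, h', ← pow_mul, show 2 * 2 = 3 + 1 from rfl, pow_succ, e0, one_mul]
    rw [conj_conj, C.h_sq] at key
    exact hw01 (C.fix_JW hw0 (mul_inv_eq_iff_eq_mul.1 key))
  have hcinj : Function.Injective c := by
    rintro ⟨a, b⟩ ⟨a', b'⟩ h
    have h' : w0 ^ a.val * w1 ^ b.val = w0 ^ a'.val * w1 ^ b'.val := h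
    have hb : b = b' := by
      by_contra hne
      apply hnot
      set d := b - b' with hd
      have hbd : w1 ^ b.val = w1 ^ d.val * w1 ^ b'.val := by
        rw [← pow_val_add e1, hd, sub_add_cancel]
      rw [hbd, ← mul_assoc] at h'
      have h2 : w1 ^ d.val = (w0 ^ a.val)⁻¹ * w0 ^ a'.val := by
        rw [eq_inv_mul_iff_mul_eq]; exact mul_right_cancel h'
      have h3 : w1 ^ d.val ∈ Subgroup.zpowers w0 := by
        rw [h2]
        exact mul_mem (inv_mem (pow_mem (Subgroup.mem_zpowers _) _)) (pow_mem (Subgroup.mem_zpowers _) _)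
      have hdd : d * d = 1 := by
        exact three_sq d (sub_ne_zero.2 hne)
      have h4 := pow_mem h3 d.val
      rwa [← pow_val_mul e1, hdd, ZMod.val_one, pow_one] at h4
    subst hb
    have ha : w0 ^ a.val = w0 ^ a'.val := mul_right_cancel h'
    have h3 : orderOf w0 = 3 := orderOf_eq_prime e0 hw01
    have := pow_inj_mod.1 ha
    rw [h3, Nat.mod_eq_of_lt (ZMod.val_lt a), Nat.mod_eq_of_lt (ZMod.val_lt a')] at this
    rw [ZMod.val_injective 3 this]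
  have hcsurj : ∀ x ∈ C.JW, ∃ v, c v = x := by
    haveI : Finite C.JW := inferInstance
    let f : Vec3 → C.JW := fun v => ⟨c v, hcJ v⟩
    have hf : Function.Injective f := fun a b h => hcinj (congrArg Subtype.val h)
    have hb : Function.Bijective f := (Nat.bijective_iff_injective_and_card f).2 ⟨hf,
      le_antisymm (Nat.card_le_card_of_injective f hf) (C.card_JW.trans (le_of_eq (by simp)))⟩
    intro x hx
    obtain ⟨v, hv⟩ := hb.2 ⟨x, hx⟩
    exact ⟨v, congrArg Subtype.val hv⟩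
  -- coordinates of endomorphisms
  let Rel : G → Mat3 → Prop := fun g A => g * w0 * g⁻¹ = c A.1 ∧ g * w1 * g⁻¹ = c A.2
  have hlin : ∀ g A, Rel g A → ∀ v, g * c v * g⁻¹ = c (mapp A v) := by
    intro g A hA v
    show g * (w0 ^ v.1.val * w1 ^ v.2.val) * g⁻¹ = _
    rw [← conj_mul, ← conj_pow, ← conj_pow, hA.1, hA.2]
    show (w0 ^ A.1.1.val * w1 ^ A.1.2.val) ^ v.1.val * (w0 ^ A.2.1.val * w1 ^ A.2.2.val) ^ v.2.val
      = w0 ^ (v.1 * A.1.1 + v.2 * A.2.1).val * w1 ^ (v.1 * A.1.2 + v.2 * A.2.2).val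
    rw [(hJpow _ _).mul_pow, (hJpow _ _).mul_pow, ← pow_val_mul e0, ← pow_val_mul e1,
      ← pow_val_mul e0, ← pow_val_mul e1, pow_val_add e0, pow_val_add e1, mul_assoc, mul_assoc,
      ← mul_assoc (w1 ^ _), ← (hJpow _ _).eq, mul_assoc]
  have hrel_mul : ∀ g g' A B, Rel g A → Rel g' B → Rel (g * g') (mcomp A B) := by
    intro g g' A B hA hB
    refine ⟨?_, ?_⟩
    · rw [← conj_conj, hB.1, hlin g A hA]; rfl
    · rw [← conj_conj, hB.2, hlin g A hA]; rfl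
  have hrel_ex : ∀ g : G, g * C.t = C.t * g → g ∈ Subgroup.normalizer (C.J : Set G) →
      ∃ A, Rel g A := by
    intro g hgt hgN
    obtain ⟨v, hv⟩ := hcsurj _ (hmaps g hgt hgN w0 hw0)
    obtain ⟨v', hv'⟩ := hcsurj _ (hmaps g hgt hgN w1 hw1)
    exact ⟨(v, v'), hv.symm, hv'.symm⟩
  have hrel_inj : ∀ g A B, Rel g A → Rel g B → A = B := fun g A B hA hB =>
    Prod.ext (hcinj (hA.1.symm.trans hB.1)) (hcinj (hA.2.symm.trans hB.2))
  have hinv2 : ∀ x : G, x ^ 3 = 1 → x ^ 2 = x⁻¹ := fun x hx =>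
    eq_inv_of_mul_eq_one_left (by rw [← pow_succ, hx])
  have hc20 : c (2, 0) = w0⁻¹ := by
    show w0 ^ 2 * w1 ^ 0 = _
    rw [pow_zero, mul_one, hinv2 _ e0]
  have hc02 : c (0, 2) = w1⁻¹ := by
    show w0 ^ 0 * w1 ^ 2 = _
    rw [pow_zero, one_mul, hinv2 _ e1]
  have hc01 : c (0, 1) = w1 := by
    show w0 ^ 0 * w1 ^ 1 = _
    rw [pow_zero, one_mul, pow_one]
  have hH : Rel C.h mH := ⟨hw1def.symm.trans hc01.symm, by rw [hhw1]; exact hc20.symm⟩
  have hone : Rel 1 mone := by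
    refine ⟨?_, ?_⟩
    · show _ = w0 ^ 1 * w1 ^ 0
      simp
    · show _ = w0 ^ 0 * w1 ^ 1
      simp
  have hT : Rel C.t mneg := ⟨by rw [hw0.2]; exact hc20.symm, by rw [hw1.2]; exact hc02.symm⟩
  obtain ⟨U, hU⟩ := hrel_ex u hut huN
  obtain ⟨S, hS⟩ := hrel_ex C.s C.s_t hsN
  have hH3 : Rel (C.h * (C.h * C.h)) (mcomp mH (mcomp mH mH)) :=
    hrel_mul _ _ _ _ hH (hrel_mul _ _ _ _ hH hH)
  have hUU : mcomp U U = mneg := hrel_inj C.t _ _ (huu ▸ hrel_mul _ _ _ _ hU hU) hT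
  have hSS : mcomp S S = mone := hrel_inj 1 _ _ (C.s_sq ▸ hrel_mul _ _ _ _ hS hS) hone
  have hSHS : mcomp S (mcomp mH S) = mcomp mH (mcomp mH mH) := by
    refine hrel_inj (C.h * (C.h * C.h)) _ _ ?_ hH3
    have e2 : C.s * (C.h * C.s) = C.h * (C.h * C.h) := by
      calc C.s * (C.h * C.s) = C.s * C.h * C.s⁻¹ := by rw [C.toLocH.s_inv, mul_assoc]
        _ = C.h⁻¹ := C.s_h
        _ = C.h * (C.h * C.h) := by
          rw [inv_eq_iff_mul_eq_one, ← mul_assoc, C.h_sq, C.t_sq]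
    exact e2 ▸ hrel_mul _ _ _ _ hS (hrel_mul _ _ _ _ hH hS)
  have hUSUS : Rel (u * (C.s * (u * C.s))) (mcomp U (mcomp S (mcomp U S))) :=
    hrel_mul _ _ _ _ hU (hrel_mul _ _ _ _ hS (hrel_mul _ _ _ _ hU hS))
  -- assemble
  suffices h : ∃ a ∈ Subgroup.normalizer (C.J : Set G), Rel a mneg ∧
      a * C.z * a⁻¹ = C.z⁻¹ ∧ a * C.zz * a⁻¹ = C.zz⁻¹ by
    obtain ⟨a, haN, haW, haz, hazz⟩ := h
    refine ⟨a, haN, fun x hx => ?_⟩
    obtain ⟨d, hd, w, hw, rfl⟩ := C.J_split hx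
    obtain ⟨i, j, rfl⟩ := C.D_form hd
    obtain ⟨v, rfl⟩ := hcsurj w hw
    have hv : a * c v * a⁻¹ = (c v)⁻¹ := by
      show a * (w0 ^ v.1.val * w1 ^ v.2.val) * a⁻¹ = (w0 ^ v.1.val * w1 ^ v.2.val)⁻¹
      rw [← conj_mul, ← conj_pow, ← conj_pow, haW.1, haW.2]
      show c (2, 0) ^ v.1.val * c (0, 2) ^ v.2.val = _
      rw [hc20, hc02, (hJpow _ _).eq, mul_inv_rev, inv_pow, inv_pow]
    have hdz : a * (C.z ^ (i : ℕ) * C.zz ^ (j : ℕ)) * a⁻¹ = (C.z ^ (i : ℕ) * C.zz ^ (j : ℕ))⁻¹ := by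
      rw [← conj_mul, ← conj_pow, ← conj_pow, haz, hazz, inv_pow, inv_pow,
        ((show Commute C.z C.zz from C.toLocH.z_zz).pow_pow (i : ℕ) (j : ℕ)).eq, mul_inv_rev]
    rw [← conj_mul, hdz, hv, C.J_comm _ (inv_mem (C.mem_FixD.1 hd).1) _ (inv_mem (hcJ v).1)]
    exact (mul_inv_rev _ _).symm
  have fu : ∀ x, x = C.z ∨ x = C.zz → u * x * u⁻¹ = x := by
    rintro x (rfl | rfl)
    · rw [huz, mul_inv_cancel_right]
    · rw [huzz, mul_inv_cancel_right]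
  have fh : ∀ x, x = C.z ∨ x = C.zz → C.h * x * C.h⁻¹ = x⁻¹ := by
    rintro x (rfl | rfl)
    · exact C.h_z
    · exact C.h_zz
  have fh3 : ∀ x, x = C.z ∨ x = C.zz → C.h * (C.h * C.h) * x * (C.h * (C.h * C.h))⁻¹ = x⁻¹ := by
    intro x hx
    rw [← conj_conj, ← conj_conj, fh x hx, ← conj_inv, fh x hx, inv_inv, fh x hx]
  have fs : ∀ x, x = C.z ∨ x = C.zz →
      u * (C.s * (u * C.s)) * x * (u * (C.s * (u * C.s)))⁻¹ = x := by
    intro x hx
    have hsx : (C.s * x * C.s⁻¹ = C.z ∨ C.s * x * C.s⁻¹ = C.zz) ∧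
        C.s * (C.s * x * C.s⁻¹) * C.s⁻¹ = x := by
      refine ⟨?_, by rw [conj_conj, C.s_sq]; group⟩
      rcases hx with rfl | rfl
      · exact Or.inr rfl
      · exact Or.inl C.toLocH.s_zz
    rw [← conj_conj, ← conj_conj, ← conj_conj, fu _ hsx.1, hsx.2, fu x hx]
  have hinv : ∀ (g k : G) (x : G), g * x * g⁻¹ = x → k * x * k⁻¹ = x⁻¹ →
      (g * k) * x * (g * k)⁻¹ = x⁻¹ := by
    intro g k x hg hk
    rw [← conj_conj, hk, ← conj_inv, hg]
  have hh3N : C.h * (C.h * C.h) ∈ Subgroup.normalizer (C.J : Set G) :=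
    mul_mem hhN (mul_mem hhN hhN)
  have hsN' : u * (C.s * (u * C.s)) ∈ Subgroup.normalizer (C.J : Set G) :=
    mul_mem huN (mul_mem hsN (mul_mem huN hsN))
  rcases mat_cases U hUU S hSS hSHS with h | h | h | h
  · exact ⟨_, mul_mem huN hhN, h ▸ hrel_mul _ _ _ _ hU hH,
      hinv _ _ _ (fu _ (Or.inl rfl)) (fh _ (Or.inl rfl)),
      hinv _ _ _ (fu _ (Or.inr rfl)) (fh _ (Or.inr rfl))⟩
  · exact ⟨_, mul_mem huN hh3N, h ▸ hrel_mul _ _ _ _ hU hH3,
      hinv _ _ _ (fu _ (Or.inl rfl)) (fh3 _ (Or.inl rfl)),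
      hinv _ _ _ (fu _ (Or.inr rfl)) (fh3 _ (Or.inr rfl))⟩
  · exact ⟨_, mul_mem hsN' hhN, h ▸ hrel_mul _ _ _ _ hUSUS hH,
      hinv _ _ _ (fs _ (Or.inl rfl)) (fh _ (Or.inl rfl)),
      hinv _ _ _ (fs _ (Or.inr rfl)) (fh _ (Or.inr rfl))⟩
  · exact ⟨_, mul_mem hsN' hh3N, h ▸ hrel_mul _ _ _ _ hUSUS hH3,
      hinv _ _ _ (fs _ (Or.inl rfl)) (fh3 _ (Or.inl rfl)),
      hinv _ _ _ (fs _ (Or.inr rfl)) (fh3 _ (Or.inr rfl))⟩

end LocC

end Cfsg.Lib.McLThree
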