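import Cfsg.Agent.Lib.McLThree.Rho

/-!
Elements of the normaliser of `D` in the centraliser of `t`.
-/

set_option autoImplicit false
set_option linter.style.haveILetI false
set_option linter.unusedSectionVars false

namespace Cfsg.Lib.McLThree

open Equiv Cfsg.Lib.Recog.Icosa
open Cfsg.Lib.AltEightThree (mem_cent_singleton conj_mem_normalizer mem_normalizer_of_forall
  mem_normalizer_of_cent)

variable {G : Type*} [Group G] [Finite G]

namespace Loc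

variable (D : Loc G)

theorem conj_Q_comm {a b : G} (ha : a ∈ D.Q) (hb : b ∈ D.Q) {w w' : G}
    (hw : w ∈ Subgroup.zpowers D.z) (hw' : w' ∈ Subgroup.zpowers D.z) :
    (a * w) * (b * w') * (a * w)⁻¹ * (b * w')⁻¹ = a * b * a⁻¹ * b⁻¹ ∧
      (a⁻¹ * w) * (b⁻¹ * w') * (a⁻¹ * w)⁻¹ * (b⁻¹ * w')⁻¹ = a * b * a⁻¹ * b⁻¹ := by
  have key : ∀ a b : G, a ∈ D.Q → b ∈ D.Q →
      (a * w) * (b * w') * (a * w)⁻¹ * (b * w')⁻¹ = a * b * a⁻¹ * b⁻¹ := by
    intro a b ha hb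
    have h1 : Commute b w := D.zpow_comm_z hw b (D.Q_z hb)
    have h2 : Commute a w' := D.zpow_comm_z hw' a (D.Q_z ha)
    have h3 : Commute w w' := D.zpow_comm_z hw' w (D.Q_z (D.zpow_mem_Q hw))
    calc (a * w) * (b * w') * (a * w)⁻¹ * (b * w')⁻¹
        = a * (w * b) * (w' * w⁻¹) * a⁻¹ * w'⁻¹ * b⁻¹ := by group
      _ = a * (b * w) * (w⁻¹ * w') * a⁻¹ * w'⁻¹ * b⁻¹ := by rw [h1.eq, h3.inv_left.eq]
      _ = a * b * (w' * a⁻¹) * w'⁻¹ * b⁻¹ := by group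
      _ = _ := by rw [← h2.inv_left.eq]; group
  refine ⟨key a b ha hb, ?_⟩
  rw [key _ _ (inv_mem ha) (inv_mem hb)]
  have hc := D.Q_comm a ha b hb
  have h4 := D.zpow_comm_z hc (b * a)⁻¹ (Commute.inv_left (D.Q_z (mul_mem hb ha))).eq
  calc a⁻¹ * b⁻¹ * a⁻¹⁻¹ * b⁻¹⁻¹ = (b * a)⁻¹ * (a * b * a⁻¹ * b⁻¹) * (b * a) := by group
    _ = _ := by rw [h4, inv_mul_cancel_right]

end Loc

namespace LocC

variable (C : LocC G)

theorem conj_zpowers_z {g : G} (h : g * C.z * g⁻¹ = C.z⁻¹) :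
    g ∈ Subgroup.normalizer (Subgroup.zpowers C.z : Set G) := by
  refine mem_normalizer_of_forall (fun x hx => ?_)
  obtain ⟨i, rfl⟩ := hx
  rw [← conj_zpow, h, inv_zpow]
  exact inv_mem (zpow_mem (Subgroup.mem_zpowers _) i)

theorem h_NZ : C.h ∈ C.NZ := C.mem_NZ.2 ⟨C.conj_zpowers_z C.h_z, C.toLocH.h_t⟩

theorem t_NZ : C.t ∈ C.NZ := C.mem_NZ_of_cent C.toLocT.t_z rfl

theorem zz_cent : C.zz * C.z = C.z * C.zz := C.toLocH.z_zz.symm

theorem zz_NZ : C.zz ∈ C.NZ := C.mem_NZ_of_cent C.zz_cent C.zz_t.symm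

theorem ρ_zz : C.ρ ⟨C.zz, C.zz_NZ⟩ = c[(0 : Fin 5), 1, 2] :=
  (C.ρ_L _ C.toLocH.zz_L).trans C.π_zz

theorem exists_L {p : Perm (Fin 5)} (hp : Perm.sign p = 1) :
    ∃ k : G, ∃ hk : k ∈ C.L, k * C.t = C.t * k ∧ C.π ⟨k, hk⟩ = p ∧
      ∃ hN : k ∈ C.NZ, C.ρ ⟨k, hN⟩ = p := by
  obtain ⟨⟨l, hl⟩, hlp⟩ := C.π_surj p hp
  obtain ⟨x, hxQ, hx⟩ := C.toLocT.adjust_t (C.L_cent l hl)
  have hxL := C.toLoc.Q_le_L hxQ
  have hk : x⁻¹ * l ∈ C.L := mul_mem (inv_mem hxL) hl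
  have hπ : C.π ⟨x⁻¹ * l, hk⟩ = p := by
    rw [show (⟨x⁻¹ * l, hk⟩ : C.L) = (⟨x, hxL⟩ : C.L)⁻¹ * ⟨l, hl⟩ from rfl, map_mul, map_inv,
      C.π_Q hxQ, inv_one, one_mul, hlp]
  have hN := C.mem_NZ_of_cent (C.L_cent _ hk) hx
  exact ⟨x⁻¹ * l, hk, hx, hπ, hN, by rw [C.ρ_L hN hk, hπ]⟩

theorem ρ_h_inv :
    C.ρ ⟨C.h, C.h_NZ⟩ * c[(0 : Fin 5), 1, 2] * (C.ρ ⟨C.h, C.h_NZ⟩)⁻¹ = c[(0 : Fin 5), 1, 2]⁻¹ := by
  rw [← C.ρ_zz, ← map_inv, ← map_mul, ← map_mul, ← map_inv C.ρ ⟨C.zz, _⟩]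
  congr 1
  exact Subtype.ext C.h_zz

theorem h_odd : Perm.sign (C.ρ ⟨C.h, C.h_NZ⟩) = -1 := by
  rcases Int.units_eq_one_or (Perm.sign (C.ρ ⟨C.h, C.h_NZ⟩)) with hsign | hsign
  swap
  · exact hsign
  exfalso
  obtain ⟨k, hkL, hkt, hπk, hkN, hρk⟩ := C.exists_L hsign
  set c := k⁻¹ * C.h with hc
  have hcN : c ∈ C.NZ := mul_mem (inv_mem hkN) C.h_NZ
  have hρc : C.ρ ⟨c, hcN⟩ = 1 := by
    rw [show (⟨c, hcN⟩ : C.NZ) = (⟨k, hkN⟩ : C.NZ)⁻¹ * ⟨C.h, C.h_NZ⟩ from rfl, map_mul, map_inv, hρk,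
      inv_mul_cancel]
  have hkz := C.L_cent k hkL
  have hcz : c * C.z * c⁻¹ = C.z⁻¹ := by
    have e : c * C.z * c⁻¹ = k⁻¹ * (C.h * C.z * C.h⁻¹) * k := by rw [hc]; group
    rw [e, C.h_z, (show Commute k⁻¹ C.z⁻¹ from (Commute.inv_inv hkz)).eq, inv_mul_cancel_right]
  have hct : c * C.t = C.t * c := (C.mem_NZ.1 hcN).2
  have hinner := C.inner1_of_ρ hcN hρc
  have hccz : c * c * C.z = C.z * (c * c) := by
    apply mul_inv_eq_iff_eq_mul.1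
    rw [← conj_conj, hcz, ← conj_inv, hcz, inv_inv]
  have hcct : c * c * C.t = C.t * (c * c) := (Commute.mul_left hct hct).eq
  obtain ⟨i, j, hij⟩ := C.ρ_kernel hccz hcct (by
    rw [show (⟨c * c, C.mem_NZ_of_cent hccz hcct⟩ : C.NZ) = ⟨c, hcN⟩ * ⟨c, hcN⟩ from rfl, map_mul,
      hρc, mul_one])
  have hzi : C.z ^ i = 1 := by
    have h1 : c * (c * c) * c⁻¹ = c * c := by group
    have h2 : c * (C.t ^ j) * c⁻¹ = C.t ^ j := by
      rw [(Commute.pow_right hct j).eq, mul_inv_cancel_right]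
    rw [hij, ← conj_mul, ← conj_pow, hcz, h2] at h1
    have h3 := mul_right_cancel h1
    rw [inv_pow, inv_eq_iff_mul_eq_one] at h3
    exact eq_one_of_pow_coprime (m := 2) (n := 3) (by rw [pow_two]; exact h3)
      (by rw [← pow_mul, mul_comm, pow_mul, C.z_exp, one_pow]) (by norm_num)
  rw [hzi, one_mul] at hij
  have htj : C.t ^ j = 1 ∨ C.t ^ j = C.t := by
    rw [← Nat.mod_add_div j 2, pow_add, pow_mul, pow_two, C.t_sq, one_pow, mul_one]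
    rcases Nat.mod_two_eq_zero_or_one j with h | h <;> simp [h]
  rcases htj with hj | hj <;> rw [hj] at hij
  · -- an involution inverting `z` cannot induce the identity
    have hcc : ∀ a ∈ C.Q, ∀ b ∈ C.Q, a * b * a⁻¹ * b⁻¹ = 1 := by
      intro a ha b hb
      have hN := (C.mem_NZ.1 hcN).1
      set w := a * b * a⁻¹ * b⁻¹ with hw
      have hwz := C.Q_comm a ha b hb
      have h1 : c * w * c⁻¹ = w⁻¹ := by
        obtain ⟨m, hm⟩ := hwz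
        simp only at hm
        rw [hw, ← hm, ← conj_zpow, hcz, inv_zpow]
      have h2 : c * w * c⁻¹ = w := by
        have e : c * w * c⁻¹ = (c * a * c⁻¹) * (c * b * c⁻¹) * (c * a * c⁻¹)⁻¹ * (c * b * c⁻¹)⁻¹ := by
          rw [hw]; group
        rw [e]
        have hzTriv : C.toLoc.Triv c C.z := by
          show c * C.z * c⁻¹ * C.z⁻¹ ∈ _
          rw [hcz]
          exact mul_mem (inv_mem (Subgroup.mem_zpowers _)) (inv_mem (Subgroup.mem_zpowers _))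
        rcases C.toLoc.inner1_fix hN hinner hzTriv with hall | hle
        · have ea : ∀ q ∈ C.Q, c * q * c⁻¹ = q * (c * q * c⁻¹ * q⁻¹) := fun q hq => by
            rw [C.toLoc.zpow_comm_z (hall q hq) q (C.toLoc.Q_z hq)]; group
          rw [ea a ha, ea b hb]
          exact (C.toLoc.conj_Q_comm ha hb (hall a ha) (hall b hb)).1
        · have ea : ∀ q : G, c * q * c⁻¹ = q⁻¹ * (q * (c * q * c⁻¹)) := fun q => by group
          rw [ea a, ea b]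
          exact (C.toLoc.conj_Q_comm ha hb (C.toLoc.inner1_inverts hN hle hij ha)
            (C.toLoc.inner1_inverts hN hle hij hb)).2
      rw [h2, eq_inv_iff_mul_eq_one, ← pow_two] at h1
      exact eq_one_of_pow_coprime h1 (C.Q_exp _ (C.toLoc.zpow_mem_Q hwz)) (by norm_num)
    have hab := C.toLoc.abelian_Q_small le_rfl (fun a ha b hb =>
      mul_inv_eq_iff_eq_mul.1 (mul_inv_eq_one.1 (hcc a ha b hb)))
    rw [C.Q_card] at hab
    norm_num at hab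
  · -- `h² = t` forces `k² ∈ Q`
    have hmem := C.L_conj c (C.mem_NZ.1 hcN).1 k hkL
    have hψ := hinner ⟨k, hkL⟩ hmem
    have e : C.h * C.h = k * (c * k * c⁻¹) * (c * c) := by rw [hc]; group
    rw [C.h_sq, hij] at e
    have e' : (⟨C.t, C.t_L⟩ : C.L) = ⟨k, hkL⟩ * ⟨c * k * c⁻¹, hmem⟩ * ⟨C.t, C.t_L⟩ :=
      Subtype.ext e
    have h3 := congrArg C.ψ e'
    rw [map_mul, map_mul, hψ, C.t_ψ, eq_comm, mul_eq_right] at h3
    have hk1 : C.π ⟨k, hkL⟩ = 1 := (C.π_ker _).2 (sl_neg_unique _ h3)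
    rw [hπk] at hk1
    have hinv := C.ρ_h_inv
    rw [hk1, one_mul, inv_one, mul_one] at hinv
    exact absurd hinv (by decide +kernel)

theorem t_pow_cases (j : ℕ) : C.t ^ j = 1 ∨ C.t ^ j = C.t := by
  rw [← Nat.mod_add_div j 2, pow_add, pow_mul, pow_two, C.t_sq, one_pow, mul_one]
  rcases Nat.mod_two_eq_zero_or_one j with h | h <;> simp [h]

variable (hdec : C.toLocH.Dec)
include hdec

/-- An element over the transposition-free inverting permutation. -/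
theorem exists_k : ∃ k : G, ∃ hN : k ∈ C.NZ, k ∈ C.L ∧ k * C.t = C.t * k ∧ k * k = C.t ∧
    k * C.zz * k⁻¹ = C.zz⁻¹ ∧ C.ρ ⟨k, hN⟩ = c[(1 : Fin 5), 2] * c[(3 : Fin 5), 4] := by
  obtain ⟨k, hkL, hkt, hπk, hkN, hρk⟩ := C.exists_L five_basic.2.2.1
  have hkz := C.L_cent k hkL
  set w := k * C.zz * k⁻¹ * C.zz with hw
  have hwN : w ∈ C.NZ := mul_mem (mul_mem (mul_mem hkN C.zz_NZ) (inv_mem hkN)) C.zz_NZ
  have hwz : w * C.z = C.z * w := by
    have h1 : Commute k C.z := hkz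
    have h2 : Commute C.zz C.z := C.zz_cent
    exact (((h1.mul_left h2).mul_left h1.inv_left).mul_left h2).eq
  obtain ⟨i, j, hij⟩ := C.ρ_kernel hwz (C.mem_NZ.1 hwN).2 (by
    rw [show (⟨w, C.mem_NZ_of_cent hwz (C.mem_NZ.1 hwN).2⟩ : C.NZ) =
      ⟨k, hkN⟩ * ⟨C.zz, C.zz_NZ⟩ * (⟨k, hkN⟩ : C.NZ)⁻¹ * ⟨C.zz, C.zz_NZ⟩ from rfl, map_mul, map_mul,
      map_mul, map_inv, hρk, C.ρ_zz, five_basic.2.1, inv_mul_cancel])
  set v := k * C.zz * k⁻¹ with hv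
  have hv1 : v = C.z ^ i * C.t ^ j * C.zz⁻¹ := by rw [← hij, hw, mul_inv_cancel_right]
  have hv3 : v ^ 3 = 1 := by rw [hv, conj_pow, C.toLocH.zz_exp]; group
  have htj : C.t ^ j = 1 := by
    have c1 : Commute (C.z ^ i) (C.t ^ j) :=
      ((show Commute C.z C.t from C.toLocT.t_z.symm).pow_pow i j)
    have c2 : Commute (C.z ^ i * C.t ^ j) C.zz⁻¹ :=
      (((show Commute C.z C.zz from C.toLocH.z_zz).pow_left i).mul_left
        ((show Commute C.t C.zz from C.zz_t).pow_left j)).inv_right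
    rw [hv1, c2.mul_pow, c1.mul_pow, inv_pow, C.toLocH.zz_exp, inv_one, mul_one, ← pow_mul,
      mul_comm i 3, pow_mul, C.z_exp, one_pow, one_mul] at hv3
    exact eq_one_of_pow_coprime (m := 2) (n := 3)
      (by rw [← pow_mul, mul_comm, pow_mul, pow_two, C.t_sq, one_pow]) hv3 (by norm_num)
  rw [htj, mul_one] at hv1
  have hkD : k ∈ Subgroup.normalizer (C.FixD : Set G) := by
    refine C.norm_D_of ?_ ?_
    · rw [hkz, mul_inv_cancel_right]; exact C.z_D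
    · rw [← hv, hv1]; exact mul_mem (pow_mem C.z_D i) (inv_mem C.zz_D)
  have hzi : C.z ^ i = 1 := by
    have hmem : C.z ^ i ∈ Subgroup.zpowers C.z := pow_mem (Subgroup.mem_zpowers _) i
    have himg := C.zz_image hdec hkt hkD
    rw [← hv, hv1] at himg
    rcases himg with h | h | h | h
    · exfalso
      apply C.zz_not_z
      rw [show C.zz = C.z⁻¹ * C.z ^ i from eq_inv_mul_iff_mul_eq.2 (mul_inv_eq_iff_eq_mul.1 h).symm]
      exact mul_mem (inv_mem (Subgroup.mem_zpowers _)) hmem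
    · exfalso
      apply C.zz_not_z
      rw [show C.zz = C.z⁻¹⁻¹ * C.z ^ i from eq_inv_mul_iff_mul_eq.2 (mul_inv_eq_iff_eq_mul.1 h).symm]
      exact mul_mem (inv_mem (inv_mem (Subgroup.mem_zpowers _))) hmem
    · exfalso
      apply C.zz_not_z
      have h2 : C.zz * C.zz = C.z ^ i := (mul_inv_eq_iff_eq_mul.1 h).symm
      have h4 : C.zz = (C.zz * C.zz) ^ 2 := by
        rw [← pow_two, ← pow_mul, show 2 * 2 = 3 + 1 from rfl, pow_succ, C.toLocH.zz_exp, one_mul]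
      rw [h4, h2]
      exact pow_mem hmem 2
    · exact mul_eq_right.1 h
  rw [hzi, one_mul] at hv1
  set k' := k ^ 3 with hk'
  have hk'N : k' ∈ C.NZ := pow_mem hkN 3
  have hρ' : C.ρ ⟨k', hk'N⟩ = c[(1 : Fin 5), 2] * c[(3 : Fin 5), 4] := by
    rw [show (⟨k', hk'N⟩ : C.NZ) = ⟨k, hkN⟩ ^ 3 from rfl, map_pow, hρk]
    decide +kernel
  have hk'zz : k' * C.zz * k'⁻¹ = C.zz⁻¹ := by
    rw [hk', show k ^ 3 = k * (k * k) by rw [pow_three], ← conj_conj, ← conj_conj, ← hv, hv1,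
      ← conj_inv, ← hv, hv1, inv_inv, ← hv, hv1]
  refine ⟨k', hk'N, pow_mem hkL 3, (Commute.pow_left hkt 3).eq, ?_, hk'zz, hρ'⟩
  have hkk : k * k ∈ C.NZ := mul_mem hkN hkN
  have hkkz : k * k * C.z = C.z * (k * k) := (Commute.mul_left hkz hkz).eq
  obtain ⟨a, b, hab⟩ := C.ρ_kernel hkkz (C.mem_NZ.1 hkk).2 (by
    rw [show (⟨k * k, C.mem_NZ_of_cent hkkz (C.mem_NZ.1 hkk).2⟩ : C.NZ) =
      ⟨k, hkN⟩ * ⟨k, hkN⟩ from rfl, map_mul, hρk]
    decide +kernel)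
  have hsq : k' * k' = C.t ^ b := by
    have c1 : Commute (C.z ^ a) (C.t ^ b) :=
      ((show Commute C.z C.t from C.toLocT.t_z.symm).pow_pow a b)
    rw [hk', ← pow_add, show 3 + 3 = 2 * 3 from rfl, pow_mul, pow_two, hab, c1.mul_pow, ← pow_mul,
      mul_comm a 3, pow_mul, C.z_exp, one_pow, one_mul, pow_three]
    rcases C.t_pow_cases b with h | h <;> rw [h]
    · simp
    · rw [C.t_sq, mul_one]
  rcases C.t_pow_cases b with h | h
  · exfalso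
    obtain ⟨hX3, hX1⟩ := C.toLocH.ψ_zz
    have hk'L : k' ∈ C.L := pow_mem hkL 3
    have himg : C.ψ ⟨k', hk'L⟩ * C.ψ ⟨C.zz, C.toLocH.zz_L⟩ * (C.ψ ⟨k', hk'L⟩)⁻¹ =
        (C.ψ ⟨C.zz, C.toLocH.zz_L⟩)⁻¹ := by
      rw [← map_inv, ← map_mul, ← map_mul, ← map_inv C.ψ]
      congr 1
      exact Subtype.ext hk'zz
    have h5 := sl_three_inv _ hX3 hX1 _ himg
    rw [← map_mul, show (⟨k', hk'L⟩ : C.L) * ⟨k', hk'L⟩ = 1 from Subtype.ext (hsq.trans h), map_one]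
      at h5
    exact sl_centre.2.1 h5.symm
  · exact hsq.trans h

omit hdec in
/-- An element of `C(z, zz, t)` inducing an even permutation lies in `D × ⟨t⟩`. -/
theorem cent_even {g : G} (hz : g * C.z = C.z * g) (ht : g * C.t = C.t * g)
    (hzz : g * C.zz = C.zz * g) (hs : Perm.sign (C.ρ ⟨g, C.mem_NZ_of_cent hz ht⟩) = 1) :
    ∃ i a j : ℕ, g = C.z ^ i * C.zz ^ a * C.t ^ j := by
  set gN : C.NZ := ⟨g, C.mem_NZ_of_cent hz ht⟩ with hgN
  have hcomm : C.ρ gN * c[(0 : Fin 5), 1, 2] = c[(0 : Fin 5), 1, 2] * C.ρ gN := by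
    rw [← C.ρ_zz, ← map_mul, ← map_mul]
    congr 1
    exact Subtype.ext hzz
  obtain ⟨a, b, hab⟩ := five_three_cent _ hcomm
  have hb : b = 0 := by
    rw [hab] at hs
    fin_cases b
    · rfl
    · revert hs; fin_cases a <;> decide +kernel
  rw [hb, Fin.val_zero, pow_zero, mul_one] at hab
  set w := g * (C.zz ^ (a : ℕ))⁻¹ with hw
  have hwz : w * C.z = C.z * w :=
    ((show Commute g C.z from hz).mul_left
      ((show Commute C.zz C.z from C.zz_cent).pow_left _).inv_left).eq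
  have hwt : w * C.t = C.t * w :=
    ((show Commute g C.t from ht).mul_left
      ((show Commute C.zz C.t from C.zz_t.symm).pow_left _).inv_left).eq
  obtain ⟨i, j, hij⟩ := C.ρ_kernel hwz hwt (by
    rw [show (⟨w, C.mem_NZ_of_cent hwz hwt⟩ : C.NZ) =
      gN * ((⟨C.zz, C.zz_NZ⟩ : C.NZ) ^ (a : ℕ))⁻¹ from rfl, map_mul, map_inv, map_pow, C.ρ_zz, hab,
      mul_inv_cancel])
  refine ⟨i, a, j, ?_⟩
  have e : g = C.z ^ i * C.t ^ j * C.zz ^ (a : ℕ) := by rw [← hij, hw, inv_mul_cancel_right]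
  rw [e, mul_assoc, ((show Commute C.t C.zz from C.zz_t).pow_pow j (a : ℕ)).eq, ← mul_assoc]

omit hdec in
/-- An element of `C(z, t)` inducing an even permutation lies in `L`. -/
theorem mem_L_of_even {g : G} (hz : g * C.z = C.z * g) (ht : g * C.t = C.t * g)
    (hs : Perm.sign (C.ρ ⟨g, C.mem_NZ_of_cent hz ht⟩) = 1) : g ∈ C.L := by
  obtain ⟨l, hlL, hlt, hπl, hlN, hρl⟩ := C.exists_L hs
  have hwz : l⁻¹ * g * C.z = C.z * (l⁻¹ * g) :=
    ((show Commute l C.z from C.L_cent l hlL).inv_left.mul_left hz).eq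
  have hwt : l⁻¹ * g * C.t = C.t * (l⁻¹ * g) :=
    ((show Commute l C.t from hlt).inv_left.mul_left ht).eq
  obtain ⟨i, j, hij⟩ := C.ρ_kernel hwz hwt (by
    rw [show (⟨l⁻¹ * g, C.mem_NZ_of_cent hwz hwt⟩ : C.NZ) =
      (⟨l, hlN⟩ : C.NZ)⁻¹ * ⟨g, C.mem_NZ_of_cent hz ht⟩ from rfl, map_mul, map_inv, hρl,
      inv_mul_cancel])
  have hmem : l⁻¹ * g ∈ C.L := by
    rw [hij]
    exact mul_mem (pow_mem (C.toLoc.Q_le_L C.z_mem) i) (pow_mem C.t_L j)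
  have := mul_mem hlL hmem
  rwa [mul_inv_cancel_left] at this

/-- The normaliser of `D` in `C(t)`: every element reduces into `C(z, zz, t)`. -/
theorem norm_form {k : G} (hkN : k ∈ C.NZ) (hkL : k ∈ C.L) (hkzz : k * C.zz * k⁻¹ = C.zz⁻¹)
    {g : G} (hgt : g * C.t = C.t * g) (hgD : g ∈ Subgroup.normalizer (C.FixD : Set G)) :
    ∃ a b c : Fin 2, ∃ e : G, e * C.z = C.z * e ∧ e * C.zz = C.zz * e ∧ e * C.t = C.t * e ∧
      g = C.s ^ (c : ℕ) * C.h ^ (b : ℕ) * k ^ (a : ℕ) * e := by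
  have hkt := (C.mem_NZ.1 hkN).2
  have hhD : C.h ∈ Subgroup.normalizer (C.FixD : Set G) :=
    C.norm_D_of (by rw [C.h_z]; exact inv_mem C.z_D) (by rw [C.h_zz]; exact inv_mem C.zz_D)
  have hsi : C.s⁻¹ * C.zz * C.s⁻¹⁻¹ = C.z := by rw [C.toLocH.s_inv, ← C.toLocH.s_zz, C.toLocH.s_inv]
  obtain ⟨c, hc⟩ : ∃ c : Fin 2, (C.s ^ (c : ℕ))⁻¹ * g * C.z * ((C.s ^ (c : ℕ))⁻¹ * g)⁻¹ = C.z ∨
      (C.s ^ (c : ℕ))⁻¹ * g * C.z * ((C.s ^ (c : ℕ))⁻¹ * g)⁻¹ = C.z⁻¹ := by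
    rcases C.z_image hdec hgt hgD with h | h | h | h
    · exact ⟨0, Or.inl (by simpa using h)⟩
    · exact ⟨0, Or.inr (by simpa using h)⟩
    · refine ⟨1, Or.inl ?_⟩
      rw [Fin.val_one, pow_one, ← conj_conj, h, hsi]
    · refine ⟨1, Or.inr ?_⟩
      rw [Fin.val_one, pow_one, ← conj_conj, h, ← conj_inv, hsi]
  set g1 := (C.s ^ (c : ℕ))⁻¹ * g with hg1
  have hg1t : g1 * C.t = C.t * g1 :=
    (((show Commute C.s C.t from C.s_t).pow_left _).inv_left.mul_left hgt).eq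
  have hg1D : g1 ∈ Subgroup.normalizer (C.FixD : Set G) :=
    mul_mem (inv_mem (pow_mem (C.s_norm_D hdec) _)) hgD
  obtain ⟨b, hb⟩ : ∃ b : Fin 2, (C.h ^ (b : ℕ))⁻¹ * g1 * C.z * ((C.h ^ (b : ℕ))⁻¹ * g1)⁻¹ = C.z := by
    rcases hc with h | h
    · exact ⟨0, by simpa using h⟩
    · refine ⟨1, ?_⟩
      rw [Fin.val_one, pow_one, ← conj_conj, h]
      have h2 : C.h⁻¹ * (C.h * C.z * C.h⁻¹) * C.h = C.h⁻¹ * C.z⁻¹ * C.h := by rw [C.h_z]
      rw [inv_inv, ← h2]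
      group
  set g2 := (C.h ^ (b : ℕ))⁻¹ * g1 with hg2
  have hg2t : g2 * C.t = C.t * g2 :=
    (((show Commute C.h C.t from C.toLocH.h_t).pow_left _).inv_left.mul_left hg1t).eq
  have hg2D : g2 ∈ Subgroup.normalizer (C.FixD : Set G) := mul_mem (inv_mem (pow_mem hhD _)) hg1D
  have hinj : ∀ x : G, g2 * x * g2⁻¹ = C.z → x = C.z := fun x hx => by
    rw [← hb] at hx
    exact mul_left_cancel (mul_right_cancel hx)
  obtain ⟨a, ha⟩ : ∃ a : Fin 2,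
      (k ^ (a : ℕ))⁻¹ * g2 * C.zz * ((k ^ (a : ℕ))⁻¹ * g2)⁻¹ = C.zz := by
    rcases C.zz_image hdec hg2t hg2D with h | h | h | h
    · exact absurd (hinj _ h ▸ Subgroup.mem_zpowers C.z) C.zz_not_z
    · have h2 : g2 * C.zz⁻¹ * g2⁻¹ = C.z := by rw [← conj_inv, h, inv_inv]
      exfalso
      apply C.zz_not_z
      rw [← inv_inv C.zz, hinj _ h2]
      exact inv_mem (Subgroup.mem_zpowers _)
    · exact ⟨0, by simpa using h⟩
    · refine ⟨1, ?_⟩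
      rw [Fin.val_one, pow_one, ← conj_conj, h]
      have h2 : k⁻¹ * (k * C.zz * k⁻¹) * k = k⁻¹ * C.zz⁻¹ * k := by rw [hkzz]
      rw [inv_inv, ← h2]
      group
  refine ⟨a, b, c, (k ^ (a : ℕ))⁻¹ * g2, ?_, mul_inv_eq_iff_eq_mul.1 ha, ?_, ?_⟩
  · exact ((show Commute k C.z from C.L_cent k hkL).pow_left _).inv_left.mul_left
      (show Commute g2 C.z from mul_inv_eq_iff_eq_mul.1 hb) |>.eq
  · exact (((show Commute k C.t from hkt).pow_left _).inv_left.mul_left hg2t).eq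
  · rw [hg2, hg1]; group

end LocC

end Cfsg.Lib.McLThree
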