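import Cfsg.Agent.Lib.McLThree.Points

/-!
The fixed group of `t` on `J` and its normaliser in the centraliser of `t`.
-/

set_option autoImplicit false
set_option linter.style.haveILetI false
set_option linter.unusedSectionVars false

namespace Cfsg.Lib.McLThree

open Cfsg.Lib.Recog.Icosa
open Cfsg.Lib.AltEightThree (mem_cent_singleton conj_mem_normalizer mem_normalizer_of_forall
  mem_normalizer_of_cent)

variable {G : Type*} [Group G] [Finite G]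

/-- The configuration with the elements `h` and `s`. -/
structure LocH (G : Type*) [Group G] extends LocJ G where
  /-- an element of order four inverting the fixed group of `t` -/
  h : G
  /-- an involution interchanging the two singular points -/
  s : G
  h_M : h ∈ toLocJ.M
  s_M : s ∈ toLocJ.M
  θ_h : toLocJ.θ ⟨h, h_M⟩ = h0
  h_sq : h * h = toLocJ.t
  θ_s : toLocJ.θ ⟨s, s_M⟩ = s0
  s_sq : s * s = 1
  s_t : s * toLocJ.t = toLocJ.t * s
  s_h : s * h * s⁻¹ = h⁻¹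

theorem LocJ.exists_locH (F : LocJ G) : ∃ H : LocH G, H.toLocJ = F := by
  obtain ⟨h, s, h1, h2, h3, h4, h5, h6⟩ := F.exists_hs
  exact ⟨
    { toLocJ := F
      h := h
      s := s
      h_M := h.2
      s_M := s.2
      θ_h := h1
      h_sq := h2
      θ_s := h3
      s_sq := h4
      s_t := h5
      s_h := h6 }, rfl⟩

namespace LocH

variable (H : LocH G)

/-- The second singular point. -/
def zz : G := H.s * H.z * H.s⁻¹

/-- The product of the two singular points. -/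
def y : G := H.z * H.zz

/-- The quotient of the two singular points. -/
def y' : G := H.z * H.zz⁻¹

theorem s_inv : H.s⁻¹ = H.s := inv_eq_of_mul_eq_one_right H.s_sq

theorem zz_J : H.zz ∈ H.J := H.toLocJ.conj_J ⟨H.s, H.s_M⟩ H.toLoc.z_J

theorem zz_t : H.t * H.zz = H.zz * H.t := by
  have h2 : Commute H.s H.t := H.s_t
  have h3 : Commute H.z H.t := H.toLocT.t_z.symm
  exact ((h2.mul_left h3).mul_left h2.inv_left).eq.symm

theorem zz_not_z : H.zz ∉ Subgroup.zpowers H.z :=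
  H.toLocJ.sigma_not_z (s := ⟨H.s, H.s_M⟩) H.θ_s

theorem zz_not_Q : H.zz ∉ H.Q := fun hq => H.zz_not_z (H.toLocT.cQ_t hq H.zz_t)

theorem zz_exp : H.zz ^ 3 = 1 := H.J_exp _ H.zz_J

theorem zz_ne : H.zz ≠ 1 := fun h => H.zz_not_z (h ▸ one_mem _)

theorem z_zz : H.z * H.zz = H.zz * H.z := H.J_comm _ H.toLoc.z_J _ H.zz_J

theorem s_zz : H.s * H.zz * H.s⁻¹ = H.z := by
  show H.s * (H.s * H.z * H.s⁻¹) * H.s⁻¹ = H.z
  rw [conj_conj, H.s_sq]
  group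

theorem h_z : H.h * H.z * H.h⁻¹ = H.z⁻¹ := H.toLocJ.h_inverts_z (h := ⟨H.h, H.h_M⟩) H.θ_h

theorem h_t : H.h * H.t = H.t * H.h := by rw [← H.h_sq, mul_assoc]

theorem h_zz : H.h * H.zz * H.h⁻¹ = H.zz⁻¹ := by
  have e : H.h * H.s = H.s * H.h⁻¹ := by
    calc H.h * H.s = H.h * H.s * (H.s * H.s)⁻¹ * (H.s * H.s) := by group
      _ = H.s * ((H.s)⁻¹ * H.h * H.s) * (H.s * H.s)⁻¹ * (H.s * H.s) := by group
      _ = H.s * H.h⁻¹ := by
        rw [H.s_sq, inv_one, mul_one, mul_one]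
        congr 1
        have := H.s_h
        rw [H.s_inv] at this ⊢
        exact this
  have hhz : H.h⁻¹ * H.z * H.h = H.z⁻¹ := by
    calc H.h⁻¹ * H.z * H.h = H.h⁻¹ * H.z⁻¹⁻¹ * H.h := by rw [inv_inv]
      _ = H.h⁻¹ * (H.h * H.z * H.h⁻¹)⁻¹ * H.h := by rw [H.h_z]
      _ = _ := by group
  show H.h * (H.s * H.z * H.s⁻¹) * H.h⁻¹ = (H.s * H.z * H.s⁻¹)⁻¹
  rw [conj_conj, e, ← conj_conj, inv_inv, hhz, conj_inv]

/-- `D = C_J(t)`. -/
def FixD : Subgroup G := H.J ⊓ Subgroup.centralizer ({H.t} : Set G)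

theorem mem_FixD {x : G} : x ∈ H.FixD ↔ x ∈ H.J ∧ H.t * x = x * H.t := by
  rw [FixD, Subgroup.mem_inf, mem_cent_singleton]
  exact and_congr_right (fun _ => eq_comm)

theorem z_D : H.z ∈ H.FixD := H.mem_FixD.2 ⟨H.toLoc.z_J, H.toLocT.t_z⟩

theorem zz_D : H.zz ∈ H.FixD := H.mem_FixD.2 ⟨H.zz_J, H.zz_t⟩

theorem D_form {x : G} (hx : x ∈ H.FixD) : ∃ i j : Fin 3, x = H.z ^ (i : ℕ) * H.zz ^ (j : ℕ) := by
  obtain ⟨hxJ, hxt⟩ := H.mem_FixD.1 hx
  obtain ⟨i, j, rfl, hj⟩ := H.toLocT.cent_t_J H.zz_J H.zz_not_Q H.zz_t hxJ hxt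
  refine ⟨⟨i % 3, Nat.mod_lt _ (by norm_num)⟩, ⟨j, hj⟩, ?_⟩
  show H.z ^ i * H.zz ^ j = H.z ^ (i % 3) * H.zz ^ j
  conv_lhs => rw [← Nat.mod_add_div i 3, pow_add, pow_mul, H.z_exp, one_pow, mul_one]

theorem norm_D_of {g : G} (h1 : g * H.z * g⁻¹ ∈ H.FixD) (h2 : g * H.zz * g⁻¹ ∈ H.FixD) :
    g ∈ Subgroup.normalizer (H.FixD : Set G) := by
  refine mem_normalizer_of_forall (fun x hx => ?_)
  obtain ⟨i, j, rfl⟩ := H.D_form hx
  rw [← conj_mul, ← conj_pow, ← conj_pow]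
  exact mul_mem (pow_mem h1 _) (pow_mem h2 _)

theorem t_norm_D {g : G} (hJ : g ∈ Subgroup.normalizer (H.J : Set G)) (ht : g * H.t = H.t * g) :
    g ∈ Subgroup.normalizer (H.FixD : Set G) := by
  refine mem_normalizer_of_forall (fun x hx => ?_)
  obtain ⟨hxJ, hxt⟩ := H.mem_FixD.1 hx
  refine H.mem_FixD.2 ⟨conj_mem_normalizer hJ hxJ, ?_⟩
  have h2 : Commute g H.t := ht
  exact ((h2.mul_left (show Commute x H.t from hxt.symm)).mul_left h2.inv_left).eq.symm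

/-- The hypothesis used in place of the constraint on the centraliser of a point of the second
kind. -/
def Dec : Prop :=
  ∀ u : G, (u = H.y ∨ u = H.y') → ∀ g : G, g * u = u * g → g * H.t = H.t * g →
    g ∈ Subgroup.normalizer (H.FixD : Set G)

theorem y_J : H.y ∈ H.J := mul_mem H.toLoc.z_J H.zz_J

theorem y'_J : H.y' ∈ H.J := mul_mem H.toLoc.z_J (inv_mem H.zz_J)

theorem s_y : H.s * H.y * H.s⁻¹ = H.y := by
  show H.s * (H.z * H.zz) * H.s⁻¹ = H.z * H.zz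
  rw [← conj_mul, H.s_zz, show H.s * H.z * H.s⁻¹ = H.zz from rfl, H.z_zz]

theorem s_y' : H.s * H.y' * H.s⁻¹ = H.y'⁻¹ := by
  show H.s * (H.z * H.zz⁻¹) * H.s⁻¹ = (H.z * H.zz⁻¹)⁻¹
  rw [← conj_mul, ← conj_inv, H.s_zz, show H.s * H.z * H.s⁻¹ = H.zz from rfl, mul_inv_rev, inv_inv]

theorem y_ne : H.y ≠ 1 := fun h => H.zz_not_z (by
  have : H.zz = H.z⁻¹ := eq_inv_of_mul_eq_one_right h
  rw [this]; exact inv_mem (Subgroup.mem_zpowers _))

theorem y'_ne : H.y' ≠ 1 := fun h => H.zz_not_z (by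
  have : H.z = H.zz := mul_inv_eq_one.1 h
  rw [← this]; exact Subgroup.mem_zpowers _)

theorem six_three_pow : ∀ p : ASix, p ^ 9 = 1 → p ^ 3 = 1 := by decide +kernel

/-- If the 3-core of the centraliser of `u` is self-centralising, that centraliser normalises `J`. -/
theorem cent_norm_J {u : G} (huJ : u ∈ H.J)
    (hus : H.s * u * H.s⁻¹ = u ∨ H.s * u * H.s⁻¹ = u⁻¹) (hut : H.t * u = u * H.t)
    (P : Subgroup G) (hP : IsPGroup 3 P)
    (hPn : ∀ g, (g * u * g⁻¹ = u ∨ g * u * g⁻¹ = u⁻¹) → ∀ p ∈ P, g * p * g⁻¹ ∈ P)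
    (hPc : ∀ g, (∀ p ∈ P, g * p = p * g) → g ∈ P) {g : G} (hg : g * u = u * g) :
    g ∈ Subgroup.normalizer (H.J : Set G) := by
  have hJn : H.J ≤ Subgroup.normalizer (P : Set G) := fun a ha =>
    mem_normalizer_of_forall (hPn a (Or.inl (by rw [H.J_comm a ha u huJ, mul_inv_cancel_right])))
  have hJp : IsPGroup 3 H.J := isPGroup_of_forall_pow (k := 1) (by simpa using H.J_exp)
  have hPN : P ≤ Subgroup.normalizer (H.J : Set G) :=
    le_trans le_sup_right (H.toLoc.three_norm (hJp.to_sup_of_normal_right' hP hJn) le_sup_left)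
  have hPM : P ≤ H.M := fun p hp => by
    obtain ⟨k, hk⟩ := Loc.three_pow hP hp
    exact H.M_three p (hPN hp) k hk
  set R := (P.subgroupOf H.M).map H.θ with hR
  have hRone : R = ⊥ := by
    by_contra hne
    haveI : Fact (Nat.Prime 3) := ⟨Nat.prime_three⟩
    have hRp : IsPGroup 3 R := (hP.comap_of_injective H.M.subtype H.M.subtype_injective).map _
    haveI : Nontrivial R := (Subgroup.nontrivial_iff_ne_bot R).2 hne
    haveI : Nontrivial (Subgroup.center R) := hRp.center_nontrivial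
    obtain ⟨⟨c, hc⟩, hc1⟩ := exists_ne (1 : Subgroup.center R)
    have hc3 : (c : ASix) ^ 3 = 1 := by
      obtain ⟨k, hk⟩ := hRp c
      have hk' : (c : ASix) ^ 3 ^ k = 1 := congrArg Subtype.val hk
      apply six_three_pow
      have h360 : (c : ASix) ^ 360 = 1 := by
        have h2 := pow_card_eq_one' (x := (c : ASix))
        rwa [nat_card_alternatingGroup, Nat.card_fin,
          show (6 : ℕ).factorial / 2 = 360 from rfl] at h2
      have h3 := pow_gcd_eq_one.2 ⟨hk', h360⟩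
      obtain ⟨j, hj, he⟩ := (Nat.dvd_prime_pow Nat.prime_three).1 (Nat.gcd_dvd_left (3 ^ k) 360)
      rw [he] at h3
      have hj2 : j ≤ 2 := by
        by_contra h
        have h4 : 3 ^ 3 ∣ 360 :=
          (pow_dvd_pow 3 (Nat.lt_of_not_le h)).trans (he ▸ Nat.gcd_dvd_right (3 ^ k) 360)
        norm_num at h4
      rw [show (9 : ℕ) = 3 ^ j * 3 ^ (2 - j) from by
        rw [← pow_add, Nat.add_sub_cancel' hj2]; rfl, pow_mul, h3, one_pow]
    have hcne : (c : ASix) ≠ 1 := fun h => hc1 (Subtype.ext (Subtype.ext h))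
    have hcomm : ∀ e : G, (heM : e ∈ H.M) → (e * u * e⁻¹ = u ∨ e * u * e⁻¹ = u⁻¹) →
        (c : ASix) * (H.θ ⟨e, heM⟩ * c * (H.θ ⟨e, heM⟩)⁻¹) =
          H.θ ⟨e, heM⟩ * c * (H.θ ⟨e, heM⟩)⁻¹ * c := by
      intro e heM he
      obtain ⟨m, hm, hmc⟩ := c.2
      have hmem : H.θ ⟨e, heM⟩ * (c : ASix) * (H.θ ⟨e, heM⟩)⁻¹ ∈ R :=
        ⟨⟨e, heM⟩ * m * ⟨e, heM⟩⁻¹, hPn e he _ hm, by rw [map_mul, map_mul, map_inv, hmc]⟩
      exact (congrArg Subtype.val (Subgroup.mem_center_iff.1 hc ⟨_, hmem⟩)).symm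
    refine no_three (c : ASix) hc3 hcne ⟨?_, ?_⟩
    · have h2 := hcomm H.t H.t_M (Or.inl (by rw [hut, mul_inv_cancel_right]))
      rw [H.θ_t] at h2
      rwa [inv_eq_of_mul_eq_one_right six_basic.2.2.2.1] at h2
    · have h2 := hcomm H.s H.s_M hus
      rw [H.θ_s] at h2
      rwa [inv_eq_of_mul_eq_one_right six_basic.1] at h2
  have hPJ : P ≤ H.J := fun p hp => by
    refine (H.θ_ker ⟨p, hPM hp⟩).1 ?_
    have : H.θ ⟨p, hPM hp⟩ ∈ R := ⟨⟨p, hPM hp⟩, hp, rfl⟩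
    rwa [hRone, Subgroup.mem_bot] at this
  have hJP : H.J ≤ P := fun a ha => hPc a (fun p hp => H.J_comm a ha p (hPJ hp))
  refine mem_normalizer_of_forall (fun a ha => hPJ ?_)
  exact hPn g (Or.inl (by rw [hg, mul_inv_cancel_right])) a (hJP ha)

/-- An element of order five in `C_L(t)`. -/
theorem exists_five : ∃ d : G, ∃ hd : d ∈ H.L, d * H.z = H.z * d ∧ d * H.t = H.t * d ∧
    H.ψ ⟨d, hd⟩ ^ 5 = 1 ∧ H.ψ ⟨d, hd⟩ ≠ 1 := by
  obtain ⟨⟨x, hx⟩, hxd⟩ := H.ψ_surj (gensSL 1)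
  obtain ⟨c, hcQ, hc⟩ := H.toLocT.adjust_t (H.L_cent x hx)
  have hcL := H.toLoc.Q_le_L hcQ
  have hmem : c⁻¹ * x ∈ H.L := mul_mem (inv_mem hcL) hx
  have hψ : H.ψ ⟨c⁻¹ * x, hmem⟩ = gensSL 1 := by
    rw [show (⟨c⁻¹ * x, hmem⟩ : H.L) = ⟨c, hcL⟩⁻¹ * ⟨x, hx⟩ from rfl, map_mul, map_inv,
      H.toLoc.ψ_of_mem_Q hcQ, inv_one, one_mul, hxd]
  exact ⟨c⁻¹ * x, hmem, H.L_cent _ hmem, hc, by rw [hψ]; exact sl_centre.2.2.2.1,
    by rw [hψ]; exact sl_centre.2.2.2.2.1⟩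

theorem zz_L : H.zz ∈ H.L := H.toLoc.S_le_L (H.J_le H.zz_J)

theorem ψ_zz : H.ψ ⟨H.zz, H.zz_L⟩ ^ 3 = 1 ∧ H.ψ ⟨H.zz, H.zz_L⟩ ≠ 1 :=
  ⟨H.toLoc.ψ_three (H.J_le H.zz_J) _, fun h => H.zz_not_Q ((H.ψ_ker _).1 h)⟩

variable (hdec : H.Dec)
include hdec

theorem not_conj_y {g : G} (hgt : g * H.t = H.t * g)
    (hgD : g ∈ Subgroup.normalizer (H.FixD : Set G)) {u : G} (hu : u = H.y ∨ u = H.y') :
    g * H.z * g⁻¹ ≠ u ∧ g * H.z * g⁻¹ ≠ u⁻¹ := by
  suffices h : ∀ v, (v = u ∨ v = u⁻¹) → g * H.z * g⁻¹ ≠ v from ⟨h u (Or.inl rfl), h _ (Or.inr rfl)⟩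
  intro v hv hgz
  obtain ⟨d, hdL, hdz, hdt, hd5, hd1⟩ := H.exists_five
  have hgd : g * d * g⁻¹ ∈ Subgroup.normalizer (H.FixD : Set G) := by
    refine hdec u hu _ ?_ ?_
    · have h2 : g * d * g⁻¹ * v = v * (g * d * g⁻¹) := by
        rw [← hgz]
        calc g * d * g⁻¹ * (g * H.z * g⁻¹) = g * (d * H.z) * g⁻¹ := by group
          _ = g * H.z * g⁻¹ * (g * d * g⁻¹) := by rw [hdz]; group
      rcases hv with rfl | rfl
      · exact h2
      · simpa using (Commute.inv_right h2).eq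
    · have h2 : Commute g H.t := hgt
      exact ((h2.mul_left (show Commute d H.t from hdt)).mul_left h2.inv_left).eq
  have hd' : d ∈ Subgroup.normalizer (H.FixD : Set G) := by
    have h2 := mul_mem (mul_mem (inv_mem hgD) hgd) hgD
    have e : g⁻¹ * (g * d * g⁻¹) * g = d := by group
    rwa [e] at h2
  set X := H.ψ ⟨H.zz, H.zz_L⟩ with hX
  obtain ⟨hX3, hX1⟩ := H.ψ_zz
  rw [← hX] at hX3 hX1
  set B := H.ψ ⟨d, hdL⟩ with hB
  obtain ⟨i, j, hij⟩ := H.D_form (conj_mem_normalizer hd' H.zz_D)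
  have himg : B * X * B⁻¹ = X ^ (j : ℕ) := by
    rw [hB, hX, ← map_inv, ← map_mul, ← map_mul, ← map_pow]
    have hzL : H.z ∈ H.L := H.toLoc.Q_le_L H.z_mem
    rw [show (⟨d, hdL⟩ * ⟨H.zz, H.zz_L⟩ * (⟨d, hdL⟩ : H.L)⁻¹) =
      ⟨H.z, hzL⟩ ^ (i : ℕ) * (⟨H.zz, H.zz_L⟩ : H.L) ^ (j : ℕ) from Subtype.ext hij, map_mul,
      map_pow, H.toLoc.ψ_of_mem_Q H.z_mem, one_pow, one_mul, map_pow]
  have hB2 : (B * B) * X = X * (B * B) := by
    have h2 : (B * B) * X * (B * B)⁻¹ = X ^ ((j : ℕ) * (j : ℕ)) := by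
      rw [← conj_conj, himg, ← conj_pow, himg, pow_mul]
    have hjj : X ^ ((j : ℕ) * (j : ℕ)) = X := by
      fin_cases j
      · exfalso
        simp only [pow_zero] at himg
        exact hX1 (conj_eq_one_iff.1 himg)
      · simp
      · show X ^ (2 * 2) = X
        rw [show 2 * 2 = 3 + 1 from rfl, pow_succ, hX3, one_mul]
    rw [hjj] at h2
    exact mul_inv_eq_iff_eq_mul.1 h2
  have h6 := sl_three_cent X hX3 hX1 (B * B) hB2
  rw [← pow_two, ← pow_mul] at h6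
  exact hd1 (eq_one_of_pow_coprime hd5 h6 (by norm_num))

/-- An element of `C(t)` normalising `D` permutes the two singular points. -/
theorem z_image {g : G} (hgt : g * H.t = H.t * g)
    (hgD : g ∈ Subgroup.normalizer (H.FixD : Set G)) :
    g * H.z * g⁻¹ = H.z ∨ g * H.z * g⁻¹ = H.z⁻¹ ∨ g * H.z * g⁻¹ = H.zz ∨
      g * H.z * g⁻¹ = H.zz⁻¹ := by
  obtain ⟨n1, n1'⟩ := H.not_conj_y hdec hgt hgD (Or.inl rfl)
  obtain ⟨n2, n2'⟩ := H.not_conj_y hdec hgt hgD (Or.inr rfl)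
  obtain ⟨i, j, hij⟩ := H.D_form (conj_mem_normalizer hgD H.z_D)
  have hz2 : H.z ^ 2 = H.z⁻¹ := eq_inv_of_mul_eq_one_left (by rw [← pow_succ, H.z_exp])
  have hw2 : H.zz ^ 2 = H.zz⁻¹ := eq_inv_of_mul_eq_one_left (by rw [← pow_succ, H.zz_exp])
  have hc : H.z⁻¹ * H.zz⁻¹ = H.zz⁻¹ * H.z⁻¹ := by rw [← mul_inv_rev, ← mul_inv_rev, H.z_zz]
  have hc2 : H.z⁻¹ * H.zz = H.zz * H.z⁻¹ := (Commute.inv_left H.z_zz).eq
  fin_cases i <;> fin_cases j <;>
    simp only [pow_zero, pow_one, hz2, hw2, one_mul, mul_one] at hij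
  · exact absurd (conj_eq_one_iff.1 hij) H.z_ne
  · exact Or.inr (Or.inr (Or.inl hij))
  · exact Or.inr (Or.inr (Or.inr hij))
  · exact Or.inl hij
  · exact absurd hij n1
  · exact absurd hij n2
  · exact Or.inr (Or.inl hij)
  · exact absurd (hij.trans (by show _ = (H.z * H.zz⁻¹)⁻¹; rw [mul_inv_rev, inv_inv, hc2])) n2'
  · exact absurd (hij.trans (by show _ = (H.z * H.zz)⁻¹; rw [mul_inv_rev, hc])) n1'

theorem s_norm_D : H.s ∈ Subgroup.normalizer (H.FixD : Set G) :=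
  H.t_norm_D (H.M_norm H.s_M) H.s_t

theorem zz_image {g : G} (hgt : g * H.t = H.t * g)
    (hgD : g ∈ Subgroup.normalizer (H.FixD : Set G)) :
    g * H.zz * g⁻¹ = H.z ∨ g * H.zz * g⁻¹ = H.z⁻¹ ∨ g * H.zz * g⁻¹ = H.zz ∨
      g * H.zz * g⁻¹ = H.zz⁻¹ := by
  have h := H.z_image hdec (g := g * H.s)
    (Commute.mul_left (show Commute g H.t from hgt) (show Commute H.s H.t from H.s_t)).eq
    (mul_mem hgD (H.s_norm_D hdec))
  rw [← conj_conj, show H.s * H.z * H.s⁻¹ = H.zz from rfl] at h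
  exact h

end LocH

end Cfsg.Lib.McLThree
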