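import Cfsg.Agent.Lib.McLThree.JPart
import Cfsg.Agent.Lib.PGroup.Basic

/-!
The elements `h` and `s` centralising `t`, seen in the normaliser of `J`.
-/

set_option autoImplicit false
set_option linter.style.haveILetI false
set_option linter.unusedSectionVars false

namespace Cfsg.Lib.McLThree

open Cfsg.Lib.Recog.Icosa
open scoped Pointwise
open Cfsg.Lib.AltEightThree (mem_cent_singleton conj_mem_normalizer mem_normalizer_of_forall
  mem_normalizer_of_cent)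

variable {G : Type*} [Group G] [Finite G]

namespace LocT

variable (T : LocT G)

theorem t_norm_S {s : G} (hs : s ∈ (T.S : Subgroup G)) :
    T.t * s * T.t⁻¹ ∈ (T.S : Subgroup G) := by
  have hsL := T.toLoc.S_le_L hs
  have hcL : T.t * s * T.t⁻¹ ∈ T.L := mul_mem (mul_mem T.t_L hsL) (inv_mem T.t_L)
  have hc : s⁻¹ * (T.t * s * T.t⁻¹) ∈ T.Q := by
    refine (T.ψ_ker (⟨s, hsL⟩⁻¹ * ⟨T.t * s * T.t⁻¹, hcL⟩)).1 ?_
    rw [map_mul, map_inv, show (⟨T.t * s * T.t⁻¹, hcL⟩ : T.L) =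
      ⟨T.t, T.t_L⟩ * ⟨s, hsL⟩ * ⟨T.t, T.t_L⟩⁻¹ from rfl, map_mul, map_mul, map_inv, T.t_ψ,
      ← sl_centre.2.2.1, mul_inv_cancel_right, inv_mul_cancel]
  have := mul_mem hs (T.Q_le hc)
  rwa [mul_inv_cancel_left] at this

theorem t_norm_J : T.t ∈ Subgroup.normalizer (T.J : Set G) :=
  T.toLoc.norm_J_of_conj (fun a ha => T.t_norm_S (T.J_le ha))

theorem A_t {a : G} (ha : a ∈ T.toLoc.A) (h : T.t * a = a * T.t) :
    a ∈ Subgroup.zpowers T.z := T.cQ_t ha.1 h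

theorem exists_tau : ∃ τ ∈ T.J, τ ∉ T.Q ∧ T.t * τ = τ * T.t := by
  obtain ⟨x, hxJ, hxQ⟩ := T.toLoc.exists_sigma
  have hx' : T.t * x * T.t⁻¹ ∈ T.J := conj_mem_normalizer T.t_norm_J hxJ
  refine ⟨x * (T.t * x * T.t⁻¹), mul_mem hxJ hx', ?_, ?_⟩
  · intro h
    have hxL := T.toLoc.S_le_L (T.J_le hxJ)
    have hψ : T.ψ ⟨x, hxL⟩ ^ 2 = 1 := by
      have h' : T.ψ (⟨x, hxL⟩ * (⟨T.t, T.t_L⟩ * ⟨x, hxL⟩ * ⟨T.t, T.t_L⟩⁻¹)) = 1 := (T.ψ_ker _).2 h
      rwa [map_mul, map_mul, map_mul, map_inv, T.t_ψ, ← sl_centre.2.2.1, mul_inv_cancel_right,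
        ← pow_two] at h'
    have h3 := T.toLoc.ψ_three (T.J_le hxJ) hxL
    exact hxQ ((T.ψ_ker _).1 (eq_one_of_pow_coprime h3 hψ (by norm_num)))
  · have hc := T.J_comm x hxJ _ hx'
    rw [T.t_inv] at hc ⊢
    calc T.t * (x * (T.t * x * T.t)) = (T.t * x * T.t) * x * T.t := by group
      _ = x * (T.t * x * T.t) * T.t := by rw [← hc]

/-- The elements of `S` have representatives in `Q` modulo `J`. -/
theorem exists_rep_Q {s : G} (hs : s ∈ (T.S : Subgroup G)) : ∃ c ∈ T.Q, s * c⁻¹ ∈ T.J := by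
  obtain ⟨σ, hσJ, hσQ⟩ := T.toLoc.exists_sigma
  obtain ⟨i, -, c, hc, rfl⟩ := T.toLoc.S_decomp hs (T.J_le hσJ) hσQ
  exact ⟨c, hc, by rw [mul_inv_cancel_right]; exact pow_mem hσJ i⟩

theorem cent_t_J {τ : G} (hτ : τ ∈ T.J) (hτQ : τ ∉ T.Q) (hτt : T.t * τ = τ * T.t) {x : G}
    (hx : x ∈ T.J) (hxt : T.t * x = x * T.t) :
    ∃ i j : ℕ, x = T.z ^ i * τ ^ j ∧ j < 3 := by
  obtain ⟨j, hj, c, hc, rfl⟩ := T.toLoc.S_decomp (T.J_le hx) (T.J_le hτ) hτQ
  have hcJ : c ∈ T.J := by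
    have := mul_mem (inv_mem (pow_mem hτ j)) hx
    rwa [inv_mul_cancel_left] at this
  have hct : T.t * c = c * T.t := by
    have h1 : Commute T.t (τ ^ j) := Commute.pow_right hτt j
    have h2 := h1.inv_right.mul_right hxt
    rwa [inv_mul_cancel_left] at h2
  obtain ⟨i, hi⟩ := mem_powers_iff_mem_zpowers.2 (T.cQ_t hc hct)
  refine ⟨i, j, ?_, hj⟩
  rw [← hi]
  exact T.J_comm _ (pow_mem hτ j) _ (pow_mem T.toLoc.z_J i)

/-- A normalisation of the map onto the alternating group. -/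
theorem exists_theta : ∃ θ : T.M →* ASix, Function.Surjective θ ∧
    (∀ m : T.M, θ m = 1 ↔ (m : G) ∈ T.J) ∧
    (∀ m : T.M, InP (θ m) ↔ (m : G) ∈ (T.S : Subgroup G)) ∧
    ∃ ht : T.t ∈ T.M, θ ⟨T.t, ht⟩ = j0 := by
  haveI : Fact (Nat.Prime 3) := ⟨Nat.prime_three⟩
  set S' : Subgroup T.M := (T.S : Subgroup G).subgroupOf T.M with hS'
  have hSle : (T.S : Subgroup G) ≤ T.M := fun s hs => T.toLoc.S_le_M hs
  have hcS : Nat.card S' = 729 := by
    rw [Nat.card_congr (Subgroup.subgroupOfEquivOfLe hSle).toEquiv, T.S_card]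
  have hkerS : T.φ.ker ≤ S' := fun m hm => T.J_le ((T.φ_ker m).1 hm)
  have hcP : Nat.card (S'.map T.φ) = 9 := by
    have h1 := S'.index_map_eq T.φ_surj hkerS
    have h2 := S'.card_mul_index
    have h3 := (S'.map T.φ).card_mul_index
    rw [hcS, T.toLoc.card_M] at h2
    rw [nat_card_alternatingGroup, Nat.card_fin, show (6 : ℕ).factorial / 2 = 360 from rfl, h1] at h3
    have h4 : S'.index = 40 := by omega
    rw [h4] at h3
    omega
  have h9 : ∀ P : Subgroup ASix, Nat.card P = 9 →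
      Nat.card P = 3 ^ (Nat.card ASix).factorization 3 := by
    intro P hP
    rw [hP, nat_card_alternatingGroup, Nat.card_fin, show (6 : ℕ).factorial / 2 = 3 ^ 2 * 40 from rfl,
      Nat.factorization_mul (by norm_num) (by norm_num), Finsupp.add_apply,
      Nat.Prime.factorization_pow Nat.prime_three, Finsupp.single_eq_same,
      Nat.factorization_eq_zero_of_not_dvd (by norm_num : ¬ 3 ∣ 40)]
    norm_num
  obtain ⟨c, hc⟩ := MulAction.exists_smul_eq ASix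
    (Sylow.ofCard (S'.map T.φ) (h9 _ hcP)) (Sylow.ofCard sylP (h9 _ card_sylP))
  have hmemc : ∀ u : ASix, c * u * c⁻¹ ∈ sylP ↔ u ∈ S'.map T.φ := by
    intro u
    have h1 : sylP = MulAut.conj c • (S'.map T.φ) := (congrArg Sylow.toSubgroup hc).symm
    rw [h1, Subgroup.mem_pointwise_smul_iff_inv_smul_mem]
    simp [MulAut.smul_def, mul_assoc]
  let θ₀ : T.M →* ASix := (MulAut.conj c).toMonoidHom.comp T.φ
  have hs₀ : Function.Surjective θ₀ := (MulAut.conj c).surjective.comp T.φ_surj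
  have hk₀ : ∀ m : T.M, θ₀ m = 1 ↔ (m : G) ∈ T.J := by
    intro m
    rw [← T.φ_ker m]
    exact (MulAut.conj c).map_eq_one_iff
  have hP₀ : ∀ m : T.M, InP (θ₀ m) ↔ (m : G) ∈ (T.S : Subgroup G) := by
    intro m
    refine (hmemc (T.φ m)).trans ⟨?_, fun h => ⟨m, h, rfl⟩⟩
    rintro ⟨m', hm', he⟩
    have h1 : T.φ (m'⁻¹ * m) = 1 := by rw [map_mul, map_inv, he, inv_mul_cancel]
    have h2 : (m' : G) * ((m'⁻¹ * m : T.M) : G) ∈ (T.S : Subgroup G) :=
      mul_mem hm' (T.J_le ((T.φ_ker _).1 h1))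
    simpa using h2
  -- preimages of elements normalising the Sylow subgroup normalise the centre
  have hNorm : ∀ m : T.M, NormP (θ₀ m) →
      (∀ s ∈ (T.S : Subgroup G), (m : G) * s * (m : G)⁻¹ ∈ (T.S : Subgroup G)) := by
    intro m hm s hs
    refine (hP₀ (m * ⟨s, hSle hs⟩ * m⁻¹)).1 ?_
    have hsP : InP (θ₀ ⟨s, hSle hs⟩) := (hP₀ _).2 hs
    obtain ⟨a, b, hab⟩ := hsP
    rw [map_mul, map_mul, map_inv, hab, ← mem_sylP, ← conj_mul, ← conj_pow, ← conj_pow]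
    exact mul_mem (pow_mem hm.1 _) (pow_mem hm.2 _)
  have hz : ∀ m : T.M, NormP (θ₀ m) → (m : G) * T.z * (m : G)⁻¹ ∈ Subgroup.zpowers T.z := by
    intro m hm
    refine T.S_centre _ (hNorm m hm _ (T.Q_le T.z_mem)) (fun r hr => ?_)
    have hm' : NormP (θ₀ m⁻¹) := by
      have hfin : ∀ g : ASix, NormP g → NormP g⁻¹ := by decide +kernel
      rw [map_inv]; exact hfin _ hm
    have h1 := hNorm m⁻¹ hm' r hr
    have h2 : Commute ((m : G)⁻¹ * r * (m : G)) T.z := T.z_S _ (by simpa using h1)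
    calc (m : G) * T.z * (m : G)⁻¹ * r
        = (m : G) * (T.z * ((m : G)⁻¹ * r * (m : G))) * (m : G)⁻¹ := by group
      _ = (m : G) * (((m : G)⁻¹ * r * (m : G)) * T.z) * (m : G)⁻¹ := by rw [h2.eq]
      _ = r * ((m : G) * T.z * (m : G)⁻¹) := by group
  obtain ⟨hh, hhh⟩ := hs₀ h0
  set j := hh * hh with hj
  have hjθ : θ₀ j = j0 := by rw [hj, map_mul, hhh, six_basic.2.1]
  have hjS : ∀ s ∈ (T.S : Subgroup G), (j : G) * s * (j : G)⁻¹ ∈ (T.S : Subgroup G) :=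
    hNorm j (by rw [hjθ]; exact six_basic.2.2.2.2.2.2.2.2.2.2.2.2.1)
  have hjz : (j : G) * T.z = T.z * (j : G) := by
    have h1 := hz hh (by rw [hhh]; exact six_basic.2.2.2.2.2.2.2.2.2.2.2.1)
    have e : (j : G) * T.z * (j : G)⁻¹ =
        (hh : G) * ((hh : G) * T.z * (hh : G)⁻¹) * (hh : G)⁻¹ := by rw [hj]; push_cast; group
    apply mul_inv_eq_iff_eq_mul.1
    rcases zpow_mem_of_three T.z_exp h1 with h | h | h
    · exact absurd (conj_eq_one_iff.1 h) T.z_ne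
    · rw [e, h, h]
    · have hc := (conj_pow (a := (hh : G)) (b := T.z) (i := 2)).symm
      rw [h] at hc
      rw [e, h, hc, ← pow_mul, show 2 * 2 = 3 + 1 from rfl, pow_succ, T.z_exp, one_mul]
  -- the discrepancy between `t` and `j`
  have htinv : ∀ s, ∀ hs : s ∈ (T.S : Subgroup G),
      θ₀ ⟨T.t * s * T.t⁻¹, hSle (T.t_norm_S hs)⟩ = (θ₀ ⟨s, hSle hs⟩)⁻¹ := by
    intro s hs
    obtain ⟨c, hcQ, hcJ⟩ := T.exists_rep_Q hs
    set a := s * c⁻¹ with ha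
    have hsa : s = a * c := by rw [ha, inv_mul_cancel_right]
    have hcS' := T.Q_le hcQ
    have hz1 := T.t_inverts hcQ
    have hθa : ∀ (u : G) (hu : u ∈ T.J), θ₀ ⟨u, T.toLoc.J_le_M hu⟩ = 1 := fun u hu => (hk₀ _).2 hu
    have ha' : T.t * a * T.t⁻¹ ∈ T.J := conj_mem_normalizer T.t_norm_J hcJ
    have hc' := T.t_norm_S hcS'
    rw [eq_inv_iff_mul_eq_one]
    have e1 : (⟨T.t * s * T.t⁻¹, hSle (T.t_norm_S hs)⟩ : T.M) =
        ⟨T.t * a * T.t⁻¹, T.toLoc.J_le_M ha'⟩ * ⟨T.t * c * T.t⁻¹, hSle hc'⟩ :=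
      Subtype.ext (by
        show T.t * s * T.t⁻¹ = T.t * a * T.t⁻¹ * (T.t * c * T.t⁻¹)
        rw [ha]; group)
    have e2 : (⟨s, hSle hs⟩ : T.M) = ⟨a, T.toLoc.J_le_M hcJ⟩ * ⟨c, hSle hcS'⟩ := Subtype.ext hsa
    rw [e1, e2, map_mul, map_mul, hθa _ ha', hθa _ hcJ, one_mul, one_mul, ← map_mul, hk₀]
    show T.t * c * T.t⁻¹ * c ∈ T.J
    rw [T.t_inv]
    have : T.t * c * T.t * c = c⁻¹ * (c * (T.t * c * T.t)) * c := by group
    rw [this]
    have := T.toLoc.zpow_comm_z hz1 c⁻¹ ((Commute.inv_left (T.toLoc.Q_z hcQ)).eq)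
    rw [this, inv_mul_cancel_right]
    exact (Subgroup.zpowers_le.2 T.toLoc.z_J) hz1
  let Fix : Submonoid G :=
    { carrier := {g | g ∈ Subgroup.normalizer (T.J : Set G) ∧ g * T.z = T.z * g ∧
        ∀ s, ∀ hs : s ∈ (T.S : Subgroup G), ∃ hgs : g * s * g⁻¹ ∈ (T.S : Subgroup G),
          θ₀ ⟨g * s * g⁻¹, hSle hgs⟩ = θ₀ ⟨s, hSle hs⟩}
      one_mem' := ⟨one_mem _, by simp, fun s hs => ⟨by simpa using hs, by congr 2; group⟩⟩
      mul_mem' := fun {g g'} hg hg' => ⟨mul_mem hg.1 hg'.1, (Commute.mul_left hg.2.1 hg'.2.1).eq,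
        fun s hs => by
          obtain ⟨h1, e1⟩ := hg'.2.2 s hs
          obtain ⟨h2, e2⟩ := hg.2.2 _ h1
          have e : g * g' * s * (g * g')⁻¹ = g * (g' * s * g'⁻¹) * g⁻¹ := by group
          refine ⟨e ▸ h2, ?_⟩
          rw [← e1, ← e2]
          congr 2⟩ }
  set g := T.t * ((j : G))⁻¹ with hg
  have hjN : (j : G) ∈ Subgroup.normalizer (T.J : Set G) := T.M_norm j.2
  have hgFix : g ∈ Fix := by
    refine ⟨mul_mem T.t_norm_J (inv_mem hjN), ?_, fun s hs => ?_⟩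
    · exact (Commute.mul_left T.t_z (Commute.inv_left hjz)).eq
    · have hjinv : NormP (θ₀ j⁻¹) := by
        rw [map_inv, hjθ]
        rw [inv_eq_of_mul_eq_one_right six_basic.2.2.2.1]
        exact six_basic.2.2.2.2.2.2.2.2.2.2.2.2.1
      have h1 : (j : G)⁻¹ * s * (j : G) ∈ (T.S : Subgroup G) := by
        simpa using hNorm j⁻¹ hjinv s hs
      have h2 := T.t_norm_S h1
      have e : g * s * g⁻¹ = T.t * ((j : G)⁻¹ * s * (j : G)) * T.t⁻¹ := by rw [hg]; group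
      refine ⟨e ▸ h2, ?_⟩
      have e' : (⟨g * s * g⁻¹, hSle (e ▸ h2)⟩ : T.M) =
          ⟨T.t * ((j : G)⁻¹ * s * (j : G)) * T.t⁻¹, hSle h2⟩ := Subtype.ext e
      rw [e', htinv _ h1]
      have e'' : (⟨(j : G)⁻¹ * s * (j : G), hSle h1⟩ : T.M) = j⁻¹ * ⟨s, hSle hs⟩ * j :=
        Subtype.ext (by push_cast; rfl)
      rw [e'', map_mul, map_mul, map_inv, hjθ]
      have hinv : ∀ u : ASix, InP u → (j0⁻¹ * u * j0)⁻¹ = u := by decide +kernel
      exact hinv _ ((hP₀ _).2 hs)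
  obtain ⟨k, n, hn, hgn⟩ := exists_pow_prime_to 3 Nat.prime_three g
  set x := g ^ 3 ^ k with hxdef
  obtain ⟨hxN, hxz, hxS⟩ := pow_mem hgFix (3 ^ k)
  rw [← hxdef] at hxN hxz hxS
  have hxJ : ∀ a ∈ T.J, x * a = a * x := by
    let f : T.J →* G :=
      { toFun := fun a => x * a * x⁻¹ * (a : G)⁻¹
        map_one' := by simp
        map_mul' := fun a b => by
          have hb : Commute (x * (b : G) * x⁻¹ * (b : G)⁻¹) (a : G)⁻¹ :=
            T.J_comm _ (mul_mem (conj_mem_normalizer hxN b.2) (inv_mem b.2)) _ (inv_mem a.2)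
          push_cast
          calc x * ((a : G) * b) * x⁻¹ * ((a : G) * b)⁻¹
              = x * a * x⁻¹ * ((x * b * x⁻¹ * (b : G)⁻¹) * (a : G)⁻¹) := by group
            _ = x * a * x⁻¹ * ((a : G)⁻¹ * (x * b * x⁻¹ * (b : G)⁻¹)) := by rw [hb.eq]
            _ = _ := by group }
    have hRJ : f.range ≤ T.J := by
      rintro w ⟨a, rfl⟩
      exact mul_mem (conj_mem_normalizer hxN a.2) (inv_mem a.2)
    by_contra hne
    have hR : f.range.subgroupOf (T.S : Subgroup G) ≠ ⊥ := by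
      intro hbot
      apply hne
      intro a ha
      have h1 : f ⟨a, ha⟩ ∈ f.range := ⟨_, rfl⟩
      have h2 : (⟨f ⟨a, ha⟩, T.J_le (hRJ h1)⟩ : (T.S : Subgroup G)) ∈
          f.range.subgroupOf (T.S : Subgroup G) := h1
      rw [hbot, Subgroup.mem_bot] at h2
      have h3 : x * a * x⁻¹ * a⁻¹ = 1 := congrArg Subtype.val h2
      exact mul_inv_eq_iff_eq_mul.1 (mul_inv_eq_one.1 h3)
    haveI : (f.range.subgroupOf (T.S : Subgroup G)).Normal := by
      refine ⟨fun w hw s => ?_⟩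
      obtain ⟨a, ha⟩ := hw
      obtain ⟨hgs, he⟩ := hxS s s.2
      have hsN := T.toLoc.S_norm s.2
      refine ⟨⟨(s : G) * a * (s : G)⁻¹, conj_mem_normalizer hsN a.2⟩, ?_⟩
      set e := x * (s : G) * x⁻¹ * (s : G)⁻¹ with hedef
      have heJ : e ∈ T.J := by
        refine (hk₀ (⟨x * s * x⁻¹, hSle hgs⟩ * ⟨s, hSle s.2⟩⁻¹)).1 ?_
        rw [map_mul, map_inv, he, mul_inv_cancel]
      have hxa : x * (a : G) * x⁻¹ ∈ T.J := conj_mem_normalizer hxN a.2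
      have hy : (s : G) * (x * (a : G) * x⁻¹) * (s : G)⁻¹ ∈ T.J := conj_mem_normalizer hsN hxa
      show x * ((s : G) * a * (s : G)⁻¹) * x⁻¹ * ((s : G) * a * (s : G)⁻¹)⁻¹ =
        ((s * w * s⁻¹ : (T.S : Subgroup G)) : G)
      have hw' : (w : G) = x * (a : G) * x⁻¹ * (a : G)⁻¹ := ha.symm
      push_cast
      rw [hw']
      calc x * ((s : G) * a * (s : G)⁻¹) * x⁻¹ * ((s : G) * a * (s : G)⁻¹)⁻¹
          = e * ((s : G) * (x * (a : G) * x⁻¹) * (s : G)⁻¹) * e⁻¹ *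
              ((s : G) * a * (s : G)⁻¹)⁻¹ := by rw [hedef]; group
        _ = ((s : G) * (x * (a : G) * x⁻¹) * (s : G)⁻¹) * ((s : G) * a * (s : G)⁻¹)⁻¹ := by
            rw [T.J_comm e heJ _ hy, mul_inv_cancel_right]
        _ = _ := by group
    have h := Cfsg.Lib.PGroup.inf_center_ne_bot T.S.isPGroup' hR
    obtain ⟨w, ⟨hwR, hwc⟩, hw1⟩ := (Subgroup.bot_or_exists_ne_one _).resolve_left h
    obtain ⟨a, ha⟩ := hwR
    have hwz : (w : G) ∈ Subgroup.zpowers T.z := T.S_centre _ w.2 (fun r hr =>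
      (congrArg Subtype.val (Subgroup.mem_center_iff.1 hwc ⟨r, hr⟩)).symm)
    have hiter : ∀ m : ℕ, x ^ m * (a : G) * (x ^ m)⁻¹ = (w : G) ^ m * a := by
      intro m
      induction m with
      | zero => simp
      | succ m ih =>
        have hw' : x * (a : G) * x⁻¹ * (a : G)⁻¹ = w := ha
        have hxw : Commute x (w : G) := T.toLoc.zpow_comm_z hwz x hxz
        calc x ^ (m + 1) * (a : G) * (x ^ (m + 1))⁻¹
            = x * (x ^ m * (a : G) * (x ^ m)⁻¹) * x⁻¹ := by rw [pow_succ']; group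
          _ = x * ((w : G) ^ m * a) * x⁻¹ := by rw [ih]
          _ = (w : G) ^ m * (x * a * x⁻¹) := by
              rw [← mul_assoc, (hxw.pow_right m).eq]; group
          _ = (w : G) ^ m * (w * a) := by rw [← hw', inv_mul_cancel_right]
          _ = (w : G) ^ (m + 1) * a := by rw [pow_succ, mul_assoc]
    have h2 := hiter n
    rw [hgn] at h2
    simp only [one_mul, inv_one, mul_one] at h2
    apply hw1
    apply Subtype.ext
    exact eq_one_of_pow_coprime (mul_eq_right.1 h2.symm)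
      (T.J_exp _ (T.toLoc.z_J |> fun hzJ => (Subgroup.zpowers_le.2 hzJ) hwz)) hn
  have hx1 : x = 1 := eq_one_of_pow_coprime hgn (T.J_exp x (T.toLoc.cent_J hxJ)) hn
  have hgM : g ∈ T.M := T.M_three g hgFix.1 k hx1
  have htM : T.t ∈ T.M := by
    have := mul_mem hgM j.2
    rwa [hg, inv_mul_cancel_right] at this
  set u := θ₀ ⟨T.t, htM⟩ with hu
  have hux : ∀ p : ASix, InP p → u * p * u⁻¹ = p⁻¹ := by
    intro p hp
    obtain ⟨m, rfl⟩ := hs₀ p
    have hmS := (hP₀ m).1 hp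
    rw [← htinv _ hmS, hu, ← map_inv, ← map_mul, ← map_mul]
    rfl
  obtain ⟨a, b, hab⟩ := inverting_form u (hux x0 ⟨1, 0, by decide +kernel⟩)
    (hux y0 ⟨0, 1, by decide +kernel⟩)
  set p := x0 ^ (a : ℕ) * y0 ^ (b : ℕ) with hp
  have hpP : p ∈ sylP := ⟨a, b, rfl⟩
  refine ⟨(MulAut.conj p⁻¹).toMonoidHom.comp θ₀, (MulAut.conj p⁻¹).surjective.comp hs₀, fun m => ?_,
    fun m => ?_, htM, ?_⟩
  · rw [← hk₀ m]
    exact (MulAut.conj p⁻¹).map_eq_one_iff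
  · rw [← hP₀ m]
    show p⁻¹ * θ₀ m * p⁻¹⁻¹ ∈ sylP ↔ θ₀ m ∈ sylP
    rw [inv_inv]
    constructor
    · intro h
      have := mul_mem (mul_mem hpP h) (inv_mem hpP)
      simpa [mul_assoc] using this
    · exact fun h => mul_mem (mul_mem (inv_mem hpP) h) hpP
  · show p⁻¹ * u * p⁻¹⁻¹ = j0
    rw [hab, inv_inv]
    group

end LocT

end Cfsg.Lib.McLThree
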