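import Cfsg.Agent.Lib.McLThree.Restrict
import Cfsg.Prelude.Def_Transfer
import Cfsg.Agent.Lib.Core.Cores

/-!
The configuration from 3-local hypotheses.
-/

set_option autoImplicit false
set_option linter.style.haveILetI false
set_option linter.unusedSectionVars false

namespace Cfsg.Lib.McLThree

open Cfsg.Lib.Recog.Icosa
open Cfsg.Lib.AltEightThree (mem_cent_singleton conj_mem_normalizer mem_normalizer_of_forall)

universe v

variable {G : Type v} [Group G] [Finite G]

theorem exists_orderOf_three {g : G} :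
    (∃ k : ℕ, orderOf g = 3 ^ k) ↔ ∃ k : ℕ, g ^ 3 ^ k = 1 := by
  constructor
  · rintro ⟨k, hk⟩; exact ⟨k, hk ▸ pow_orderOf_eq_one g⟩
  · rintro ⟨k, hk⟩
    obtain ⟨j, -, hj⟩ := (Nat.dvd_prime_pow Nat.prime_three).1 (orderOf_dvd_of_pow_eq_one hk)
    exact ⟨j, hj⟩

/-- Elements of a conjugation-invariant closure are moved into it. -/
theorem closure_conj {X : Set G} {g : G} (h : ∀ x ∈ X, g * x * g⁻¹ ∈ X) {l : G}
    (hl : l ∈ Subgroup.closure X) : g * l * g⁻¹ ∈ Subgroup.closure X := by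
  have hle : Subgroup.closure X ≤ (Subgroup.closure X).comap (MulAut.conj g).toMonoidHom :=
    (Subgroup.closure_le _).2 (fun x hx => Subgroup.subset_closure (h x hx))
  exact hle hl

theorem three_gens_conj {K : Subgroup G} {g x : G} (hg : g ∈ K)
    (hx : x ∈ {a : G | a ∈ K ∧ ∃ k : ℕ, orderOf a = 3 ^ k}) :
    g * x * g⁻¹ ∈ {a : G | a ∈ K ∧ ∃ k : ℕ, orderOf a = 3 ^ k} := by
  refine ⟨mul_mem (mul_mem hg hx.1) (inv_mem hg), ?_⟩
  obtain ⟨k, hk⟩ := exists_orderOf_three.1 hx.2
  exact exists_orderOf_three.2 ⟨k, by rw [conj_pow, hk, mul_one, mul_inv_cancel]⟩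

theorem zpowers_fix_three {z g : G} (hz : z ^ 3 = 1)
    (hg : g * z * g⁻¹ ∈ Subgroup.zpowers z) {k : ℕ} (hk : g ^ 3 ^ k = 1) :
    g * z = z * g := by
  rcases zpow_mem_of_three hz hg with h | h | h
  · have : z = 1 := conj_eq_one_iff.1 h
    rw [this, mul_one, one_mul]
  · exact mul_inv_eq_iff_eq_mul.1 h
  · have hinv : g * z * g⁻¹ = z⁻¹ := by
      rw [h]; exact eq_inv_of_mul_eq_one_left (by rw [← pow_succ, hz])
    have hiter : ∀ n : ℕ, g ^ n * z * (g ^ n)⁻¹ = if n % 2 = 0 then z else z⁻¹ := by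
      intro n
      induction n with
      | zero => simp
      | succ n ih =>
        rw [pow_succ', ← conj_conj, ih]
        rcases Nat.mod_two_eq_zero_or_one n with h' | h'
        · rw [if_pos h', if_neg (by omega), hinv]
        · rw [if_neg (by omega), if_pos (by omega), ← conj_inv, hinv, inv_inv]
    have h3 := hiter (3 ^ k)
    have hodd : (3 : ℕ) ^ k % 2 = 1 := Nat.odd_iff.1 (Odd.pow (by decide))
    rw [hk, if_neg (by omega), one_mul, inv_one, mul_one] at h3
    have hz1 : z = 1 := eq_one_of_pow_coprime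
      (by rw [pow_two]; exact mul_eq_one_iff_eq_inv.2 h3) hz (by norm_num)
    rw [hz1, mul_one, one_mul]

/-- The image in the binary icosahedral group of an abelian normal 3-subgroup is trivial. -/
theorem sl_three_trivial {K : Type*} [Group K] (ψ : K →* SL25) (hψ : Function.Surjective ψ)
    {x : K} {k : ℕ} (hx : x ^ 3 ^ k = 1)
    (hcomm : ∀ l : K, l * x * l⁻¹ * x = x * (l * x * l⁻¹)) : ψ x = 1 := by
  by_contra hne
  have h120 : ψ x ^ 120 = 1 := by
    have h := pow_card_eq_one' (x := ψ x)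
    rwa [card_sl_two_five] at h
  have h3k : ψ x ^ 3 ^ k = 1 := by rw [← map_pow, hx, map_one]
  have h3 : ψ x ^ 3 = 1 := by
    have hg := pow_gcd_eq_one.2 ⟨h3k, h120⟩
    obtain ⟨j, -, he⟩ := (Nat.dvd_prime_pow Nat.prime_three).1 (Nat.gcd_dvd_left (3 ^ k) 120)
    rw [he] at hg
    have hj : j ≤ 1 := by
      by_contra h
      have h4 : 3 ^ 2 ∣ 120 :=
        (pow_dvd_pow 3 (Nat.lt_of_not_le h)).trans (he ▸ Nat.gcd_dvd_right (3 ^ k) 120)
      norm_num at h4
    interval_cases j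
    · rw [pow_zero, pow_one] at hg
      exact absurd hg hne
    · simpa using hg
  obtain ⟨i, hi⟩ := sl_three_moved (ψ x) h3 hne
  obtain ⟨l, hl⟩ := hψ (![gensSL 0, gensSL 1] i)
  apply hi
  rw [← hl, ← map_inv, ← map_mul, ← map_mul, ← map_mul, ← map_mul]
  exact congrArg ψ (hcomm l)

theorem mem_pCore_map {K : Subgroup G} {P : Subgroup G} (hPK : P ≤ K) (hP : IsPGroup 3 P)
    (hn : ∀ g ∈ K, ∀ p ∈ P, g * p * g⁻¹ ∈ P) :
    P ≤ (Cfsg.pCore 3 K).map K.subtype := by
  intro p hp
  refine ⟨⟨p, hPK hp⟩, ?_, rfl⟩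
  have hN : (P.subgroupOf K).Normal := ⟨fun n hn' g => hn g g.2 n hn'⟩
  exact Cfsg.Lib.Core.le_pCore' hN (hP.comap_subtype) hp

theorem pCore_map_conj {K : Subgroup G} {g : G} (hg : ∀ x ∈ K, g * x * g⁻¹ ∈ K) {p : G}
    (hp : p ∈ (Cfsg.pCore 3 K).map K.subtype) :
    g * p * g⁻¹ ∈ (Cfsg.pCore 3 K).map K.subtype := by
  obtain ⟨p, hp', rfl⟩ := hp
  let f : K →* K :=
    ((MulAut.conj g).toMonoidHom.comp K.subtype).codRestrict K (fun x => hg x x.2)
  have hf : Function.Injective f := fun a b h => Subtype.ext ((MulAut.conj g).injective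
    (congrArg Subtype.val h))
  have h := Cfsg.Lib.Core.map_pCore_le (p := 3) f (Finite.injective_iff_surjective.1 hf)
    ⟨p, hp', rfl⟩
  exact ⟨f p, h, rfl⟩

variable (S : Sylow 3 G) (Z : Subgroup G)
  (hZ : Z = (S : Subgroup G) ⊓ Subgroup.centralizer ((S : Subgroup G) : Set G))
  (J : Subgroup G) (hJS : J ≤ S) (hJcomm : ∀ a ∈ J, ∀ b ∈ J, a * b = b * a)
  (hJexp : ∀ a ∈ J, a ^ 3 = 1) (hJcard : Nat.card J = 3 ^ 4)
  (M₀ : Subgroup G)
  (hM₀ : M₀ = Subgroup.closure {g : G | g ∈ Subgroup.normalizer (J : Set G) ∧ ∃ k : ℕ, orderOf g = 3 ^ k})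
  (hJM : J ≤ M₀) [hJn : (J.subgroupOf M₀).Normal] (eM : M₀ ⧸ J.subgroupOf M₀ ≃* ASix)
  (L₀ : Subgroup G)
  (hL₀ : L₀ = Subgroup.closure {g : G | g ∈ Subgroup.normalizer (Z : Set G) ∧ ∃ k : ℕ, orderOf g = 3 ^ k})
  (Q : Subgroup G)
  (hQ : Q = (Cfsg.pCore 3 (Subgroup.normalizer (Z : Set G))).map (Subgroup.normalizer (Z : Set G)).subtype)
  (hQex : Cfsg.IsExtraspecial 3 Q) (hQcard : Nat.card Q = 3 ^ 5) (hQexp : ∀ a ∈ Q, a ^ 3 = 1)
  (hQL : Q ≤ L₀) [hQn : (Q.subgroupOf L₀).Normal] (eL : L₀ ⧸ Q.subgroupOf L₀ ≃* SL25)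
  (hiii : ∀ x ∈ J, x ≠ 1 → Subgroup.zpowers x = Z →
    Subgroup.centralizer (((Cfsg.pCore 3 (Subgroup.centralizer ({x} : Set G))).map
        (Subgroup.centralizer ({x} : Set G)).subtype : Subgroup G) : Set G)
      ≤ (Cfsg.pCore 3 (Subgroup.centralizer ({x} : Set G))).map
        (Subgroup.centralizer ({x} : Set G)).subtype)

include hZ hJS hJcomm hJexp hJcard hM₀ hJM hJn eM hL₀ hQ hQex hQcard hQexp hQL hQn eL hiii in
theorem exists_loc : ∃ D : Loc G, D.J = J := by
  haveI : Fact (Nat.Prime 3) := ⟨Nat.prime_three⟩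
  set N := Subgroup.normalizer (Z : Set G) with hN
  -- `S` normalises `Z` and lies in `L₀`
  have hSN : (S : Subgroup G) ≤ N := fun s hs => mem_normalizer_of_forall (fun x hx => by
    have hx' := hx
    rw [hZ] at hx'
    rw [(Subgroup.mem_centralizer_iff.1 hx'.2 s hs : s * x = x * s), mul_inv_cancel_right]
    exact hx)
  have hSL : (S : Subgroup G) ≤ L₀ := fun s hs => by
    rw [hL₀]
    obtain ⟨k, hk⟩ := Loc.three_pow S.isPGroup' hs
    exact Subgroup.subset_closure ⟨hSN hs, exists_orderOf_three.2 ⟨k, hk⟩⟩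
  have hLN : L₀ ≤ N := by
    rw [hL₀, Subgroup.closure_le]; exact fun g hg => hg.1
  have hMN : M₀ ≤ Subgroup.normalizer (J : Set G) := by
    rw [hM₀, Subgroup.closure_le]; exact fun g hg => hg.1
  have hcardL : Nat.card L₀ = 29160 := by
    rw [Subgroup.card_eq_card_quotient_mul_card_subgroup (Q.subgroupOf L₀),
      Nat.card_congr eL.toEquiv, card_sl_two_five,
      Nat.card_congr (Subgroup.subgroupOfEquivOfLe hQL).toEquiv, hQcard]
    norm_num
  have hcardM : Nat.card M₀ = 29160 := by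
    rw [Subgroup.card_eq_card_quotient_mul_card_subgroup (J.subgroupOf M₀),
      Nat.card_congr eM.toEquiv, nat_card_alternatingGroup, Nat.card_fin,
      Nat.card_congr (Subgroup.subgroupOfEquivOfLe hJM).toEquiv, hJcard,
      show (6 : ℕ).factorial / 2 = 360 from rfl]
    norm_num
  have hScard : Nat.card (S : Subgroup G) = 729 := by
    obtain ⟨n, hn⟩ := IsPGroup.iff_card.1 S.isPGroup'
    have h1 := Subgroup.card_dvd_of_le hSL
    rw [hcardL, hn] at h1
    have h2 : 3 ^ 6 ∣ Nat.card G :=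
      (by rw [hcardM]; norm_num : 3 ^ 6 ∣ Nat.card M₀).trans (Subgroup.card_subgroup_dvd_card M₀)
    have h3 := S.pow_dvd_card_of_pow_dvd_card h2
    rw [hn] at h3 ⊢
    have h6 : 6 ≤ n := (Nat.pow_dvd_pow_iff_le_right (by norm_num)).1 h3
    have hn6 : n ≤ 6 := by
      by_contra hc
      have := (pow_dvd_pow 3 (show 7 ≤ n by omega)).trans h1
      norm_num at this
    rw [le_antisymm hn6 h6]; norm_num
  -- `Q`
  have hQp : IsPGroup 3 Q := by rw [hQ]; exact (Cfsg.Lib.Core.pCore_isPGroup 3 N).map _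
  have hQN : Q ≤ N := by rw [hQ]; exact Subgroup.map_subtype_le _
  have hQnorm : ∀ g ∈ N, ∀ q ∈ Q, g * q * g⁻¹ ∈ Q := by
    intro g hg q hq
    rw [hQ] at hq ⊢
    exact pCore_map_conj (fun x hx => mul_mem (mul_mem hg hx) (inv_mem hg)) hq
  have hQS : Q ≤ (S : Subgroup G) := by
    have hle : (S : Subgroup G) ≤ Subgroup.normalizer (Q : Set G) := fun s hs =>
      mem_normalizer_of_forall (hQnorm s (hSN hs))
    have h := S.is_maximal' (S.isPGroup'.to_sup_of_normal_right' hQp hle) le_sup_left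
    exact le_trans le_sup_right (le_of_eq h)
  -- the centre of `Q`
  obtain ⟨⟨⟨-, -, hcomm⟩, hcQ⟩⟩ := And.intro hQex trivial
  haveI : Nontrivial (Subgroup.center Q) := Finite.one_lt_card_iff_nontrivial.1 (by rw [hcQ]; norm_num)
  obtain ⟨w, hw⟩ := exists_ne (1 : Subgroup.center Q)
  set z : G := ((w : Q) : G) with hz
  have hzQ : z ∈ Q := (w : Q).2
  have hz1 : z ≠ 1 := fun h => hw (Subtype.ext (Subtype.ext h))
  have hz3 : z ^ 3 = 1 := hQexp z hzQ
  have hcen : ∀ a : Q, a ∈ Subgroup.center Q → (a : G) ∈ Subgroup.zpowers z := by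
    intro a ha
    have hord : orderOf w = 3 := by
      have h := orderOf_dvd_natCard w
      rw [hcQ] at h
      rcases (Nat.dvd_prime Nat.prime_three).1 h with h' | h'
      · exact absurd (orderOf_eq_one_iff.1 h') hw
      · exact h'
    have htop : Subgroup.zpowers w = ⊤ := Subgroup.eq_top_of_card_eq _
      (by rw [Nat.card_zpowers, hord, hcQ])
    obtain ⟨i, hi⟩ := (htop ▸ Subgroup.mem_top (⟨a, ha⟩ : Subgroup.center Q) :
      (⟨a, ha⟩ : Subgroup.center Q) ∈ Subgroup.zpowers w)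
    exact ⟨i, congrArg (fun x : Subgroup.center Q => ((x : Q) : G)) hi⟩
  have hQcentre : ∀ a ∈ Q, (∀ b ∈ Q, a * b = b * a) → a ∈ Subgroup.zpowers z := fun a ha h =>
    hcen ⟨a, ha⟩ (Subgroup.mem_center_iff.2 (fun b => Subtype.ext (h b b.2).symm))
  have hzc : ∀ q ∈ Q, q * z = z * q := fun q hq =>
    congrArg Subtype.val (Subgroup.mem_center_iff.1 w.2 ⟨q, hq⟩)
  -- `Z = ⟨z⟩`
  let ψ : L₀ →* SL25 := eL.toMonoidHom.comp (QuotientGroup.mk' (Q.subgroupOf L₀))
  have hψsurj : Function.Surjective ψ := eL.surjective.comp QuotientGroup.mk_surjective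
  have hψker : ∀ l : L₀, ψ l = 1 ↔ (l : G) ∈ Q := fun l => by
    show eL (QuotientGroup.mk l) = 1 ↔ _
    rw [eL.map_eq_one_iff, QuotientGroup.eq_one_iff, Subgroup.mem_subgroupOf]
  have hzS : ∀ s ∈ (S : Subgroup G), s * z = z * s := by
    intro s hs
    obtain ⟨k, hk⟩ := Loc.three_pow S.isPGroup' hs
    refine zpowers_fix_three hz3 (hQcentre _ (hQnorm s (hSN hs) z hzQ) (fun b hb => ?_)) hk
    have hb' : s⁻¹ * b * s ∈ Q := by
      have := hQnorm s⁻¹ (inv_mem (hSN hs)) b hb
      rwa [inv_inv] at this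
    calc s * z * s⁻¹ * b = s * (z * (s⁻¹ * b * s)) * s⁻¹ := by group
      _ = s * ((s⁻¹ * b * s) * z) * s⁻¹ := by rw [hzc _ hb']
      _ = b * (s * z * s⁻¹) := by group
  have hzZ : z ∈ Z := by
    rw [hZ]
    exact ⟨hQS hzQ, Subgroup.mem_centralizer_iff.2 (fun s hs => hzS s hs)⟩
  have hZeq : Z = Subgroup.zpowers z := by
    refine le_antisymm (fun x hx => ?_) (Subgroup.zpowers_le.2 hzZ)
    have hx' := hx
    rw [hZ] at hx'
    have hxc : ∀ s ∈ (S : Subgroup G), x * s = s * x := fun s hs =>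
      (Subgroup.mem_centralizer_iff.1 hx'.2 s hs).symm
    have hxL : x ∈ L₀ := hSL hx'.1
    obtain ⟨k, hk⟩ := Loc.three_pow S.isPGroup' hx'.1
    have h1 : ψ ⟨x, hxL⟩ = 1 := by
      refine sl_three_trivial ψ hψsurj (k := k) (Subtype.ext (by push_cast; exact hk)) (fun l => ?_)
      apply Subtype.ext
      have hmem : (l : G) * x * (l : G)⁻¹ ∈ Z := conj_mem_normalizer (hLN l.2) hx
      rw [hZ] at hmem
      exact (hxc _ hmem.1).symm
    exact hQcentre x ((hψker _).1 h1) (fun b hb => hxc b (hQS hb))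
  have hNz : N = Subgroup.normalizer (Subgroup.zpowers z : Set G) := by rw [hN, hZeq]
  -- three-elements centralising `J` lie in it
  let φ : M₀ →* ASix := eM.toMonoidHom.comp (QuotientGroup.mk' (J.subgroupOf M₀))
  have hφsurj : Function.Surjective φ := eM.surjective.comp QuotientGroup.mk_surjective
  have hφker : ∀ m : M₀, φ m = 1 ↔ (m : G) ∈ J := fun m => by
    show eM (QuotientGroup.mk m) = 1 ↔ _
    rw [eM.map_eq_one_iff, QuotientGroup.eq_one_iff, Subgroup.mem_subgroupOf]
  have hcentJ : ∀ m : M₀, (∀ a ∈ J, (m : G) * a = a * m) → φ m = 1 := by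
    set C : Subgroup M₀ := (Subgroup.centralizer (J : Set G)).subgroupOf M₀ with hC
    have hnorm : C.Normal := by
      refine ⟨fun c hc g => ?_⟩
      rw [hC, Subgroup.mem_subgroupOf, Subgroup.mem_centralizer_iff] at hc ⊢
      intro a ha
      have ha' : (g : G)⁻¹ * a * (g : G) ∈ J := by
        have := conj_mem_normalizer (inv_mem (hMN g.2)) ha
        rwa [inv_inv] at this
      have h := hc _ ha'
      push_cast
      calc a * ((g : G) * c * (g : G)⁻¹) = (g : G) * (((g : G)⁻¹ * a * g) * c) * (g : G)⁻¹ := by group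
        _ = (g : G) * (c * ((g : G)⁻¹ * a * g)) * (g : G)⁻¹ := by rw [h]
        _ = (g : G) * c * (g : G)⁻¹ * a := by group
    haveI : IsSimpleGroup ASix := alternatingGroup.isSimpleGroup (by simp)
    haveI := hnorm.map φ hφsurj
    rcases IsSimpleGroup.eq_bot_or_eq_top_of_normal (C.map φ) this with h | h
    · intro m hm
      have hmem : φ m ∈ C.map φ := ⟨m, by
        show (m : G) ∈ Subgroup.centralizer (J : Set G)
        exact Subgroup.mem_centralizer_iff.2 (fun a ha => (hm a ha).symm), rfl⟩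
      rw [h] at hmem
      exact hmem
    · exfalso
      have hall : ∀ m : M₀, ∀ a ∈ J, (m : G) * a = a * m := by
        intro m a ha
        obtain ⟨c, hc, hcm⟩ : φ m ∈ C.map φ := h ▸ Subgroup.mem_top _
        have hj : ((c⁻¹ * m : M₀) : G) ∈ J := (hφker _).1 (by
          rw [map_mul, map_inv, hcm, inv_mul_cancel])
        have h1 : Commute (c : G) a := (Subgroup.mem_centralizer_iff.1 hc a ha).symm
        have h2 : Commute ((c⁻¹ * m : M₀) : G) a := hJcomm _ hj a ha
        have h3 := h1.mul_left h2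
        push_cast at h3
        rwa [mul_inv_cancel_left] at h3
      haveI : (J.subgroupOf M₀).Normal := hJn
      obtain ⟨P, hP⟩ := (IsPGroup.of_card (n := 4) (by
        rw [Nat.card_congr (Subgroup.subgroupOfEquivOfLe hJM).toEquiv, hJcard]) :
        IsPGroup 3 (J.subgroupOf M₀)).exists_le_sylow
      have hPc : 729 ≤ Nat.card (P : Subgroup M₀) :=
        Nat.le_of_dvd Nat.card_pos (by
          have := P.pow_dvd_card_of_pow_dvd_card (n := 6) (by rw [hcardM]; norm_num)
          rwa [show (3 : ℕ) ^ 6 = 729 from rfl] at this)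
      set P' : Subgroup G := (P : Subgroup M₀).map M₀.subtype with hP'
      obtain ⟨T, hT⟩ := (P.isPGroup'.map M₀.subtype : IsPGroup 3 P').exists_le_sylow
      have hTeq : P' = T := Subgroup.eq_of_le_of_card_ge hT (by
        rw [hP', Subgroup.card_map_of_injective M₀.subtype_injective,
          T.card_eq_multiplicity, ← Sylow.card_eq_multiplicity S, hScard]
        exact hPc)
      obtain ⟨g, hg⟩ := MulAction.exists_smul_eq G S T
      have hTconj : ∀ x : G, x ∈ (T : Subgroup G) ↔ g⁻¹ * x * g ∈ (S : Subgroup G) := by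
        intro x
        rw [← hg, Sylow.coe_subgroup_smul, Subgroup.mem_pointwise_smul_iff_inv_smul_mem]
        simp [MulAut.smul_def]
      have hle : ∀ a ∈ J, g⁻¹ * a * g ∈ Z := by
        intro a ha
        have haT : a ∈ (T : Subgroup G) := hTeq ▸ ⟨⟨a, hJM ha⟩, hP ha, rfl⟩
        rw [hZ]
        refine ⟨(hTconj a).1 haT, Subgroup.mem_centralizer_iff.2 (fun r hr => ?_)⟩
        have hr' : r ∈ (S : Subgroup G) := hr
        have hrT : g * r * g⁻¹ ∈ (T : Subgroup G) := (hTconj _).2 (by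
          rw [show g⁻¹ * (g * r * g⁻¹) * g = r by group]; exact hr')
        obtain ⟨m, -, hm⟩ := (hTeq ▸ hrT : g * r * g⁻¹ ∈ P')
        have h2 : (g * r * g⁻¹) * a = a * (g * r * g⁻¹) := by rw [← hm]; exact hall m a ha
        calc r * (g⁻¹ * a * g) = g⁻¹ * ((g * r * g⁻¹) * a) * g := by group
          _ = g⁻¹ * (a * (g * r * g⁻¹)) * g := by rw [h2]
          _ = g⁻¹ * a * g * r := by group
      have hc := Nat.card_le_card_of_injective
        (fun a : J => (⟨_, hle a a.2⟩ : Z))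
        (fun a b e => Subtype.ext (by
          have := congrArg Subtype.val e
          simpa using this))
      rw [hJcard, hZeq, Nat.card_zpowers, orderOf_eq_prime hz3 hz1] at hc
      norm_num at hc
  have hzJ : z ∈ J := by
    have hzN : z ∈ Subgroup.normalizer (J : Set G) := mem_normalizer_of_forall (fun a ha => by
      rw [← hzS a (hJS ha), mul_inv_cancel_right]; exact ha)
    have hzM : z ∈ M₀ := by
      rw [hM₀]
      exact Subgroup.subset_closure ⟨hzN, exists_orderOf_three.2 ⟨1, by simpa using hz3⟩⟩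
    exact (hφker ⟨z, hzM⟩).1 (hcentJ _ (fun a ha => (hzS a (hJS ha)).symm))
  -- `C(Q) ≤ Q`
  have hQcent : ∀ g, (∀ q ∈ Q, g * q = q * g) → g ∈ Q := by
    intro g hg
    set K := Subgroup.centralizer ({z} : Set G) with hK
    have hQK : Q ≤ K := fun q hq => mem_cent_singleton.2 (hzc q hq)
    have hKN : K ≤ N := by
      intro x hx
      rw [hNz]
      refine mem_normalizer_of_forall (fun y hy => ?_)
      obtain ⟨i, rfl⟩ := hy
      rw [((show Commute x z from mem_cent_singleton.1 hx).zpow_right i).eq, mul_inv_cancel_right]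
      exact zpow_mem (Subgroup.mem_zpowers _) i
    have hle : Q ≤ (Cfsg.pCore 3 K).map K.subtype :=
      mem_pCore_map hQK hQp (fun x hx => hQnorm x (hKN hx))
    have hge : (Cfsg.pCore 3 K).map K.subtype ≤ Q := by
      rw [hQ]
      refine Cfsg.Lib.Core.pCore_map_le_of_normal hKN ⟨fun n hn x => ?_⟩
      rw [Subgroup.mem_subgroupOf] at hn ⊢
      have hxN : (x : G) ∈ Subgroup.normalizer (Subgroup.zpowers z : Set G) :=
        SetLike.le_def.1 (le_of_eq hNz) x.2
      refine mem_cent_singleton.2 ?_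
      push_cast
      obtain ⟨i, hi⟩ := conj_mem_normalizer (inv_mem hxN) (Subgroup.mem_zpowers z)
      simp only at hi
      have hnz : Commute (n : G) ((x : G)⁻¹ * z * (x : G)⁻¹⁻¹) := by
        rw [← hi]; exact (show Commute (n : G) z from mem_cent_singleton.1 hn).zpow_right i
      calc (x : G) * n * (x : G)⁻¹ * z = (x : G) * ((n : G) * ((x : G)⁻¹ * z * (x : G)⁻¹⁻¹)) * (x : G)⁻¹ := by
            group
        _ = (x : G) * (((x : G)⁻¹ * z * (x : G)⁻¹⁻¹) * n) * (x : G)⁻¹ := by rw [hnz.eq]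
        _ = z * ((x : G) * n * (x : G)⁻¹) := by group
    exact hge (hiii z hzJ hz1 hZeq.symm (Subgroup.mem_centralizer_iff.2 (fun q hq => (hg q (hge hq)).symm)))
  refine ⟨{
    S := S
    z := z
    J := J
    Q := Q
    M := M₀
    L := L₀
    S_card := hScard
    J_le := hJS
    J_comm := hJcomm
    J_exp := hJexp
    J_card := by rw [hJcard]; norm_num
    Q_le := hQS
    Q_card := by rw [hQcard]; norm_num
    Q_exp := hQexp
    Q_comm := fun a ha b hb => ?_
    Q_centre := hQcentre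
    z_mem := hzQ
    z_exp := hz3
    z_ne := hz1
    z_S := hzS
    S_centre := fun s hs h => ?_
    Q_norm := fun g hg => hQnorm g (hNz ▸ hg)
    Q_cent := hQcent
    M_norm := hMN
    M_conj := fun g hg m hm => ?_
    M_three := fun g hg k hk => ?_
    L_cent := fun l hl => ?_
    L_conj := fun g hg l hl => ?_
    L_three := fun g hg k hk => ?_
    φ := φ
    φ_surj := hφsurj
    φ_ker := hφker
    ψ := ψ
    ψ_surj := hψsurj
    ψ_ker := hψker }, rfl⟩
  · refine hcen ⟨a * b * a⁻¹ * b⁻¹, mul_mem (mul_mem (mul_mem ha hb) (inv_mem ha)) (inv_mem hb)⟩ ?_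
    rw [← hcomm]
    exact Subgroup.commutator_mem_commutator (g₁ := (⟨a, ha⟩ : Q)) (g₂ := (⟨b, hb⟩ : Q))
      (Subgroup.mem_top _) (Subgroup.mem_top _)
  · rw [← hZeq, hZ]
    exact ⟨hs, Subgroup.mem_centralizer_iff.2 (fun r hr => (h r hr).symm)⟩
  · rw [hM₀] at hm ⊢
    exact closure_conj (fun x hx => three_gens_conj hg hx) hm
  · rw [hM₀]
    exact Subgroup.subset_closure ⟨hg, exists_orderOf_three.2 ⟨k, hk⟩⟩
  · have hle : L₀ ≤ Subgroup.centralizer ({z} : Set G) := by
      rw [hL₀, Subgroup.closure_le]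
      intro x hx
      obtain ⟨k, hk⟩ := exists_orderOf_three.1 hx.2
      have hxN : x ∈ N := hx.1
      rw [hNz] at hxN
      exact mem_cent_singleton.2 (zpowers_fix_three hz3
        (conj_mem_normalizer hxN (Subgroup.mem_zpowers z)) hk)
    exact mem_cent_singleton.1 (hle hl)
  · rw [hL₀] at hl ⊢
    have hgN : g ∈ N := hNz ▸ hg
    exact closure_conj (fun x hx => three_gens_conj hgN hx) hl
  · rw [hL₀]
    refine Subgroup.subset_closure ⟨?_, exists_orderOf_three.2 ⟨k, hk⟩⟩
    show g ∈ N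
    rw [hNz]
    refine mem_normalizer_of_forall (fun y hy => ?_)
    obtain ⟨i, rfl⟩ := hy
    rw [((show Commute g z from hg).zpow_right i).eq, mul_inv_cancel_right]
    exact zpow_mem (Subgroup.mem_zpowers _) i

omit [Finite G] in
theorem conj_cent_of_pm {g u : G} (h : g * u * g⁻¹ = u ∨ g * u * g⁻¹ = u⁻¹) {x : G}
    (hx : x ∈ Subgroup.centralizer ({u} : Set G)) :
    g * x * g⁻¹ ∈ Subgroup.centralizer ({u} : Set G) := by
  have hxu : Commute x u := mem_cent_singleton.1 hx
  refine mem_cent_singleton.2 ?_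
  have hx' : Commute (g * x * g⁻¹) (g * u * g⁻¹) := by
    show g * x * g⁻¹ * (g * u * g⁻¹) = g * u * g⁻¹ * (g * x * g⁻¹)
    rw [conj_mul, conj_mul, hxu.eq]
  rcases h with h | h <;> rw [h] at hx'
  · exact hx'.eq
  · simpa using hx'.inv_right.eq

/-- Self-centralising cores at all points of `J` give the condition used in the analysis. -/
theorem dec_of_core (H : LocH G)
    (h : ∀ x ∈ H.J, x ≠ 1 →
      Subgroup.centralizer (((Cfsg.pCore 3 (Subgroup.centralizer ({x} : Set G))).map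
          (Subgroup.centralizer ({x} : Set G)).subtype : Subgroup G) : Set G)
        ≤ (Cfsg.pCore 3 (Subgroup.centralizer ({x} : Set G))).map
          (Subgroup.centralizer ({x} : Set G)).subtype) : H.Dec := by
  intro u hu g hgu hgt
  have huJ : u ∈ H.J := by
    rcases hu with rfl | rfl
    · exact H.y_J
    · exact H.y'_J
  have hu1 : u ≠ 1 := by
    rcases hu with rfl | rfl
    · exact H.y_ne
    · exact H.y'_ne
  have hus : H.s * u * H.s⁻¹ = u ∨ H.s * u * H.s⁻¹ = u⁻¹ := by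
    rcases hu with rfl | rfl
    · exact Or.inl H.s_y
    · exact Or.inr H.s_y'
  have hut : H.t * u = u * H.t := by
    have hc1 : Commute H.t H.z := H.toLocT.t_z
    have hc2 : Commute H.t H.zz := H.zz_t
    rcases hu with rfl | rfl
    · exact (hc1.mul_right hc2).eq
    · exact (hc1.mul_right hc2.inv_right).eq
  refine H.t_norm_D ?_ hgt
  refine H.cent_norm_J huJ hus hut _ ((Cfsg.Lib.Core.pCore_isPGroup 3 _).map _)
    (fun e he p hp => pCore_map_conj (fun x hx => conj_cent_of_pm he hx) hp) (fun e he => ?_) hgu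
  exact h u huJ hu1 (Subgroup.mem_centralizer_iff.2 (fun p hp => (he p hp).symm))

end Cfsg.Lib.McLThree
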