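import Cfsg.Agent.Lib.McLThree.SLAut
import Cfsg.Agent.Lib.McLThree.Setup
import Cfsg.Agent.Lib.Core.Layer
import Cfsg.Agent.Lib.Extra.Structure
import Cfsg.Prelude.Def_Local

/-!
The 3-local hypotheses from the generalised Fitting subgroup of a centraliser of order three.
-/

set_option autoImplicit false
set_option linter.style.haveILetI false
set_option linter.unusedSectionVars false

namespace Cfsg.Lib.McLThree

open Cfsg.Lib.Recog.Icosa
open Cfsg.Lib.AltEightThree (conj_mem_normalizer mem_normalizer_of_forall)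

universe v

variable {G : Type v} [Group G] [Finite G]

theorem three_pow_quot {N : Subgroup G} [N.Normal] (hN : ∀ n ∈ N, ∃ k : ℕ, n ^ 3 ^ k = 1) {x : G}
    {k : ℕ} (h : (x : G ⧸ N) ^ 3 ^ k = 1) : ∃ j : ℕ, x ^ 3 ^ j = 1 := by
  rw [← QuotientGroup.mk_pow, QuotientGroup.eq_one_iff] at h
  obtain ⟨i, hi⟩ := hN _ h
  exact ⟨k + i, by rw [pow_add, pow_mul, hi]⟩

/-- The image of the closure of the 3-elements is the closure of the 3-elements. -/
theorem map_three_closure {K : Type v} [Group K] [Finite K] (N : Subgroup K) [N.Normal]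
    (hN : IsPGroup 3 N) :
    (Subgroup.closure {x : K | ∃ k : ℕ, orderOf x = 3 ^ k}).map (QuotientGroup.mk' N) =
      Subgroup.closure {x : K ⧸ N | ∃ k : ℕ, orderOf x = 3 ^ k} := by
  rw [MonoidHom.map_closure]
  congr 1
  ext y
  constructor
  · rintro ⟨x, hx, rfl⟩
    obtain ⟨k, hk⟩ := exists_orderOf_three.1 hx
    exact exists_orderOf_three.2 ⟨k, by rw [← map_pow, hk, map_one]⟩
  · intro hy
    obtain ⟨k, hk⟩ := exists_orderOf_three.1 hy
    obtain ⟨x, rfl⟩ := QuotientGroup.mk_surjective y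
    exact ⟨x, exists_orderOf_three.2 (three_pow_quot (fun n hn => Loc.three_pow hN hn) hk), rfl⟩

/-- A section as a quotient of a subgroup of the ambient group. -/
theorem quot_closure_equiv {K : Subgroup G} (N : Subgroup K) [N.Normal] (P : Subgroup G)
    (hP : P = N.map K.subtype) (hN : IsPGroup 3 N)
    (M₀ : Subgroup G) (hM₀ : M₀ = Subgroup.closure {g : G | g ∈ K ∧ ∃ k : ℕ, orderOf g = 3 ^ k})
    [(P.subgroupOf M₀).Normal] :
    Nonempty (M₀ ⧸ P.subgroupOf M₀ ≃*
      Subgroup.closure {x : K ⧸ N | ∃ k : ℕ, orderOf x = 3 ^ k}) := by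
  set C := Subgroup.closure {x : K | ∃ k : ℕ, orderOf x = 3 ^ k} with hC
  have hmap : C.map K.subtype = M₀ := by
    rw [hM₀, hC, MonoidHom.map_closure]
    congr 1
    ext g
    constructor
    · rintro ⟨x, ⟨k, hk⟩, rfl⟩
      exact ⟨x.2, k, (Subgroup.orderOf_coe x).trans hk⟩
    · rintro ⟨hg, k, hk⟩
      exact ⟨⟨g, hg⟩, ⟨k, (Subgroup.orderOf_coe (⟨g, hg⟩ : K)).symm.trans hk⟩, rfl⟩
  have hle : M₀ ≤ K := hmap ▸ Subgroup.map_subtype_le C
  set f : M₀ →* K ⧸ N := (QuotientGroup.mk' N).comp (Subgroup.inclusion hle) with hf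
  have hker : f.ker = P.subgroupOf M₀ := by
    ext x
    rw [hf, MonoidHom.mem_ker, MonoidHom.comp_apply, QuotientGroup.mk'_apply,
      QuotientGroup.eq_one_iff, Subgroup.mem_subgroupOf, hP]
    constructor
    · intro h; exact ⟨_, h, rfl⟩
    · rintro ⟨y, hy, hyx⟩
      exact (Subtype.ext hyx : y = Subgroup.inclusion hle x) ▸ hy
  have hrange : f.range = Subgroup.closure {x : K ⧸ N | ∃ k : ℕ, orderOf x = 3 ^ k} := by
    rw [← map_three_closure N hN, hf, MonoidHom.range_comp]
    congr 1
    apply Subgroup.map_injective K.subtype_injective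
    rw [← hC, hmap, MonoidHom.map_range,
      show K.subtype.comp (Subgroup.inclusion hle) = M₀.subtype from rfl, Subgroup.range_subtype]
  exact ⟨((QuotientGroup.quotientMulEquivOfEq hker.symm).trans
    (QuotientGroup.quotientKerEquivRange f)).trans (MulEquiv.subgroupCongr hrange)⟩

section Binary

variable {K : Type v} [Group K] [Finite K]
  (η : Cfsg.generalizedFittingSubgroup K ≃* SL25)

include η in
/-- Every 3-element lies in a generalised Fitting subgroup of shape `SL(2,5)`. -/
theorem three_mem_fittingStar {x : K} {k : ℕ} (hk : x ^ 3 ^ k = 1) :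
    x ∈ Cfsg.generalizedFittingSubgroup K := by
  set E := Cfsg.generalizedFittingSubgroup K with hE
  haveI : E.Normal := inferInstance
  let ν : K →* MulAut SL25 := (MulAut.congr η).toMonoidHom.comp MulAut.conjNormal
  obtain ⟨e, he⟩ := sl_three_inner (ν x) (k := k) (by rw [← map_pow, hk, map_one])
  have hcent : ∀ y : E, ((η.symm e : E) : K)⁻¹ * x * (y : K) =
      (y : K) * (((η.symm e : E) : K)⁻¹ * x) := by
    intro y
    have h : η (MulAut.conjNormal x (η.symm (η y))) = e * η y * e⁻¹ := he (η y)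
    rw [η.symm_apply_apply] at h
    have h2 := congrArg η.symm h
    rw [map_mul, map_mul, map_inv, η.symm_apply_apply, η.symm_apply_apply] at h2
    have h3 := congrArg (fun w : E => (w : K)) h2
    simp only [MulAut.conjNormal_apply, Subgroup.coe_mul, Subgroup.coe_inv] at h3
    calc ((η.symm e : E) : K)⁻¹ * x * (y : K)
        = ((η.symm e : E) : K)⁻¹ * (x * (y : K) * x⁻¹) * x := by group
      _ = ((η.symm e : E) : K)⁻¹ * (((η.symm e : E) : K) * y * ((η.symm e : E) : K)⁻¹) * x := by
        rw [h3]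
      _ = _ := by group
  have hmem : ((η.symm e : E) : K)⁻¹ * x ∈ E :=
    Cfsg.Lib.Core.centralizer_generalizedFitting_le
      (Subgroup.mem_centralizer_iff.2 (fun y hy => (hcent ⟨y, hy⟩).symm))
  have h := mul_mem (η.symm e).2 hmem
  rwa [mul_inv_cancel_left] at h

include η in
theorem three_closure_fittingStar :
    Subgroup.closure {x : K | ∃ k : ℕ, orderOf x = 3 ^ k} = Cfsg.generalizedFittingSubgroup K := by
  refine le_antisymm ((Subgroup.closure_le _).2 (fun x hx => ?_)) ?_
  · obtain ⟨k, hk⟩ := exists_orderOf_three.1 hx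
    exact three_mem_fittingStar η hk
  · set C := Subgroup.closure {x : K | ∃ k : ℕ, orderOf x = 3 ^ k} with hC
    have htop := sl_closure_three (H := (C.subgroupOf _).map η.toMonoidHom) (fun A hA =>
      ⟨η.symm A, Subgroup.subset_closure (exists_orderOf_three.2 ⟨1, by
        rw [pow_one, ← map_pow (Cfsg.generalizedFittingSubgroup K).subtype, ← map_pow η.symm, hA, map_one, map_one]⟩), η.apply_symm_apply A⟩)
    intro x hx
    obtain ⟨y, hy, hyx⟩ := (htop ▸ Subgroup.mem_top (η ⟨x, hx⟩) :
      η ⟨x, hx⟩ ∈ (C.subgroupOf _).map η.toMonoidHom)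
    rw [η.injective hyx] at hy
    exact hy

include η in
theorem sylow_three_dvd (P : Sylow 3 K) : Nat.card (P : Subgroup K) ∣ 3 := by
  have hle : (P : Subgroup K) ≤ Cfsg.generalizedFittingSubgroup K := fun x hx => by
    obtain ⟨k, hk⟩ := Loc.three_pow P.isPGroup' hx
    exact three_mem_fittingStar η hk
  have h := Subgroup.card_dvd_of_le hle
  rw [Nat.card_congr η.toEquiv, card_sl_two_five] at h
  obtain ⟨n, hn⟩ := IsPGroup.iff_card.1 P.isPGroup'
  rw [hn] at h ⊢
  have hn1 : n ≤ 1 := by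
    by_contra hlt
    have h4 : 3 ^ 2 ∣ 120 := (pow_dvd_pow 3 (Nat.lt_of_not_le hlt)).trans h
    norm_num at h4
  exact Nat.pow_dvd_pow 3 hn1 |>.trans (by norm_num)

end Binary

end Cfsg.Lib.McLThree
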