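import Cfsg.Agent.Lib.McLThree.Basic

/-!
The involution over the centre of `L/Q` and the elementary abelian group `J`.
-/

set_option autoImplicit false
set_option linter.style.haveILetI false
set_option linter.unusedSectionVars false

namespace Cfsg.Lib.McLThree

open Cfsg.Lib.Recog.Icosa
open Cfsg.Lib.AltEightThree (mem_cent_singleton conj_mem_normalizer mem_normalizer_of_forall
  mem_normalizer_of_cent)

variable {G : Type*} [Group G] [Finite G] (D : Loc G)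

namespace Loc

theorem pow_three_Q {x : G} (hx : x ∈ D.L) {m : ℕ} (h : D.ψ ⟨x, hx⟩ ^ m = 1) : x ^ (m * 3) = 1 := by
  rw [pow_mul]
  apply D.Q_exp
  exact (D.ψ_ker (⟨x, hx⟩ ^ m)).1 (by rw [map_pow, h])

theorem exists_d : ∃ d : G, d ∈ D.L ∧ d * D.z = D.z * d ∧ d ^ 5 = 1 ∧ d ∉ D.Q := by
  obtain ⟨⟨x, hx⟩, hxd⟩ := D.ψ_surj (gensSL 1)
  obtain ⟨-, -, -, h5, h1, -⟩ := sl_centre
  refine ⟨x ^ 3, pow_mem hx 3, ((Commute.pow_left (D.L_cent x hx) 3)).eq, ?_, ?_⟩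
  · rw [← pow_mul, show 3 * 5 = 5 * 3 from rfl]
    exact D.pow_three_Q hx (by rw [hxd, h5])
  · intro h
    apply h1
    have h3 : gensSL 1 ^ 3 = 1 := by
      rw [← hxd, ← map_pow]
      exact (D.ψ_ker _).2 h
    exact eq_one_of_pow_coprime h5 h3 (by norm_num)

theorem d_invariant {d : G} (hd : d * D.z = D.z * d) (h5 : d ^ 5 = 1) (hdQ : d ∉ D.Q)
    (W : Subgroup G) (hWQ : W ≤ D.Q) (hzW : D.z ∈ W) (hW : ∀ w ∈ W, d * w * d⁻¹ ∈ W) :
    W = D.Q ∨ W ≤ Subgroup.zpowers D.z := by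
  have key : ∀ U : Subgroup G, U ≤ D.Q → D.z ∈ U → ∃ k, 1 ≤ k ∧ k ≤ 5 ∧ Nat.card U = 3 ^ k := by
    intro U hU hzU
    obtain ⟨k, hk, hk'⟩ := (Nat.dvd_prime_pow Nat.prime_three (m := 5)).1
      (show Nat.card U ∣ 3 ^ 5 by
        have := Subgroup.card_dvd_of_le hU
        rwa [D.Q_card] at this)
    refine ⟨k, ?_, hk, hk'⟩
    rcases Nat.eq_zero_or_pos k with rfl | h
    · have h3 := Subgroup.card_dvd_of_le (Subgroup.zpowers_le.2 hzU)
      rw [D.card_zpow, hk'] at h3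
      norm_num at h3
    · exact h
  -- the centraliser of `d` in `Q`
  set Cd := D.Q ⊓ Subgroup.centralizer ({d} : Set G) with hCd
  have hzC : D.z ∈ Cd := ⟨D.z_mem, mem_cent_singleton.2 hd.symm⟩
  obtain ⟨j, hj1, hj5, hj⟩ := key Cd inf_le_left hzC
  have hmodQ := card_cent_modEq D.Q d h5 (mem_normalizer_of_forall (fun q hq => D.Q_conj hd hq))
  rw [D.Q_card, ← hCd, hj] at hmodQ
  have hj' : j = 1 := by
    have hne : j ≠ 5 := by
      intro e
      apply hdQ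
      apply D.Q_cent
      intro q hq
      have hq' : q ∈ Cd := by
        rw [show Cd = D.Q from Subgroup.eq_of_le_of_card_ge inf_le_left
          (by rw [hj, e, D.Q_card]; norm_num)]
        exact hq
      exact (mem_cent_singleton.1 hq'.2).symm
    interval_cases j <;> simp_all [Nat.ModEq]
  obtain ⟨k, hk1, hk5, hk⟩ := key W hWQ hzW
  have hmodW := card_cent_modEq W d h5 (mem_normalizer_of_forall hW)
  have hWd : W ⊓ Subgroup.centralizer ({d} : Set G) = Subgroup.zpowers D.z := by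
    apply le_antisymm
    · intro w hw
      have : w ∈ Cd := ⟨hWQ hw.1, hw.2⟩
      rwa [← Subgroup.eq_of_le_of_card_ge (Subgroup.zpowers_le.2 hzC)
        (by rw [hj, hj', D.card_zpow]; norm_num)] at this
    · exact Subgroup.zpowers_le.2 ⟨hzW, mem_cent_singleton.2 hd.symm⟩
  rw [hWd, D.card_zpow, hk] at hmodW
  interval_cases k
  · right
    rw [← Subgroup.eq_of_le_of_card_ge (Subgroup.zpowers_le.2 hzW) (by rw [hk, D.card_zpow]; norm_num)]
  · simp [Nat.ModEq] at hmodW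
  · simp [Nat.ModEq] at hmodW
  · simp [Nat.ModEq] at hmodW
  · exact Or.inl (Subgroup.eq_of_le_of_card_ge hWQ (by rw [hk, D.Q_card]; norm_num))

theorem exists_t : ∃ t : G, ∃ ht : t ∈ D.L, t * t = 1 ∧ D.ψ ⟨t, ht⟩ = gensSL 2 := by
  obtain ⟨⟨x, hx⟩, hxt⟩ := D.ψ_surj (gensSL 2)
  obtain ⟨h2, -⟩ := sl_centre
  refine ⟨x ^ 3, pow_mem hx 3, ?_, ?_⟩
  · rw [← pow_add, show 3 + 3 = 2 * 3 from rfl]
    exact D.pow_three_Q hx (by rw [hxt, pow_two, h2])
  · rw [show (⟨x ^ 3, pow_mem hx 3⟩ : D.L) = ⟨x, hx⟩ ^ 3 from rfl, map_pow, hxt, pow_three, h2,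
      mul_one]

end Loc

/-- The configuration together with its involution `t`. -/
structure LocT (G : Type*) [Group G] extends Loc G where
  /-- the involution -/
  t : G
  t_L : t ∈ toLoc.L
  t_sq : t * t = 1
  t_ψ : toLoc.ψ ⟨t, t_L⟩ = gensSL 2

variable (T : LocT G)

namespace LocT

theorem t_z : T.t * T.z = T.z * T.t := T.L_cent _ T.t_L

theorem t_inv : T.t⁻¹ = T.t := inv_eq_of_mul_eq_one_right T.t_sq

theorem t_ne : T.t ≠ 1 := by
  intro h
  obtain ⟨-, h1, -⟩ := sl_centre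
  apply h1
  rw [← T.t_ψ]
  exact (T.ψ_ker _).2 (by show T.t ∈ T.Q; rw [h]; exact one_mem _)

theorem t_not_Q : T.t ∉ T.Q := by
  intro h
  exact sl_centre.2.1 (T.t_ψ ▸ (T.ψ_ker ⟨T.t, T.t_L⟩).2 h)

theorem order_t : orderOf T.t = 2 :=
  orderOf_eq_prime (by rw [pow_two, T.t_sq]) T.t_ne

theorem mem_coset_t {w : G} (hw : w ∈ T.L) (h : T.ψ ⟨w, hw⟩ = gensSL 2) : w * T.t ∈ T.Q := by
  apply (T.ψ_ker (⟨w, hw⟩ * ⟨T.t, T.t_L⟩)).1
  rw [map_mul, h, T.t_ψ, sl_centre.1]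

theorem fix_t {q : G} (hq : q ∈ T.Q) (h : T.toLoc.Triv T.t q) : q ∈ Subgroup.zpowers T.z := by
  obtain ⟨d, hdL, hdz, hd5, hdQ⟩ := T.toLoc.exists_d
  set W := T.toLoc.fixQ T.t T.t_z with hW
  have hinv : ∀ w ∈ W, d * w * d⁻¹ ∈ W := by
    intro w hw
    refine ⟨T.toLoc.Q_conj hdz hw.1, ?_⟩
    have hcL : d⁻¹ * T.t * d ∈ T.L := mul_mem (mul_mem (inv_mem hdL) T.t_L) hdL
    have hc : d⁻¹ * T.t * d * T.t ∈ T.Q := by
      refine T.mem_coset_t hcL ?_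
      rw [show (⟨d⁻¹ * T.t * d, hcL⟩ : T.L) = ⟨d, hdL⟩⁻¹ * ⟨T.t, T.t_L⟩ * ⟨d, hdL⟩ from rfl,
        map_mul, map_mul, map_inv, T.t_ψ, mul_assoc, ← sl_centre.2.2.1, inv_mul_cancel_left]
    have htr : T.toLoc.Triv (d⁻¹ * T.t * d) w := by
      have := (T.toLoc.triv_mul (T.toLoc.Q_z hc) (T.toLoc.triv_Q hc hw.1) hw.2).1
      rwa [mul_assoc _ T.t T.t, T.t_sq, mul_one] at this
    have e : T.t * (d * w * d⁻¹) * T.t⁻¹ * (d * w * d⁻¹)⁻¹ =
        d * ((d⁻¹ * T.t * d) * w * (d⁻¹ * T.t * d)⁻¹ * w⁻¹) * d⁻¹ := by group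
    show _ ∈ Subgroup.zpowers T.z
    rw [e, T.toLoc.zpow_conj_eq hdz htr]
    exact htr
  rcases T.toLoc.d_invariant hdz hd5 hdQ W (T.toLoc.fixQ_le _) (T.toLoc.z_fixQ _) hinv with hall | hle
  · exfalso
    apply T.t_not_Q
    apply T.toLoc.mem_Q_of_triv T.t_z
    intro w hw
    rw [← hall] at hw
    exact hw.2
  · exact hle ⟨hq, h⟩

theorem t_inverts {q : G} (hq : q ∈ T.Q) : q * (T.t * q * T.t) ∈ Subgroup.zpowers T.z := by
  have hq' : T.t * q * T.t ∈ T.Q := by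
    have := T.toLoc.Q_conj T.t_z hq
    rwa [T.t_inv] at this
  refine T.fix_t (mul_mem hq hq') ?_
  have e : T.t * (q * (T.t * q * T.t)) * T.t⁻¹ * (q * (T.t * q * T.t))⁻¹ =
      (T.t * q * T.t) * q * (T.t * q * T.t)⁻¹ * q⁻¹ := by
    rw [T.t_inv]
    calc T.t * (q * (T.t * q * T.t)) * T.t * (q * (T.t * q * T.t))⁻¹
        = T.t * q * T.t * q * (T.t * T.t) * (q * (T.t * q * T.t))⁻¹ := by group
      _ = _ := by rw [T.t_sq]; group
  show _ ∈ Subgroup.zpowers T.z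
  rw [e]
  exact T.Q_comm _ hq' _ hq

theorem cQ_t {q : G} (hq : q ∈ T.Q) (h : T.t * q = q * T.t) : q ∈ Subgroup.zpowers T.z :=
  T.fix_t hq (by simp [Loc.Triv, h])

theorem adjust_t {g : G} (hg : g * T.z = T.z * g) :
    ∃ x ∈ T.Q, (x⁻¹ * g) * T.t = T.t * (x⁻¹ * g) := by
  have hL : g * T.t * g⁻¹ ∈ T.L := T.L_conj g (T.toLoc.cent_norm hg) _ T.t_L
  have hsq : (g * T.t * g⁻¹) * (g * T.t * g⁻¹) = 1 := by
    calc (g * T.t * g⁻¹) * (g * T.t * g⁻¹) = g * (T.t * T.t) * g⁻¹ := by group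
      _ = 1 := by rw [T.t_sq]; group
  have hψ : T.ψ ⟨g * T.t * g⁻¹, hL⟩ = gensSL 2 := by
    refine (sl_neg_unique _ ?_).resolve_left ?_
    · rw [← map_mul, show (⟨g * T.t * g⁻¹, hL⟩ : T.L) * ⟨g * T.t * g⁻¹, hL⟩ = 1 from Subtype.ext hsq,
        map_one]
    · intro h
      have h' : g * T.t * g⁻¹ ∈ T.Q := (T.ψ_ker _).1 h
      apply T.t_not_Q
      have hg' : g⁻¹ * T.z = T.z * g⁻¹ := (Commute.inv_left hg).eq
      have := T.toLoc.Q_conj hg' h'
      have e : g⁻¹ * (g * T.t * g⁻¹) * g⁻¹⁻¹ = T.t := by group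
      rwa [e] at this
  have hc := T.mem_coset_t hL hψ
  set x := T.t * (g * T.t * g⁻¹) with hx
  have hxQ : x ∈ T.Q := by
    have := T.toLoc.Q_conj T.t_z hc
    have e : T.t * (g * T.t * g⁻¹ * T.t) * T.t⁻¹ = x := by rw [hx]; group
    rwa [e] at this
  have htx : T.t * x = g * T.t * g⁻¹ := by rw [hx, ← mul_assoc, T.t_sq, one_mul]
  refine ⟨x, hxQ, ?_⟩
  have hconj := conj_involution_coset T.t_sq (T.Q_exp x hxQ) (by rw [htx]; exact hsq)
  rw [htx] at hconj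
  calc x⁻¹ * g * T.t = x⁻¹ * (g * T.t * g⁻¹) * g := by group
    _ = x⁻¹ * (x * T.t * x⁻¹) * g := by rw [hconj]
    _ = T.t * (x⁻¹ * g) := by group

end LocT

namespace Loc

theorem ψ_three {x : G} (hx : x ∈ (D.S : Subgroup G)) (hL : x ∈ D.L) :
    D.ψ ⟨x, hL⟩ ^ 3 = 1 := by
  have h1 : x ^ 729 = 1 := by
    rw [← D.S_card]
    exact congrArg Subtype.val (pow_card_eq_one' (x := (⟨x, hx⟩ : (D.S : Subgroup G))))
  have h2 : D.ψ ⟨x, hL⟩ ^ 729 = 1 := by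
    rw [← map_pow, show (⟨x, hL⟩ : D.L) ^ 729 = 1 from Subtype.ext h1, map_one]
  have h3 : D.ψ ⟨x, hL⟩ ^ 120 = 1 := by
    rw [← card_sl_two_five]; exact pow_card_eq_one'
  have h4 := pow_gcd_eq_one.2 ⟨h2, h3⟩
  rwa [show Nat.gcd 729 120 = 3 from by norm_num] at h4

theorem S_le_L {x : G} (hx : x ∈ (D.S : Subgroup G)) : x ∈ D.L := by
  obtain ⟨k, hk⟩ := three_pow D.S.isPGroup' hx
  exact D.L_three x (D.z_S x hx) k hk

/-- The elements centralising `W` modulo the centre of `Q`. -/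
def trivOn (W : Subgroup G) : Subgroup G where
  carrier := {x | x * D.z = D.z * x ∧ ∀ q ∈ W, D.Triv x q}
  one_mem' := ⟨by simp, fun q _ => D.triv_one q⟩
  mul_mem' := fun {a b} ha hb =>
    ⟨(Commute.mul_left ha.1 hb.1).eq, fun q hq => (D.triv_mul ha.1 (ha.2 q hq) (hb.2 q hq)).1⟩
  inv_mem' := fun {a} ha => ⟨(Commute.inv_left ha.1).eq, fun q hq => by
    have e : a⁻¹ * q * a⁻¹⁻¹ * q⁻¹ = a⁻¹ * (a * q * a⁻¹ * q⁻¹)⁻¹ * a := by group
    show _ ∈ Subgroup.zpowers D.z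
    rw [e, D.zpow_comm_z (inv_mem (ha.2 q hq)) a⁻¹ (Commute.inv_left ha.1).eq,
      inv_mul_cancel_right]
    exact inv_mem (ha.2 q hq)⟩

theorem fix_small {x : G} (hx : x ∈ (D.S : Subgroup G)) (hxQ : x ∉ D.Q) :
    Nat.card (D.fixQ x (D.z_S x hx)) ≤ 27 := by
  set A := D.fixQ x (D.z_S x hx) with hA
  have hAQ : A ≤ D.Q := D.fixQ_le _
  obtain ⟨k, hk, hk'⟩ := (Nat.dvd_prime_pow Nat.prime_three (m := 5)).1
    (show Nat.card A ∣ 3 ^ 5 by
      have := Subgroup.card_dvd_of_le hAQ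
      rwa [D.Q_card] at this)
  by_contra hbig
  have hk4 : 4 ≤ k := by
    by_contra h4
    apply hbig
    rw [hk']
    calc 3 ^ k ≤ 3 ^ 3 := Nat.pow_le_pow_right (by norm_num) (by omega)
      _ = 27 := by norm_num
  have hA81 : 81 ≤ Nat.card A := by
    rw [hk']
    calc 81 = 3 ^ 4 := by norm_num
      _ ≤ 3 ^ k := Nat.pow_le_pow_right (by norm_num) hk4
  have hxL : x ∈ D.L := D.S_le_L hx
  have hX3 := D.ψ_three hx hxL
  have hX1 : D.ψ ⟨x, hxL⟩ ≠ 1 := fun h => hxQ ((D.ψ_ker _).1 h)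
  obtain ⟨i, hi⟩ := sl_three_moved _ hX3 hX1
  obtain ⟨⟨l, hl⟩, hlψ⟩ := D.ψ_surj (![gensSL 0, gensSL 1] i)
  have hlz := D.L_cent l hl
  set y := l * x * l⁻¹ with hy
  have hyL : y ∈ D.L := mul_mem (mul_mem hl hxL) (inv_mem hl)
  have hyz := D.L_cent y hyL
  set B := A.map (MulAut.conj l).toMonoidHom with hB
  have hBQ : B ≤ D.Q := by
    rintro w ⟨a, ha, rfl⟩
    exact D.Q_conj hlz (hAQ ha)
  have hBy : ∀ q ∈ B, D.Triv y q := by
    rintro w ⟨a, ha, rfl⟩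
    show y * (l * a * l⁻¹) * y⁻¹ * (l * a * l⁻¹)⁻¹ ∈ Subgroup.zpowers D.z
    have e : y * (l * a * l⁻¹) * y⁻¹ * (l * a * l⁻¹)⁻¹ = l * (x * a * x⁻¹ * a⁻¹) * l⁻¹ := by
      rw [hy]; group
    rw [e, D.zpow_conj_eq hlz ha.2]
    exact ha.2
  have hI : 27 ≤ Nat.card ↥(A ⊓ B) := by
    have h1 := card_mul_relIndex (inf_le_right : A ⊓ B ≤ B)
    rw [Subgroup.inf_relIndex_right] at h1
    have h2 := card_mul_relIndex hAQ
    have h0 : A.relIndex D.Q ≠ 0 := Subgroup.index_ne_zero_of_finite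
    have h3 : A.relIndex B ≤ A.relIndex D.Q := Subgroup.relIndex_le_of_le_right hBQ h0
    have h4 : Nat.card B = Nat.card A :=
      Subgroup.card_map_of_injective (MulAut.conj l).injective
    rw [D.Q_card] at h2
    have h5 : A.relIndex D.Q ≤ 3 := by
      by_contra hc
      have := Nat.mul_le_mul hA81 (Nat.lt_of_not_le hc)
      omega
    have h6 : Nat.card ↥(A ⊓ B) * A.relIndex B ≤ Nat.card ↥(A ⊓ B) * 3 :=
      Nat.mul_le_mul_left _ (h3.trans h5)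
    omega
  set G2 := D.trivOn (A ⊓ B) with hG2
  have hxG : x ∈ G2 := ⟨D.z_S x hx, fun q hq => hq.1.2⟩
  have hyG : y ∈ G2 := ⟨hyz, fun q hq => hBy q hq.2⟩
  have hY : D.ψ ⟨y, hyL⟩ = D.ψ ⟨l, hl⟩ * D.ψ ⟨x, hxL⟩ * (D.ψ ⟨l, hl⟩)⁻¹ := by
    rw [← map_inv, ← map_mul, ← map_mul]; rfl
  have hY3 : D.ψ ⟨y, hyL⟩ ^ 3 = 1 := by rw [hY, conj_pow, hX3]; group
  have hXY : D.ψ ⟨x, hxL⟩ * D.ψ ⟨y, hyL⟩ ≠ D.ψ ⟨y, hyL⟩ * D.ψ ⟨x, hxL⟩ := by
    rw [hY, hlψ]; exact fun e => hi e.symm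
  obtain ⟨n, hn⟩ := sl_three_word _ hX3 _ hY3 hXY
  obtain ⟨w, hwG, hwL, hwψ⟩ : ∃ w, w ∈ G2 ∧ ∃ hwL : w ∈ D.L, D.ψ ⟨w, hwL⟩ = gensSL 2 := by
    rcases hn with hn | hn
    · refine ⟨(x * y) ^ (n : ℕ), pow_mem (mul_mem hxG hyG) _, pow_mem (mul_mem hxL hyL) _, ?_⟩
      rw [← hn, ← map_mul, ← map_pow]; rfl
    · refine ⟨(x * y⁻¹) ^ (n : ℕ), pow_mem (mul_mem hxG (inv_mem hyG)) _,
        pow_mem (mul_mem hxL (inv_mem hyL)) _, ?_⟩
      rw [← hn, ← map_inv, ← map_mul, ← map_pow]; rfl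
  obtain ⟨t, htL, htsq, htψ⟩ := D.exists_t
  let T : LocT G := { toLoc := D, t := t, t_L := htL, t_sq := htsq, t_ψ := htψ }
  have hc : w * t ∈ D.Q := T.mem_coset_t hwL hwψ
  have hcG : w * t ∈ G2 := ⟨D.Q_z hc, fun q hq => D.triv_Q hc (hAQ hq.1)⟩
  have htG : t ∈ G2 := by
    have := mul_mem (inv_mem hwG) hcG
    rwa [inv_mul_cancel_left] at this
  have hle : A ⊓ B ≤ Subgroup.zpowers D.z := fun q hq => T.fix_t (hAQ hq.1) (htG.2 q hq)
  have := Subgroup.card_dvd_of_le hle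
  rw [D.card_zpow] at this
  have := Nat.le_of_dvd (by norm_num) this
  omega

theorem abelian_Q_small {W : Subgroup G} (hW : W ≤ D.Q) (hc : ∀ a ∈ W, ∀ b ∈ W, a * b = b * a) :
    Nat.card W ≤ 27 := by
  obtain ⟨k, hk, hk'⟩ := (Nat.dvd_prime_pow Nat.prime_three (m := 5)).1
    (show Nat.card W ∣ 3 ^ 5 by
      have := Subgroup.card_dvd_of_le hW
      rwa [D.Q_card] at this)
  interval_cases k <;> (try (rw [hk']; norm_num; done))
  · -- index three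
    exfalso
    obtain ⟨q, hq, hqW⟩ : ∃ q ∈ D.Q, q ∉ W := by
      by_contra hno
      push Not at hno
      have := Subgroup.card_dvd_of_le (hno : D.Q ≤ W)
      rw [D.Q_card, hk'] at this
      norm_num at this
    let f : W →* Subgroup.zpowers D.z :=
      { toFun := fun w => ⟨q * w * q⁻¹ * (w : G)⁻¹, D.triv_Q hq (hW w.2)⟩
        map_one' := Subtype.ext (by simp)
        map_mul' := fun a b => Subtype.ext (by
          have hb := D.triv_Q hq (hW b.2)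
          have hcomm := D.zpow_comm_z hb (a : G)⁻¹ (Commute.inv_left (D.Q_z (hW a.2))).eq
          show q * ((a : G) * b) * q⁻¹ * ((a : G) * b)⁻¹ =
            q * a * q⁻¹ * (a : G)⁻¹ * (q * b * q⁻¹ * (b : G)⁻¹)
          calc q * ((a : G) * b) * q⁻¹ * ((a : G) * b)⁻¹
              = q * a * q⁻¹ * ((q * b * q⁻¹ * (b : G)⁻¹) * (a : G)⁻¹) := by group
            _ = q * a * q⁻¹ * ((a : G)⁻¹ * (q * b * q⁻¹ * (b : G)⁻¹)) := by rw [hcomm]
            _ = _ := by group) }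
    have hker : ∀ w : W, f w = 1 → (w : G) ∈ Subgroup.zpowers D.z := by
      intro w hw
      have h1 : q * w * q⁻¹ * (w : G)⁻¹ = 1 := congrArg Subtype.val hw
      have hwq : (w : G) * q = q * w := (mul_inv_eq_iff_eq_mul.1 (mul_inv_eq_one.1 h1)).symm
      refine D.Q_centre _ (hW w.2) ?_
      have hle : D.Q ≤ Subgroup.centralizer ({(w : G)} : Set G) := by
        set C := D.Q ⊓ Subgroup.centralizer ({(w : G)} : Set G) with hC
        have hWC : W ≤ C := fun a ha => ⟨hW ha, mem_cent_singleton.2 (hc a ha w w.2)⟩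
        have hqC : q ∈ C := ⟨hq, mem_cent_singleton.2 hwq.symm⟩
        have hne : W.relIndex C ≠ 1 := fun e => hqW ((Subgroup.relIndex_eq_one.1 e) hqC)
        have h2 := card_mul_relIndex hWC
        have hCd : Nat.card C ∣ 243 := D.Q_card ▸ Subgroup.card_dvd_of_le (inf_le_left : C ≤ D.Q)
        have : Nat.card C = 243 := by
          rw [← h2, hk'] at hCd ⊢
          have : W.relIndex C ∣ 3 := by
            have h81 : 3 ^ 4 * W.relIndex C ∣ 3 ^ 4 * 3 := hCd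
            exact (mul_dvd_mul_iff_left (by norm_num)).1 h81
          rcases (Nat.dvd_prime Nat.prime_three).1 this with h | h
          · exact absurd h hne
          · rw [h]; norm_num
        rw [← Subgroup.eq_of_le_of_card_ge (inf_le_left : C ≤ D.Q) (by rw [this, D.Q_card])]
        exact inf_le_right
      exact fun b hb => (mem_cent_singleton.1 (hle hb)).symm
    have h1 := f.ker.card_mul_index
    rw [Subgroup.index_ker] at h1
    have h2 : Nat.card f.ker ≤ 3 := by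
      rw [← D.card_zpow]
      exact Nat.card_le_card_of_injective (fun x => (⟨_, hker x.1 x.2⟩ : Subgroup.zpowers D.z))
        (fun a b e => Subtype.ext (Subtype.ext (Subtype.mk.inj e)))
    have h3 : Nat.card f.range ≤ 3 := by
      rw [← D.card_zpow]
      exact Nat.card_le_card_of_injective _ Subtype.val_injective
    have h4 := Nat.mul_le_mul h2 h3
    rw [h1, hk'] at h4
    norm_num at h4
  · exfalso
    have he : W = D.Q := Subgroup.eq_of_le_of_card_ge hW (by rw [hk', D.Q_card]; norm_num)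
    have hle : D.Q ≤ Subgroup.zpowers D.z :=
      fun a ha => D.Q_centre a ha (fun b hb => hc a (he ▸ ha) b (he ▸ hb))
    have := Subgroup.card_dvd_of_le hle
    rw [D.Q_card, D.card_zpow] at this
    norm_num at this

end Loc

end Cfsg.Lib.McLThree
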