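import Cfsg.Agent.Lib.McLThree.Invol

/-!
The elementary abelian group `J` inside the Sylow 3-subgroup.
-/

set_option autoImplicit false
set_option linter.style.haveILetI false
set_option linter.unusedSectionVars false

namespace Cfsg.Lib.McLThree

open Cfsg.Lib.Recog.Icosa
open Cfsg.Lib.AltEightThree (mem_cent_singleton conj_mem_normalizer mem_normalizer_of_forall
  mem_normalizer_of_cent)

variable {G : Type*} [Group G] [Finite G] (D : Loc G)

namespace Loc

theorem card_M : Nat.card D.M = 29160 := by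
  have h := D.φ.ker.card_mul_index
  have hk : Nat.card D.φ.ker = 81 := by
    rw [← D.J_card]
    refine Nat.card_congr
      { toFun := fun m => ⟨((m : D.M) : G), (D.φ_ker _).1 m.2⟩
        invFun := fun a => ⟨⟨(a : G), D.M_three a (mem_normalizer_of_forall (fun b hb => by
            rw [D.J_comm a a.2 b hb, mul_inv_cancel_right]; exact hb)) 1
            (by simpa using D.J_exp a a.2)⟩, (D.φ_ker _).2 a.2⟩
        left_inv := fun x => rfl
        right_inv := fun x => rfl }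
  rw [hk, Subgroup.index_ker, MonoidHom.range_eq_top.2 D.φ_surj, Subgroup.card_top,
    nat_card_alternatingGroup, Nat.card_fin, show (6 : ℕ).factorial / 2 = 360 from rfl] at h
  exact h.symm

theorem J_le_N : D.J ≤ Subgroup.normalizer (D.J : Set G) := Subgroup.le_normalizer

theorem J_le_M {a : G} (ha : a ∈ D.J) : a ∈ D.M :=
  D.M_three a (D.J_le_N ha) 1 (by simpa using D.J_exp a ha)

theorem cent_J_ker : ∀ m : D.M, (∀ a ∈ D.J, (m : G) * a = a * m) → D.φ m = 1 := by
  set C : Subgroup D.M := (Subgroup.centralizer (D.J : Set G)).subgroupOf D.M with hC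
  have hnorm : C.Normal := by
    refine ⟨fun c hc g => ?_⟩
    rw [hC, Subgroup.mem_subgroupOf, Subgroup.mem_centralizer_iff] at hc ⊢
    intro a ha
    have hg := D.M_norm g.2
    have ha' : (g : G)⁻¹ * a * (g : G) ∈ D.J := by
      have := conj_mem_normalizer (inv_mem hg) ha
      rwa [inv_inv] at this
    have h := hc _ ha'
    push_cast
    calc a * ((g : G) * c * (g : G)⁻¹) = (g : G) * (((g : G)⁻¹ * a * g) * c) * (g : G)⁻¹ := by group
      _ = (g : G) * (c * ((g : G)⁻¹ * a * g)) * (g : G)⁻¹ := by rw [h]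
      _ = (g : G) * c * (g : G)⁻¹ * a := by group
  haveI : IsSimpleGroup ASix := alternatingGroup.isSimpleGroup (by simp)
  haveI := hnorm.map D.φ D.φ_surj
  rcases IsSimpleGroup.eq_bot_or_eq_top_of_normal (C.map D.φ) this with h | h
  · intro m hm
    have hmem : D.φ m ∈ C.map D.φ := ⟨m, by
      show (m : G) ∈ Subgroup.centralizer (D.J : Set G)
      exact Subgroup.mem_centralizer_iff.2 (fun a ha => (hm a ha).symm), rfl⟩
    rw [h] at hmem
    exact hmem
  · exfalso
    have hall : ∀ m : D.M, ∀ a ∈ D.J, (m : G) * a = a * m := by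
      intro m a ha
      obtain ⟨c, hc, hcm⟩ : D.φ m ∈ C.map D.φ := h ▸ Subgroup.mem_top _
      have hj : ((c⁻¹ * m : D.M) : G) ∈ D.J := (D.φ_ker _).1 (by rw [map_mul, map_inv, hcm, inv_mul_cancel])
      have h1 : Commute (c : G) a := (Subgroup.mem_centralizer_iff.1 hc a ha).symm
      have h2 : Commute ((c⁻¹ * m : D.M) : G) a := D.J_comm _ hj a ha
      have h3 := h1.mul_left h2
      push_cast at h3
      rwa [mul_inv_cancel_left] at h3
    haveI : Fact (Nat.Prime 3) := ⟨Nat.prime_three⟩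
    obtain ⟨P⟩ : Nonempty (Sylow 3 D.M) := inferInstance
    have hPc : Nat.card (P : Subgroup D.M) = 729 := by
      rw [P.card_eq_multiplicity, D.card_M, show (29160 : ℕ).factorization 3 = 6 from by
        rw [show (29160 : ℕ) = 3 ^ 6 * 40 from rfl,
          Nat.factorization_mul (by norm_num) (by norm_num), Finsupp.add_apply,
          Nat.Prime.factorization_pow Nat.prime_three, Finsupp.single_eq_same,
          Nat.factorization_eq_zero_of_not_dvd (by norm_num : ¬ 3 ∣ 40)]]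
      norm_num
    set P' : Subgroup G := (P : Subgroup D.M).map D.M.subtype with hP'
    have hP'p : IsPGroup 3 P' := P.isPGroup'.map _
    obtain ⟨T, hT⟩ := hP'p.exists_le_sylow
    have hTeq : P' = T := Subgroup.eq_of_le_of_card_ge hT (by
      rw [hP', Subgroup.card_map_of_injective D.M.subtype_injective, hPc,
        T.card_eq_multiplicity, ← Sylow.card_eq_multiplicity D.S, D.S_card])
    obtain ⟨g, hg⟩ := MulAction.exists_smul_eq G D.S T
    have hTconj : ∀ x : G, x ∈ (T : Subgroup G) ↔ g⁻¹ * x * g ∈ (D.S : Subgroup G) := by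
      intro x
      rw [← hg, Sylow.coe_subgroup_smul, Subgroup.mem_pointwise_smul_iff_inv_smul_mem]
      simp [MulAut.smul_def]
    have hJT : ∀ a ∈ D.J, a ∈ (T : Subgroup G) := by
      intro a ha
      have hnorm : Subgroup.zpowers a ≤ Subgroup.normalizer ((T : Subgroup G) : Set G) := by
        rw [Subgroup.zpowers_le]
        refine mem_normalizer_of_forall (fun x hx => ?_)
        obtain ⟨m, -, rfl⟩ := (hTeq ▸ hx : x ∈ P')
        rw [Subgroup.coe_subtype, ← hall m a ha, mul_inv_cancel_right]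
        exact hx
      have hz : IsPGroup 3 (Subgroup.zpowers a) := isPGroup_of_forall_pow (k := 1) (fun x hx => by
        obtain ⟨i, rfl⟩ := hx
        rw [pow_one, ← zpow_natCast, ← zpow_mul, mul_comm, zpow_mul, zpow_natCast, D.J_exp a ha,
          one_zpow])
      have := T.is_maximal' (hz.to_sup_of_normal_right' T.isPGroup' hnorm) le_sup_right
      rw [← this]
      exact (le_sup_left : _ ≤ Subgroup.zpowers a ⊔ (T : Subgroup G)) (Subgroup.mem_zpowers a)
    have hle : ∀ a ∈ D.J, g⁻¹ * a * g ∈ Subgroup.zpowers D.z := by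
      intro a ha
      refine D.S_centre _ ((hTconj a).1 (hJT a ha)) (fun r hr => ?_)
      have hrT : g * r * g⁻¹ ∈ (T : Subgroup G) := (hTconj _).2 (by simpa [mul_assoc] using hr)
      obtain ⟨m, -, hm⟩ := (hTeq ▸ hrT : g * r * g⁻¹ ∈ P')
      have h2 : (g * r * g⁻¹) * a = a * (g * r * g⁻¹) := by rw [← hm]; exact hall m a ha
      calc g⁻¹ * a * g * r = g⁻¹ * (a * (g * r * g⁻¹)) * g := by group
        _ = g⁻¹ * ((g * r * g⁻¹) * a) * g := by rw [h2]
        _ = r * (g⁻¹ * a * g) := by group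
    have hc := Nat.card_le_card_of_injective
      (fun a : D.J => (⟨_, hle a a.2⟩ : Subgroup.zpowers D.z))
      (fun a b e => Subtype.ext (by
        have := congrArg Subtype.val e
        simpa using this))
    rw [D.J_card, D.card_zpow] at hc
    norm_num at hc

theorem three_cent_J {g : G} (hg : ∀ a ∈ D.J, g * a = a * g) {k : ℕ} (hk : g ^ 3 ^ k = 1) :
    g ∈ D.J := by
  have hN : g ∈ Subgroup.normalizer (D.J : Set G) :=
    mem_normalizer_of_forall (fun a ha => by rw [hg a ha, mul_inv_cancel_right]; exact ha)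
  have hM := D.M_three g hN k hk
  exact (D.φ_ker ⟨g, hM⟩).1 (D.cent_J_ker ⟨g, hM⟩ hg)

theorem z_J : D.z ∈ D.J :=
  D.three_cent_J (fun a ha => (D.z_S a (D.J_le ha)).symm) (k := 1) (by simpa using D.z_exp)

/-- `Q ∩ J`. -/
def A : Subgroup G := D.Q ⊓ D.J

theorem z_A : D.z ∈ D.A := ⟨D.z_mem, D.z_J⟩

theorem relIndex_Q_S : D.Q.relIndex (D.S : Subgroup G) = 3 := by
  have := card_mul_relIndex D.Q_le
  rw [D.Q_card, D.S_card] at this
  omega

theorem card_inf_Q {W : Subgroup G} (hW : W ≤ (D.S : Subgroup G))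
    (hc : ∀ a ∈ W, ∀ b ∈ W, a * b = b * a) (hcard : Nat.card W = 81) :
    Nat.card ↥(D.Q ⊓ W) = 27 ∧ ∃ x ∈ W, x ∉ D.Q := by
  have h1 := card_mul_relIndex (inf_le_right : D.Q ⊓ W ≤ W)
  rw [Subgroup.inf_relIndex_right, hcard] at h1
  have h2 : D.Q.relIndex W ≤ D.Q.relIndex (D.S : Subgroup G) :=
    Subgroup.relIndex_le_of_le_right hW Subgroup.index_ne_zero_of_finite
  rw [D.relIndex_Q_S] at h2
  have h3 := D.abelian_Q_small (inf_le_left : D.Q ⊓ W ≤ D.Q) (fun a ha b hb => hc a ha.2 b hb.2)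
  have h4 : D.Q.relIndex W ≠ 0 := Subgroup.index_ne_zero_of_finite
  refine ⟨?_, ?_⟩
  · have : Nat.card ↥(D.Q ⊓ W) * D.Q.relIndex W ≤ Nat.card ↥(D.Q ⊓ W) * 3 :=
      Nat.mul_le_mul_left _ h2
    omega
  · by_contra hno
    push Not at hno
    have := D.abelian_Q_small (hno : W ≤ D.Q) hc
    omega

theorem card_A : Nat.card D.A = 27 := (D.card_inf_Q D.J_le D.J_comm D.J_card).1

theorem exists_sigma : ∃ x ∈ D.J, x ∉ D.Q := (D.card_inf_Q D.J_le D.J_comm D.J_card).2

theorem S_decomp {s σ : G} (hs : s ∈ (D.S : Subgroup G)) (hσ : σ ∈ (D.S : Subgroup G))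
    (hσQ : σ ∉ D.Q) : ∃ i : ℕ, i < 3 ∧ ∃ c ∈ D.Q, s = σ ^ i * c := by
  set N := D.Q.subgroupOf (D.S : Subgroup G) with hN
  haveI hnorm : N.Normal := ⟨fun q hq g => by
    rw [hN, Subgroup.mem_subgroupOf] at hq ⊢
    push_cast
    exact D.Q_conj (D.z_S g g.2) hq⟩
  have hcard : Nat.card ((D.S : Subgroup G) ⧸ N) = 3 := by
    rw [← Subgroup.index_eq_card]
    exact D.relIndex_Q_S
  haveI : Fact (Nat.Prime 3) := ⟨Nat.prime_three⟩
  have hne : ((⟨σ, hσ⟩ : (D.S : Subgroup G)) : (D.S : Subgroup G) ⧸ N) ≠ 1 := by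
    rw [ne_eq, QuotientGroup.eq_one_iff, hN, Subgroup.mem_subgroupOf]
    exact hσQ
  obtain ⟨i, hi⟩ := mem_powers_iff_mem_zpowers.2
    (mem_zpowers_of_prime_card hcard hne (g' := ((⟨s, hs⟩ : (D.S : Subgroup G)) :
      (D.S : Subgroup G) ⧸ N)))
  have hi' : ((⟨σ, hσ⟩ : (D.S : Subgroup G)) : (D.S : Subgroup G) ⧸ N) ^ (i % 3) =
      ((⟨s, hs⟩ : (D.S : Subgroup G)) : (D.S : Subgroup G) ⧸ N) := by
    rw [← hi]
    conv_rhs => rw [show i = i % 3 + 3 * (i / 3) from (Nat.mod_add_div i 3).symm]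
    simp only [pow_add, pow_mul]
    have h3 := pow_card_eq_one' (x := ((⟨σ, hσ⟩ : (D.S : Subgroup G)) : (D.S : Subgroup G) ⧸ N))
    rw [hcard] at h3
    rw [h3, one_pow, mul_one]
  refine ⟨i % 3, Nat.mod_lt _ (by norm_num), (σ ^ (i % 3))⁻¹ * s, ?_, by group⟩
  have h' := hi'
  rw [← QuotientGroup.mk_pow, QuotientGroup.eq] at h'
  exact h'

theorem fix_eq_A {s : G} (hs : s ∈ (D.S : Subgroup G)) (hsQ : s ∉ D.Q) :
    D.fixQ s (D.z_S s hs) = D.A := by
  symm
  apply Subgroup.eq_of_le_of_card_ge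
  · intro a ha
    obtain ⟨σ, hσJ, hσQ⟩ := D.exists_sigma
    obtain ⟨i, -, c, hc, rfl⟩ := D.S_decomp hs (D.J_le hσJ) hσQ
    refine ⟨ha.1, ?_⟩
    have h1 : D.Triv (σ ^ i) a := by
      have : σ ^ i * a = a * σ ^ i := D.J_comm _ (pow_mem hσJ i) a ha.2
      simp [Triv, this]
    exact (D.triv_mul (D.z_S _ (D.J_le (pow_mem hσJ i))) h1 (D.triv_Q hc ha.1)).1
  · rw [D.card_A]; exact D.fix_small hs hsQ

theorem cQ_A {q : G} (hq : q ∈ D.Q) (h : ∀ a ∈ D.A, q * a = a * q) : q ∈ D.A := by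
  set W := Subgroup.closure (insert q (D.A : Set G)) with hW
  have hgen : ∀ a ∈ insert q (D.A : Set G), ∀ b ∈ insert q (D.A : Set G), a * b = b * a := by
    rintro a (rfl | ha) b (rfl | hb)
    · rfl
    · exact h b hb
    · exact (h a ha).symm
    · exact D.J_comm a ha.2 b hb.2
  have h1 : W ≤ Subgroup.centralizer (insert q (D.A : Set G)) := by
    rw [hW, Subgroup.closure_le]
    intro a ha
    exact Subgroup.mem_centralizer_iff.2 (fun b hb => hgen b hb a ha)
  have h2 : W ≤ Subgroup.centralizer (W : Set G) := by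
    intro w hw
    rw [hW, Subgroup.centralizer_closure]
    exact h1 hw
  have hWQ : W ≤ D.Q := by
    rw [hW, Subgroup.closure_le]
    rintro a (rfl | ha)
    · exact hq
    · exact ha.1
  have hle : D.A ≤ W := fun a ha => Subgroup.subset_closure (Set.mem_insert_of_mem _ ha)
  have heq : D.A = W := Subgroup.eq_of_le_of_card_ge hle (by
    rw [D.card_A]
    exact D.abelian_Q_small hWQ (fun a ha b hb => (Subgroup.mem_centralizer_iff.1 (h2 hb) a ha)))
  rw [heq]
  exact Subgroup.subset_closure (Set.mem_insert _ _)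

theorem J_unique_S {W : Subgroup G} (hW : W ≤ (D.S : Subgroup G))
    (hc : ∀ a ∈ W, ∀ b ∈ W, a * b = b * a) (hcard : Nat.card W = 81) : W = D.J := by
  obtain ⟨hA', x, hxW, hxQ⟩ := D.card_inf_Q hW hc hcard
  have heq : D.Q ⊓ W = D.A := by
    apply Subgroup.eq_of_le_of_card_ge _ (by rw [D.card_A, hA'])
    intro a ha
    rw [← D.fix_eq_A (hW hxW) hxQ]
    exact ⟨ha.1, by simp [Triv, hc x hxW a ha.2]⟩
  apply Subgroup.eq_of_le_of_card_ge _ (by rw [hcard, D.J_card])
  intro w hw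
  obtain ⟨σ, hσJ, hσQ⟩ := D.exists_sigma
  obtain ⟨i, -, c, hcQ, rfl⟩ := D.S_decomp (hW hw) (D.J_le hσJ) hσQ
  refine mul_mem (pow_mem hσJ i) ?_
  refine (D.cQ_A hcQ (fun a ha => ?_)).2
  have haW : a ∈ W := (heq ▸ ha : a ∈ D.Q ⊓ W).2
  have h1 : Commute (σ ^ i * c) a := hc _ hw a haW
  have h2 : Commute (σ ^ i) a := D.J_comm _ (pow_mem hσJ i) a ha.2
  have h3 := (Commute.inv_left h2).mul_left h1
  rwa [inv_mul_cancel_left] at h3

theorem norm_J_of_conj {g : G} (h : ∀ a ∈ D.J, g * a * g⁻¹ ∈ (D.S : Subgroup G)) :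
    g ∈ Subgroup.normalizer (D.J : Set G) := by
  apply mem_normalizer_of_forall
  have heq := D.J_unique_S (W := D.J.map (MulAut.conj g).toMonoidHom)
    (by rintro w ⟨a, ha, rfl⟩; exact h a ha)
    (by
      rintro a ⟨a', ha, rfl⟩ b ⟨b', hb, rfl⟩
      rw [← map_mul, ← map_mul, D.J_comm a' ha b' hb])
    (by rw [Subgroup.card_map_of_injective (MulAut.conj g).injective, D.J_card])
  intro a ha
  exact heq ▸ (⟨a, ha, rfl⟩ : g * a * g⁻¹ ∈ D.J.map (MulAut.conj g).toMonoidHom)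

theorem S_norm {s : G} (hs : s ∈ (D.S : Subgroup G)) : s ∈ Subgroup.normalizer (D.J : Set G) :=
  D.norm_J_of_conj (fun a ha => mul_mem (mul_mem hs (D.J_le ha)) (inv_mem hs))

theorem S_le_M {s : G} (hs : s ∈ (D.S : Subgroup G)) : s ∈ D.M := by
  obtain ⟨k, hk⟩ := three_pow D.S.isPGroup' hs
  exact D.M_three s (D.S_norm hs) k hk

/-- Every 3-subgroup containing `J` normalises it. -/
theorem three_norm {P : Subgroup G} (hP : IsPGroup 3 P) (hJP : D.J ≤ P) :
    P ≤ Subgroup.normalizer (D.J : Set G) := by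
  haveI : Fact (Nat.Prime 3) := ⟨Nat.prime_three⟩
  obtain ⟨T, hT⟩ := hP.exists_le_sylow
  obtain ⟨g, hg⟩ := MulAction.exists_smul_eq G D.S T
  have hTconj : ∀ x : G, x ∈ (T : Subgroup G) ↔ g⁻¹ * x * g ∈ (D.S : Subgroup G) := by
    intro x
    rw [← hg, Sylow.coe_subgroup_smul, Subgroup.mem_pointwise_smul_iff_inv_smul_mem]
    simp [MulAut.smul_def]
  have hgN : g⁻¹ ∈ Subgroup.normalizer (D.J : Set G) := D.norm_J_of_conj (fun a ha => by
    rw [inv_inv]
    exact (hTconj a).1 (hT (hJP ha)))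
  intro p hp
  have hs := D.S_norm ((hTconj p).1 (hT hp))
  have := mul_mem (mul_mem (inv_mem hgN) hs) hgN
  simpa [mul_assoc] using this

theorem cent_J {g : G} (hg : ∀ a ∈ D.J, g * a = a * g) : g ∈ D.J := by
  obtain ⟨k, n, hn, hgn⟩ := exists_pow_prime_to 3 Nat.prime_three g
  set x := g ^ 3 ^ k with hx
  have hxc : ∀ a ∈ D.J, x * a = a * x := fun a ha => (Commute.pow_left (hg a ha) _).eq
  have hxz : x * D.z = D.z * x := hxc _ D.z_J
  have hxQ : x ∈ D.Q := by
    apply D.Q_cent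
    intro q hq
    have hq' : x * q * x⁻¹ ∈ D.Q := D.Q_conj hxz hq
    have hA : q⁻¹ * (x * q * x⁻¹) ∈ D.A := by
      refine D.cQ_A (mul_mem (inv_mem hq) hq') (fun a ha => ?_)
      have h1 : Commute x a := hxc a ha.2
      have hcom := D.zpow_conj_eq hxz (D.triv_Q hq ha.1)
      have e1 : x * (q * a * q⁻¹ * a⁻¹) * x⁻¹ = (x * q * x⁻¹) * a * (x * q * x⁻¹)⁻¹ * a⁻¹ := by
        calc x * (q * a * q⁻¹ * a⁻¹) * x⁻¹
            = (x * q * x⁻¹) * (x * a * x⁻¹) * (x * q * x⁻¹)⁻¹ * (x * a * x⁻¹)⁻¹ := by group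
          _ = _ := by rw [h1.eq, mul_inv_cancel_right]
      rw [e1] at hcom
      have e2 : (x * q * x⁻¹) * a * (x * q * x⁻¹)⁻¹ = q * a * q⁻¹ := mul_right_cancel hcom
      calc q⁻¹ * (x * q * x⁻¹) * a
          = q⁻¹ * ((x * q * x⁻¹) * a * (x * q * x⁻¹)⁻¹) * (x * q * x⁻¹) := by group
        _ = a * (q⁻¹ * (x * q * x⁻¹)) := by rw [e2]; group
    set a := q⁻¹ * (x * q * x⁻¹) with ha
    have hxa : x * a = a * x := hxc a hA.2
    have hiter : ∀ m : ℕ, x ^ m * q * (x ^ m)⁻¹ = q * a ^ m := by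
      intro m
      induction m with
      | zero => simp
      | succ m ih =>
        calc x ^ (m + 1) * q * (x ^ (m + 1))⁻¹ = x * (x ^ m * q * (x ^ m)⁻¹) * x⁻¹ := by
              rw [pow_succ']; group
          _ = x * (q * a ^ m) * x⁻¹ := by rw [ih]
          _ = x * q * x⁻¹ * (x * a ^ m * x⁻¹) := by group
          _ = q * a * a ^ m := by
            rw [(Commute.pow_right hxa m).eq, mul_inv_cancel_right, ha, mul_inv_cancel_left]
          _ = q * a ^ (m + 1) := by rw [pow_succ', mul_assoc]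
    have h2 := hiter n
    rw [hgn] at h2
    simp only [one_mul, inv_one, mul_one] at h2
    have ha1 : a = 1 := eq_one_of_pow_coprime (mul_eq_left.1 h2.symm) (D.Q_exp a hA.1) hn
    have h4 : x * q * x⁻¹ = q := (inv_mul_eq_one.1 ha1).symm
    exact mul_inv_eq_iff_eq_mul.1 h4
  have hx1 : x = 1 := eq_one_of_pow_coprime hgn (D.Q_exp x hxQ) hn
  exact D.three_cent_J hg (k := k) hx1

end Loc

end Cfsg.Lib.McLThree
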