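import Cfsg.Agent.Lib.McLThree.Tools

/-!
Counting the fixed elements of an element of prime order acting by conjugation on a set.
-/

set_option autoImplicit false
set_option linter.style.haveILetI false

namespace Cfsg.Lib.McLThree

variable {G : Type*} [Group G]

theorem card_fixed_modEq [Finite G] {p : ℕ} (hp : p.Prime) (X : Set G) (d : G) (hd : d ^ p = 1)
    (hinv : ∀ x ∈ X, d * x * d⁻¹ ∈ X) :
    Nat.card X ≡ Nat.card {x : G | x ∈ X ∧ d * x = x * d} [MOD p] := by
  haveI : Fact p.Prime := ⟨hp⟩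
  have hpow : ∀ k : ℕ, ∀ x ∈ X, d ^ k * x * (d ^ k)⁻¹ ∈ X := by
    intro k
    induction k with
    | zero => intro x hx; simpa using hx
    | succ k ih =>
      intro x hx
      rw [pow_succ', ← conj_conj]
      exact hinv _ (ih x hx)
  have hz : ∀ e : ↥(Subgroup.zpowers d), ∀ x ∈ X, (e : G) * x * (e : G)⁻¹ ∈ X := by
    intro e x hx
    obtain ⟨k, hk⟩ := mem_powers_iff_mem_zpowers.2 e.2
    simp only at hk
    rw [← hk]
    exact hpow k x hx
  let act : MulAction ↥(Subgroup.zpowers d) X :=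
    { smul := fun k x => ⟨(k : G) * x * (k : G)⁻¹, hz k x x.2⟩
      one_smul := fun x => Subtype.ext (by show (1 : G) * x * (1 : G)⁻¹ = x; group)
      mul_smul := fun a b x => Subtype.ext (by
        show ((a * b : ↥(Subgroup.zpowers d)) : G) * x * ((a * b : ↥(Subgroup.zpowers d)) : G)⁻¹
          = a * (b * x * (b : G)⁻¹) * (a : G)⁻¹
        push_cast
        group) }
  letI := act
  have hpg : IsPGroup p ↥(Subgroup.zpowers d) := isPGroup_of_forall_pow (k := 1) (fun x hx => by
    obtain ⟨i, rfl⟩ := hx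
    rw [pow_one, ← zpow_natCast, ← zpow_mul, mul_comm, zpow_mul, zpow_natCast, hd, one_zpow])
  refine (hpg.card_modEq_card_fixedPoints (α := X)).trans (Eq.subst ?_ (Nat.ModEq.refl _))
  refine Nat.card_congr
    { toFun := fun x => ⟨(x.1 : G), x.1.2, ?_⟩
      invFun := fun x => ⟨⟨(x : G), x.2.1⟩, fun k => Subtype.ext ?_⟩
      left_inv := fun x => rfl
      right_inv := fun x => rfl }
  · have h := congrArg Subtype.val (x.2 ⟨d, Subgroup.mem_zpowers d⟩)
    change d * (x.1 : G) * d⁻¹ = x.1 at h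
    exact mul_inv_eq_iff_eq_mul.1 h
  · have hc : Commute d (x : G) := x.2.2
    obtain ⟨i, hi⟩ := k.2
    show (k : G) * (x : G) * (k : G)⁻¹ = x
    rw [← hi]
    show d ^ i * (x : G) * (d ^ i)⁻¹ = x
    rw [(hc.zpow_left i).eq, mul_inv_cancel_right]

end Cfsg.Lib.McLThree
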