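import Cfsg.Agent.Lib.McLThree.FixGroup
import Cfsg.Agent.Lib.McLThree.Orbit

/-!
An element of `C(z, t)` inducing the identity on `L/Q` lies in `⟨z, t⟩`.
-/

set_option autoImplicit false
set_option linter.style.haveILetI false
set_option linter.unusedSectionVars false

namespace Cfsg.Lib.McLThree

open Cfsg.Lib.Recog.Icosa
open Cfsg.Lib.AltEightThree (mem_cent_singleton conj_mem_normalizer mem_normalizer_of_forall
  mem_normalizer_of_cent)

variable {G : Type*} [Group G] [Finite G]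

namespace Loc

variable (D : Loc G)

/-- The elements of `Q` fixed by `g` modulo the centre. -/
def fixW (g : G) : Subgroup G where
  carrier := {q | q ∈ D.Q ∧ D.Triv g q}
  one_mem' := ⟨one_mem _, by simp [Triv]⟩
  mul_mem' := fun {a b} ha hb => ⟨mul_mem ha.1 hb.1, D.triv_right_mul ha.2 hb.2 ha.1⟩
  inv_mem' := fun {a} ha => ⟨inv_mem ha.1, by
    have hc := D.zpow_comm_z (inv_mem ha.2) a⁻¹ ((Commute.inv_left (D.Q_z ha.1)).eq)
    show g * a⁻¹ * g⁻¹ * a⁻¹⁻¹ ∈ Subgroup.zpowers D.z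
    have e : g * a⁻¹ * g⁻¹ * a⁻¹⁻¹ = (g * a * g⁻¹ * a⁻¹)⁻¹ := by
      calc g * a⁻¹ * g⁻¹ * a⁻¹⁻¹ = a⁻¹ * (g * a * g⁻¹ * a⁻¹)⁻¹ * a := by group
        _ = _ := by rw [hc, inv_mul_cancel_right]
    rw [e]
    exact inv_mem ha.2⟩

/-- `g` induces the identity on `L/Q`. -/
def Inner1 (g : G) : Prop :=
  ∀ l : D.L, ∀ h : g * (l : G) * g⁻¹ ∈ D.L, D.ψ ⟨g * (l : G) * g⁻¹, h⟩ = D.ψ l

theorem inner1_pow {g : G} (hg : g ∈ Subgroup.normalizer (Subgroup.zpowers D.z : Set G))
    (h : D.Inner1 g) (n : ℕ) : D.Inner1 (g ^ n) := by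
  induction n with
  | zero =>
    intro l hl
    congr 1
    exact Subtype.ext (by simp)
  | succ n ih =>
    intro l hl
    have h1 : g ^ n * (l : G) * (g ^ n)⁻¹ ∈ D.L := D.L_conj _ (pow_mem hg n) _ l.2
    have e : g ^ (n + 1) * (l : G) * (g ^ (n + 1))⁻¹ = g * (g ^ n * (l : G) * (g ^ n)⁻¹) * g⁻¹ := by
      rw [pow_succ']; group
    have h2 := h ⟨_, h1⟩ (D.L_conj g hg _ h1)
    rw [ih l h1] at h2
    rw [← h2]
    congr 1
    exact Subtype.ext e

theorem inner1_comm {g d : G} (hg : g ∈ Subgroup.normalizer (Subgroup.zpowers D.z : Set G))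
    (h : D.Inner1 g) (hd : d ∈ D.L) : d⁻¹ * g * d * g⁻¹ ∈ D.Q := by
  have h1 := D.L_conj g hg d hd
  have h2 := h ⟨d, hd⟩ h1
  have hmem : d⁻¹ * (g * d * g⁻¹) ∈ D.L := mul_mem (inv_mem hd) h1
  have h3 : D.ψ ⟨d⁻¹ * (g * d * g⁻¹), hmem⟩ = 1 := by
    rw [show (⟨d⁻¹ * (g * d * g⁻¹), hmem⟩ : D.L) = (⟨d, hd⟩ : D.L)⁻¹ * ⟨g * d * g⁻¹, h1⟩ from rfl,
      map_mul, map_inv, h2, inv_mul_cancel]
  have h4 := (D.ψ_ker _).1 h3
  simpa [mul_assoc] using h4

/-- For `g` inducing the identity on `L/Q`, the group `fixW g` is `Q` or lies in the centre. -/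
theorem inner1_fix {g : G} (hg : g ∈ Subgroup.normalizer (Subgroup.zpowers D.z : Set G))
    (h : D.Inner1 g) (hzt : D.Triv g D.z) :
    (∀ q ∈ D.Q, D.Triv g q) ∨ ∀ q ∈ D.Q, D.Triv g q → q ∈ Subgroup.zpowers D.z := by
  obtain ⟨d, hdL, hdz, hd5, hdQ⟩ := D.exists_d
  have hinv : ∀ w ∈ D.fixW g, d * w * d⁻¹ ∈ D.fixW g := by
    intro w hw
    refine ⟨D.Q_conj hdz hw.1, ?_⟩
    set q0 := d⁻¹ * g * d * g⁻¹ with hq0
    have hq0Q : q0 ∈ D.Q := D.inner1_comm hg h hdL
    have hgw : g * w * g⁻¹ ∈ D.Q := D.Q_norm g hg w hw.1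
    have e : g * (d * w * d⁻¹) * g⁻¹ * (d * w * d⁻¹)⁻¹ =
        d * ((q0 * (g * w * g⁻¹) * q0⁻¹ * (g * w * g⁻¹)⁻¹) * (g * w * g⁻¹ * w⁻¹)) * d⁻¹ := by
      rw [hq0]; group
    have hmem := mul_mem (D.Q_comm q0 hq0Q _ hgw) hw.2
    show _ ∈ Subgroup.zpowers D.z
    rw [e, D.zpow_conj_eq hdz hmem]
    exact hmem
  rcases D.d_invariant hdz hd5 hdQ (D.fixW g) (fun _ hw => hw.1) ⟨D.z_mem, hzt⟩ hinv with hW | hW
  · left
    intro q hq
    rw [← hW] at hq
    exact hq.2
  · exact Or.inr (fun q hq ht => hW ⟨hq, ht⟩)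

/-- If moreover `g * g` centralises `Q` modulo the centre and the first case fails, `g` inverts
`Q` modulo the centre. -/
theorem inner1_inverts {g : G} (hg : g ∈ Subgroup.normalizer (Subgroup.zpowers D.z : Set G))
    (hfix : ∀ q ∈ D.Q, D.Triv g q → q ∈ Subgroup.zpowers D.z) (hg2 : g * g = 1) {q : G}
    (hq : q ∈ D.Q) : q * (g * q * g⁻¹) ∈ Subgroup.zpowers D.z := by
  have hq' : g * q * g⁻¹ ∈ D.Q := D.Q_norm g hg q hq
  refine hfix _ (mul_mem hq hq') ?_
  have e : g * (q * (g * q * g⁻¹)) * g⁻¹ * (q * (g * q * g⁻¹))⁻¹ =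
      (g * q * g⁻¹) * ((g * g) * q * (g * g)⁻¹) * (g * q * g⁻¹)⁻¹ * q⁻¹ := by group
  show _ ∈ Subgroup.zpowers D.z
  rw [e, hg2, one_mul, inv_one, mul_one]
  exact D.Q_comm _ hq' _ hq

end Loc

namespace LocH

variable (H : LocH G)

theorem inner1_zz {g : G} (hg : g * H.z = H.z * g) (h : H.toLoc.Inner1 g) :
    ∀ a ∈ H.toLoc.A, g * a * g⁻¹ ∈ H.toLoc.A := by
  intro a ha
  have hN := H.toLoc.cent_norm hg
  have h1 := H.toLoc.inner1_comm hN h H.zz_L
  have hgzzS : g * H.zz * g⁻¹ ∈ (H.S : Subgroup G) := by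
    have h2 := mul_mem (H.J_le H.zz_J) (H.Q_le h1)
    have e : H.zz * (H.zz⁻¹ * g * H.zz * g⁻¹) = g * H.zz * g⁻¹ := by group
    rwa [e] at h2
  have hgzzQ : g * H.zz * g⁻¹ ∉ H.Q := by
    intro hq
    have h2 := H.toLoc.Q_conj (Commute.inv_left hg).eq hq
    have e : g⁻¹ * (g * H.zz * g⁻¹) * g⁻¹⁻¹ = H.zz := by group
    exact H.zz_not_Q (e ▸ h2)
  have hat : H.toLoc.Triv H.zz a := by
    rw [← H.toLoc.fix_eq_A (H.J_le H.zz_J) H.zz_not_Q] at ha
    exact ha.2
  rw [← H.toLoc.fix_eq_A hgzzS hgzzQ]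
  refine ⟨H.toLoc.Q_conj hg ha.1, ?_⟩
  show (g * H.zz * g⁻¹) * (g * a * g⁻¹) * (g * H.zz * g⁻¹)⁻¹ * (g * a * g⁻¹)⁻¹ ∈
    Subgroup.zpowers H.z
  have e : (g * H.zz * g⁻¹) * (g * a * g⁻¹) * (g * H.zz * g⁻¹)⁻¹ * (g * a * g⁻¹)⁻¹ =
      g * (H.zz * a * H.zz⁻¹ * a⁻¹) * g⁻¹ := by group
  rw [e, H.toLoc.zpow_conj_eq hg hat]
  exact hat

theorem inner1_prime {g : G} (hg : g * H.z = H.z * g) (h : H.toLoc.Inner1 g) {p : ℕ} (hp : p.Prime)
    (hp5 : 5 ≤ p) (hgp : g ^ p = 1) : g = 1 := by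
  have hN := H.toLoc.cent_norm hg
  have hAinv : ∀ x ∈ (H.toLoc.A : Set G), g * x * g⁻¹ ∈ (H.toLoc.A : Set G) := H.inner1_zz hg h
  have hmod := card_fixed_modEq hp _ g hgp hAinv
  set C := H.toLoc.A ⊓ Subgroup.centralizer ({g} : Set G) with hC
  have hcard : Nat.card {x : G | x ∈ (H.toLoc.A : Set G) ∧ g * x = x * g} = Nat.card C := by
    refine Nat.card_congr (Equiv.setCongr ?_)
    ext x
    simp only [Set.mem_ofPred_eq, SetLike.mem_coe, hC, Subgroup.mem_inf]
    rw [mem_cent_singleton]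
    exact and_congr_right (fun _ => eq_comm)
  rw [hcard, show Nat.card (H.toLoc.A : Set G) = 27 from H.toLoc.card_A] at hmod
  have hzC : H.z ∈ C := ⟨H.toLoc.z_A, mem_cent_singleton.2 hg.symm⟩
  obtain ⟨k, hk, hk'⟩ := (Nat.dvd_prime_pow Nat.prime_three (m := 3)).1
    (show Nat.card C ∣ 3 ^ 3 by
      have := Subgroup.card_dvd_of_le (inf_le_left : C ≤ H.toLoc.A)
      rwa [H.toLoc.card_A] at this)
  have hk1 : k ≠ 0 := by
    rintro rfl
    have h3 := Subgroup.card_dvd_of_le (Subgroup.zpowers_le.2 hzC)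
    rw [H.toLoc.card_zpow, hk'] at h3
    norm_num at h3
  have hk3 : k = 3 := by
    rw [hk'] at hmod
    interval_cases k
    · exact absurd rfl hk1
    · exfalso
      have h2 : p ∣ 27 - 3 ^ 1 := (Nat.modEq_iff_dvd' (by norm_num)).1 hmod.symm
      have h4 : p ∣ 24 := by simpa using h2
      have := Nat.le_of_dvd (by norm_num) h4
      interval_cases p <;> first | omega | norm_num at hp
    · exfalso
      have h2 : p ∣ 27 - 3 ^ 2 := (Nat.modEq_iff_dvd' (by norm_num)).1 hmod.symm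
      have h4 : p ∣ 18 := by simpa using h2
      have := Nat.le_of_dvd (by norm_num) h4
      interval_cases p <;> first | omega | norm_num at hp
    · rfl
  have hCA : C = H.toLoc.A := Subgroup.eq_of_le_of_card_ge inf_le_left
    (by rw [hk', hk3, H.toLoc.card_A]; norm_num)
  rcases H.toLoc.inner1_fix hN h (by simp [Loc.Triv, hg]) with hall | hle
  · have hgQ := H.toLoc.mem_Q_of_triv hg hall
    exact eq_one_of_pow_coprime hgp (H.Q_exp g hgQ) ((Nat.coprime_primes hp Nat.prime_three).2 (by omega))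
  · exfalso
    have hAle : H.toLoc.A ≤ Subgroup.zpowers H.z := fun a ha => by
      refine hle a ha.1 ?_
      have hc : g * a = a * g := (mem_cent_singleton.1 (hCA.symm ▸ ha : a ∈ C).2).symm
      simp [Loc.Triv, hc]
    have := Subgroup.card_dvd_of_le hAle
    rw [H.toLoc.card_A, H.toLoc.card_zpow] at this
    norm_num at this

theorem inner1_involution {g : G} (hg : g * H.z = H.z * g) (hgt : g * H.t = H.t * g)
    (h : H.toLoc.Inner1 g) (hg2 : g * g = 1) : g = 1 ∨ g = H.t := by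
  have hN := H.toLoc.cent_norm hg
  have hgi : g⁻¹ = g := inv_eq_of_mul_eq_one_right hg2
  rcases H.toLoc.inner1_fix hN h (by simp [Loc.Triv, hg]) with hall | hle
  · left
    exact eq_one_of_pow_coprime (by rw [pow_two, hg2] : g ^ 2 = 1)
      (H.Q_exp g (H.toLoc.mem_Q_of_triv hg hall)) (by norm_num)
  · right
    have htriv : ∀ q ∈ H.Q, H.toLoc.Triv (H.t * g) q := by
      intro q hq
      have h1 := H.toLoc.inner1_inverts hN hle hg2 hq
      have hgq := H.toLoc.Q_conj hg hq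
      have h2 := H.toLocT.t_inverts hgq
      set u := g * q * g⁻¹ with hu
      show H.t * g * q * (H.t * g)⁻¹ * q⁻¹ ∈ Subgroup.zpowers H.z
      have e : H.t * g * q * (H.t * g)⁻¹ * q⁻¹ = u⁻¹ * (u * (H.t * u * H.t)) * u * (q * u)⁻¹ := by
        rw [hu]
        nth_rewrite 1 [mul_inv_rev, H.toLocT.t_inv]
        group
      rw [e]
      have h3 := H.toLoc.zpow_comm_z h2 u⁻¹ ((Commute.inv_left (H.toLoc.Q_z hgq)).eq)
      rw [h3, inv_mul_cancel_right]
      exact mul_mem h2 (inv_mem h1)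
    have hc : Commute H.t g := (show Commute g H.t from hgt).symm
    have htg : (H.t * g) * H.z = H.z * (H.t * g) :=
      (Commute.mul_left H.toLocT.t_z (show Commute g H.z from hg)).eq
    have hQ := H.toLoc.mem_Q_of_triv htg htriv
    have h6 : (H.t * g) ^ 2 = 1 := by rw [hc.mul_pow, pow_two, pow_two, H.t_sq, hg2, one_mul]
    have := eq_one_of_pow_coprime h6 (H.Q_exp _ hQ) (by norm_num)
    rw [mul_eq_one_iff_inv_eq, H.toLocT.t_inv] at this
    exact this.symm

open Classical in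
theorem inner1_four {c : G} (hc : c * H.z = H.z * c) (h : H.toLoc.Inner1 c)
    (hc2 : c * c = H.t) : False := by
  have hN := H.toLoc.cent_norm hc
  have hct : Commute c H.t := by rw [← hc2]; exact (Commute.refl c).mul_right (Commute.refl c)
  haveI := Fintype.ofFinite G
  -- the form `u ↦ ⁅u, c u c⁻¹⁆`
  let br : G → G → G := fun a b => a * b * a⁻¹ * b⁻¹
  have hbr : ∀ a ∈ H.Q, ∀ b ∈ H.Q, br a b ∈ Subgroup.zpowers H.z := H.Q_comm
  have brl : ∀ a ∈ H.Q, ∀ b ∈ H.Q, ∀ x ∈ H.Q, br (a * b) x = br a x * br b x := by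
    intro a ha b hb x hx
    have h1 := H.toLoc.zpow_comm_z (hbr b hb x hx) a (H.toLoc.Q_z ha)
    have h2 := H.toLoc.zpow_comm_z (hbr b hb x hx) (x * a⁻¹ * x⁻¹)
      ((H.toLoc.Q_z (mul_mem (mul_mem hx (inv_mem ha)) (inv_mem hx))))
    calc br (a * b) x = a * br b x * (x * a⁻¹ * x⁻¹) := by show _ = _; simp only [br]; group
      _ = a * ((x * a⁻¹ * x⁻¹) * br b x) := by rw [mul_assoc, h2]
      _ = br a x * br b x := by simp only [br]; group
  have brr : ∀ a ∈ H.Q, ∀ b ∈ H.Q, ∀ x ∈ H.Q, br x (a * b) = br x a * br x b := by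
    intro a ha b hb x hx
    have h1 := H.toLoc.zpow_comm_z (hbr x hx b hb) a⁻¹ (Commute.inv_left (H.toLoc.Q_z ha)).eq
    calc br x (a * b) = x * a * x⁻¹ * (br x b * a⁻¹) := by simp only [br]; group
      _ = x * a * x⁻¹ * (a⁻¹ * br x b) := by rw [h1]
      _ = br x a * br x b := by simp only [br]; group
  have brinv : ∀ a b : G, (br a b)⁻¹ = br b a := fun a b => by simp only [br]; group
  have brz : ∀ a ∈ H.Q, ∀ b ∈ H.Q, ∀ w ∈ Subgroup.zpowers H.z,
      br a (b * w) = br a b ∧ br (a * w) b = br a b := by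
    intro a ha b hb w hw
    have hwQ := H.toLoc.zpow_mem_Q hw
    have hw' : ∀ g ∈ H.Q, br g w = 1 ∧ br w g = 1 := fun g hg => by
      have hcm := H.toLoc.zpow_comm_z hw g (H.toLoc.Q_z hg)
      constructor
      · simp only [br]; rw [hcm]; group
      · simp only [br]; rw [← hcm]; group
    exact ⟨by rw [brr b hb w hwQ a ha, (hw' a ha).1, mul_one],
      by rw [brl a ha w hwQ b hb, (hw' b hb).2, mul_one]⟩
  let cq : G → G := fun a => c * a * c⁻¹
  have hcq : ∀ a ∈ H.Q, cq a ∈ H.Q := fun a ha => H.toLoc.Q_conj hc ha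
  let Sing : G → Prop := fun a => br a (cq a) = 1
  have hexpand : ∀ v ∈ H.Q, ∀ u ∈ H.toLoc.A,
      br (v * u) (cq (v * u)) = br v (cq v) * br u (cq v) ^ 2 := by
    intro v hv u hu
    have hu' : cq u ∈ H.toLoc.A := H.inner1_zz hc h u hu
    have e1 : cq (v * u) = cq v * cq u := by simp only [cq]; group
    have h0 : br u (cq u) = 1 := by
      simp only [br]
      rw [H.J_comm u hu.2 _ hu'.2]
      group
    have hs : br v (cq u) = br u (cq v) := by
      have h1 : c * br v (cq u) * c⁻¹ = br v (cq u) :=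
        H.toLoc.zpow_conj_eq hc (hbr v hv _ hu'.1)
      have e2 : c * br v (cq u) * c⁻¹ = br (cq v) (cq (cq u)) := by simp only [br, cq]; group
      have e3 : cq (cq u) = H.t * u * H.t := by
        simp only [cq]; rw [conj_conj, hc2, H.toLocT.t_inv]
      have e4 : H.t * u * H.t = u⁻¹ * (u * (H.t * u * H.t)) := by group
      rw [← h1, e2, e3, e4, (brz _ (hcq v hv) _ (inv_mem hu.1) _ (H.toLocT.t_inverts hu.1)).1,
        ← brinv (cq v) u]
      have h5 := brr u hu.1 u⁻¹ (inv_mem hu.1) (cq v) (hcq v hv)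
      rw [mul_inv_cancel] at h5
      have h6 : br (cq v) 1 = 1 := by simp [br]
      rw [h6] at h5
      exact eq_inv_of_mul_eq_one_right h5.symm
    rw [e1, brl v hv u hu.1 _ (mul_mem (hcq v hv) hu'.1), brr _ (hcq v hv) _ hu'.1 v hv,
      brr _ (hcq v hv) _ hu'.1 u hu.1, h0, hs, mul_one, pow_two, mul_assoc]
  -- counting
  let T : Finset G := Finset.univ.filter (fun v => v ∈ H.Q ∧ v ∉ H.toLoc.A)
  let U : Finset G := Finset.univ.filter (fun u => u ∈ H.toLoc.A)
  have hUc : U.card = 27 := by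
    rw [← H.toLoc.card_A, Nat.card_eq_fintype_card, Fintype.card_subtype]
  have hTc : T.card = 216 := by
    have h1 : (Finset.univ.filter (fun v => v ∈ H.Q)).card = 243 := by
      rw [← H.Q_card, Nat.card_eq_fintype_card, Fintype.card_subtype]
    have h2 : T = Finset.univ.filter (fun v => v ∈ H.Q) \ U := by
      ext v; simp [T, U]
    rw [h2, Finset.card_sdiff_of_subset (fun v hv => by
      simp only [U, Finset.mem_filter, Finset.mem_univ, true_and] at hv ⊢; exact hv.1), h1, hUc]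
  have hfib : ∀ v ∈ T, (U.filter (fun u => Sing (v * u))).card = 9 := by
    intro v hv
    simp only [T, Finset.mem_filter, Finset.mem_univ, true_and] at hv
    obtain ⟨hvQ, hvA⟩ := hv
    let f : H.toLoc.A →* Subgroup.zpowers H.z :=
      { toFun := fun u => ⟨br u (cq v) ^ 2, pow_mem (hbr u u.2.1 _ (hcq v hvQ)) 2⟩
        map_one' := Subtype.ext (by simp [br])
        map_mul' := fun a b => Subtype.ext (by
          show br ((a : G) * b) (cq v) ^ 2 = br a (cq v) ^ 2 * br b (cq v) ^ 2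
          rw [brl _ a.2.1 _ b.2.1 _ (hcq v hvQ), Commute.mul_pow]
          exact H.toLoc.zpow_comm_z (hbr _ b.2.1 _ (hcq v hvQ)) _
            (H.toLoc.Q_z (H.toLoc.zpow_mem_Q (hbr _ a.2.1 _ (hcq v hvQ))))) }
    have hker : f.ker ≠ ⊤ := by
      intro htop
      apply hvA
      have hw : cq v ∈ H.toLoc.A := by
        refine H.toLoc.cQ_A (hcq v hvQ) (fun a ha => ?_)
        have hmem : (⟨a, ha⟩ : H.toLoc.A) ∈ f.ker := htop ▸ Subgroup.mem_top _
        have h2 : br a (cq v) ^ 2 = 1 := congrArg Subtype.val (MonoidHom.mem_ker.1 hmem)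
        have h3 : br a (cq v) ^ 3 = 1 :=
          H.Q_exp _ (H.toLoc.zpow_mem_Q (hbr a ha.1 _ (hcq v hvQ)))
        have h4 : br a (cq v) = 1 := eq_one_of_pow_coprime h2 h3 (by norm_num)
        exact (mul_inv_eq_iff_eq_mul.1 (mul_inv_eq_one.1 h4)).symm
      have h5 := H.inner1_zz (g := c ^ 3) ((Commute.pow_left hc 3).eq)
        (H.toLoc.inner1_pow hN h 3) _ hw
      have hc4 : c ^ 4 = 1 := by
        rw [show 4 = 2 * 2 from rfl, pow_mul, pow_two c, hc2, pow_two, H.t_sq]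
      have e : c ^ 3 * cq v * (c ^ 3)⁻¹ = v := by
        simp only [cq]
        rw [conj_conj, ← pow_succ, hc4]
        group
      rwa [e] at h5
    have hrange : f.range = ⊤ := by
      haveI : Fact (Nat.card (Subgroup.zpowers H.z)).Prime :=
        ⟨by rw [H.toLoc.card_zpow]; exact Nat.prime_three⟩
      rcases f.range.eq_bot_or_eq_top_of_prime_card with h1 | h1
      · exfalso
        apply hker
        rw [MonoidHom.range_eq_bot_iff.1 h1, MonoidHom.ker_one]
      · exact h1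
    have hk9 : Nat.card f.ker = 9 := by
      have h1 := f.ker.card_mul_index
      rw [Subgroup.index_ker, hrange, Subgroup.card_top, H.toLoc.card_zpow, H.toLoc.card_A] at h1
      omega
    obtain ⟨u0, hu0⟩ := MonoidHom.range_eq_top.1 hrange
      (⟨br v (cq v), hbr v hvQ _ (hcq v hvQ)⟩⁻¹ : Subgroup.zpowers H.z)
    rw [← hk9, Nat.card_eq_fintype_card, ← Finset.card_univ]
    refine Finset.card_bij' (fun u hu => ⟨⟨u, by
        simp only [U, Finset.mem_filter, Finset.mem_univ, true_and] at hu; exact hu.1⟩ * u0⁻¹, ?_⟩)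
      (fun k _ => ((k.1 * u0 : H.toLoc.A) : G)) (fun _ _ => Finset.mem_univ _) ?_ ?_ ?_
    · simp only [U, Finset.mem_filter, Finset.mem_univ, true_and] at hu
      have h2 : br v (cq v) * br u (cq v) ^ 2 = 1 := by rw [← hexpand v hvQ u hu.1]; exact hu.2
      rw [MonoidHom.mem_ker, map_mul, map_inv, hu0, inv_inv]
      apply Subtype.ext
      show br u (cq v) ^ 2 * br v (cq v) = 1
      rw [mul_eq_one_comm]; exact h2
    · intro k _
      simp only [U, Finset.mem_filter, Finset.mem_univ, true_and]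
      refine ⟨SetLike.coe_mem _, ?_⟩
      show br (v * _) (cq (v * _)) = 1
      rw [hexpand v hvQ _ (SetLike.coe_mem _)]
      have h2 := congrArg Subtype.val (show f (k.1 * u0) = (⟨br v (cq v), hbr v hvQ _ (hcq v hvQ)⟩⁻¹ :
        Subgroup.zpowers H.z) by rw [map_mul, MonoidHom.mem_ker.1 k.2, one_mul, hu0])
      have h3 : br (((k.1 * u0 : H.toLoc.A)) : G) (cq v) ^ 2 = (br v (cq v))⁻¹ := h2
      rw [h3, mul_inv_cancel]
    · intro u hu
      simp
    · intro k _
      exact Subtype.ext (mul_inv_cancel_right (k : H.toLoc.A) u0)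
  set N := (T.filter Sing).card with hN'
  have hrows : ∀ u ∈ U, (T.filter (fun v => Sing (v * u))).card = N := by
    intro u hu
    simp only [U, Finset.mem_filter, Finset.mem_univ, true_and] at hu
    refine Finset.card_bij' (fun v _ => v * u) (fun v _ => v * u⁻¹) ?_ ?_ ?_ ?_
    · intro v hv
      simp only [T, Finset.mem_filter, Finset.mem_univ, true_and] at hv ⊢
      refine ⟨⟨mul_mem hv.1.1 hu.1, fun hA => hv.1.2 ?_⟩, hv.2⟩
      have := mul_mem hA (inv_mem hu)
      rwa [mul_inv_cancel_right] at this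
    · intro v hv
      simp only [T, Finset.mem_filter, Finset.mem_univ, true_and] at hv ⊢
      refine ⟨⟨mul_mem hv.1.1 (inv_mem hu.1), fun hA => hv.1.2 ?_⟩, by
        rw [inv_mul_cancel_right]; exact hv.2⟩
      have := mul_mem hA hu
      rwa [inv_mul_cancel_right] at this
    · intro v _; simp
    · intro v _; simp
  have hN72 : N = 72 := by
    have h1 := Finset.sum_card_bipartiteAbove_eq_sum_card_bipartiteBelow
      (r := fun v u => Sing (v * u)) (s := T) (t := U)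
    simp only [Finset.bipartiteAbove, Finset.bipartiteBelow] at h1
    rw [Finset.sum_congr rfl hfib, Finset.sum_congr rfl hrows, Finset.sum_const, Finset.sum_const,
      hTc, hUc, smul_eq_mul, smul_eq_mul] at h1
    omega
  let X : Set G := {a | a ∈ H.Q ∧ Sing a}
  have hXc : Nat.card X = 99 := by
    rw [Nat.card_eq_fintype_card, Fintype.card_subtype]
    have h1 : (Finset.univ.filter (fun a => a ∈ X)) = U ∪ T.filter Sing := by
      ext a
      simp only [U, T, X, Set.mem_ofPred_eq, Finset.mem_union, Finset.mem_filter, Finset.mem_univ,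
        true_and]
      constructor
      · intro ha
        by_cases hA : a ∈ H.toLoc.A
        · exact Or.inl hA
        · exact Or.inr ⟨⟨ha.1, hA⟩, ha.2⟩
      · rintro (hA | ha)
        · refine ⟨hA.1, ?_⟩
          show br a (cq a) = 1
          have hcm : a * cq a = cq a * a := H.J_comm a hA.2 _ (H.inner1_zz hc h a hA).2
          simp only [br]
          generalize cq a = b at hcm ⊢
          rw [hcm]
          group
        · exact ⟨ha.1.1, ha.2⟩
    rw [h1, Finset.card_union_of_disjoint, hUc, ← hN', hN72]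
    rw [Finset.disjoint_left]
    intro a ha hb
    simp only [U, T, Finset.mem_filter, Finset.mem_univ, true_and] at ha hb
    exact hb.1.2 ha
  obtain ⟨d, hdL, hdz, hd5, hdQ⟩ := H.toLoc.exists_d
  have hXinv : ∀ a ∈ X, d * a * d⁻¹ ∈ X := by
    rintro a ⟨ha, hs⟩
    have hda := H.toLoc.Q_conj hdz ha
    refine ⟨hda, ?_⟩
    set q0 := d⁻¹ * c * d * c⁻¹ with hq0
    have hq0Q : q0 ∈ H.Q := H.toLoc.inner1_comm hN h hdL
    have e : cq (d * a * d⁻¹) = d * (q0 * cq a * q0⁻¹) * d⁻¹ := by simp only [cq, hq0]; group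
    have hz1 := H.Q_comm q0 hq0Q (cq a) (hcq a ha)
    have e2 : q0 * cq a * q0⁻¹ = cq a * (q0 * cq a * q0⁻¹ * (cq a)⁻¹) := by
      rw [H.toLoc.zpow_comm_z hz1 (cq a) (H.toLoc.Q_z (hcq a ha))]; group
    show br (d * a * d⁻¹) (cq (d * a * d⁻¹)) = 1
    rw [e]
    have e3 : br (d * a * d⁻¹) (d * (q0 * cq a * q0⁻¹) * d⁻¹) =
        d * br a (q0 * cq a * q0⁻¹) * d⁻¹ := by simp only [br]; group
    rw [e3, e2, (brz a ha (cq a) (hcq a ha) _ hz1).1, show br a (cq a) = 1 from hs]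
    group
  have hmod := card_fixed_modEq (by norm_num : Nat.Prime 5) X d hd5 hXinv
  have hfixc : Nat.card {x : G | x ∈ X ∧ d * x = x * d} = 3 := by
    rw [← H.toLoc.card_zpow]
    refine Nat.card_congr (Equiv.setCongr ?_)
    ext a
    simp only [Set.mem_ofPred_eq, SetLike.mem_coe]
    constructor
    · rintro ⟨⟨ha, -⟩, hcomm⟩
      rcases H.toLoc.d_invariant hdz hd5 hdQ (H.Q ⊓ Subgroup.centralizer ({d} : Set G)) inf_le_left
        ⟨H.z_mem, mem_cent_singleton.2 hdz.symm⟩ (fun w hw => by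
          have hwd : w * d = d * w := mem_cent_singleton.1 hw.2
          rw [← hwd, mul_inv_cancel_right]; exact hw) with hW | hW
      · exfalso
        apply hdQ
        apply H.Q_cent
        intro q hq
        rw [← hW] at hq
        exact (mem_cent_singleton.1 hq.2).symm
      · exact hW ⟨ha, mem_cent_singleton.2 hcomm.symm⟩
    · intro ha
      refine ⟨⟨H.toLoc.zpow_mem_Q ha, ?_⟩, H.toLoc.zpow_comm_z ha d hdz⟩
      show br a (cq a) = 1
      simp only [br, cq]
      rw [H.toLoc.zpow_comm_z ha c hc]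
      group
  rw [hXc, hfixc] at hmod
  norm_num [Nat.ModEq] at hmod

end LocH

end Cfsg.Lib.McLThree
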