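import Cfsg.Agent.Lib.McLThree.Setup
import Cfsg.Agent.Lib.PermAut.Mcl

/-!
The McLaughlin group and its automorphism group from the 3-local configuration.
-/

set_option autoImplicit false
set_option linter.style.haveILetI false
set_option linter.unusedSectionVars false

namespace Cfsg.Lib.McLThree

open Cfsg.Lib.AltEightThree (mem_cent_singleton)

universe v

variable {G : Type v} [Group G] [Finite G]

namespace LocC

variable (C : LocC G)

/-- Only the identity centralises a subgroup containing `S` and `M`. -/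
theorem cent_trivial {H : Subgroup G} (hS : (C.S : Subgroup G) ≤ H) (hM : C.M ≤ H) {g : G}
    (hg : ∀ x ∈ H, g * x = x * g) : g = 1 := by
  have hgJ : g ∈ C.J := C.toLoc.cent_J (fun a ha => hg a (hS (C.J_le ha)))
  have hgz : g ∈ Subgroup.zpowers C.z := C.S_centre g (C.J_le hgJ) (fun r hr => hg r (hS hr))
  have hfix : C.h * g * C.h⁻¹ = g := by rw [← hg _ (hM C.h_M), mul_inv_cancel_right]
  obtain ⟨i, rfl⟩ := hgz
  change C.h * C.z ^ i * C.h⁻¹ = C.z ^ i at hfix
  rw [← conj_zpow, C.h_z, inv_zpow, eq_comm, eq_inv_iff_mul_eq_one, ← pow_two] at hfix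
  have h3 : (C.z ^ i) ^ 3 = 1 := by
    rw [← zpow_natCast, ← zpow_mul, mul_comm, zpow_mul, zpow_natCast, C.z_exp, one_zpow]
  exact eq_one_of_pow_coprime hfix h3 (by norm_num)

end LocC

theorem card_mulAut_of_center_bot {H : Type v} [Group H] [Finite H]
    (hc : ∀ g : H, (∀ x, g * x = x * g) → g = 1) :
    Nat.card (MulAut H) = Nat.card H * Nat.card (Cfsg.Out H) := by
  have h1 := Subgroup.card_eq_card_quotient_mul_card_subgroup (Cfsg.Inn H)
  have hinj : Function.Injective (MulAut.conj : H →* MulAut H) := by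
    rw [injective_iff_map_eq_one]
    intro g hg
    refine hc g (fun x => ?_)
    have := DFunLike.congr_fun hg x
    exact mul_inv_eq_iff_eq_mul.1 this
  have h2 : Nat.card (Cfsg.Inn H) = Nat.card H :=
    (Nat.card_congr (MonoidHom.ofInjective hinj).toEquiv).symm
  rw [h1, h2, mul_comm]

/-- The recognition from the configuration. -/
theorem mcl_or_aut (C : LocC G) (hdec : C.toLocH.Dec) :
    Nonempty (G ≃* Cfsg.Spor.McL) ∨ Nonempty (G ≃* MulAut Cfsg.Spor.McL) := by
  by_cases hev : C.EvenType
  · exact Or.inl (C.even_mcl hdec hev)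
  right
  obtain ⟨H, hHn, hH⟩ := C.exists_index_two hdec hev
  obtain ⟨hS, hM, hL⟩ := C.three_le_index_two H hH
  obtain ⟨e⟩ := (C.restrict H hS hM hL).even_mcl (C.restrict_dec H hS hM hL hdec)
    (C.restrict_even H hS hM hL hdec hev hH)
  let ι : G →* MulAut H :=
    { toFun := fun g => MulAut.conjNormal g
      map_one' := map_one _
      map_mul' := map_mul _ }
  have hinj : Function.Injective ι := by
    rw [injective_iff_map_eq_one]
    intro g hg
    refine C.cent_trivial hS hM (fun x hx => ?_)
    have h1 : g * x * g⁻¹ = x := by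
      have h2 := congrArg Subtype.val (DFunLike.congr_fun hg (⟨x, hx⟩ : H))
      change ((MulAut.conjNormal g ⟨x, hx⟩ : H) : G) = x at h2
      rwa [MulAut.conjNormal_apply] at h2
    exact mul_inv_eq_iff_eq_mul.1 h1
  have hcen : ∀ g : H, (∀ x, g * x = x * g) → g = 1 := fun g hg =>
    Subtype.ext (C.cent_trivial hS hM (fun x hx => congrArg Subtype.val (hg ⟨x, hx⟩)))
  have hout : Nat.card (Cfsg.Out H) = 2 :=
    (Cfsg.Lib.PermAut.out_congr e).trans Cfsg.Lib.PermAut.Mcl.card_out_mcl
  have hcard : Nat.card (MulAut H) = Nat.card G := by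
    rw [card_mulAut_of_center_bot hcen, hout, ← hH]
    exact H.card_mul_index
  haveI : Finite (MulAut H) := Nat.finite_of_card_ne_zero (by rw [hcard]; exact Nat.card_pos.ne')
  have hbij : Function.Bijective ι :=
    (Nat.bijective_iff_injective_and_card ι).2 ⟨hinj, hcard.symm⟩
  exact ⟨(MulEquiv.ofBijective ι hbij).trans (MulAut.congr e)⟩

end Cfsg.Lib.McLThree
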