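import Cfsg.Agent.Lib.McLThree.CentZ

/-!
Points of `J`: the singular ones are the conjugates of `z`; no other point of `Q ∩ J` is singular.
-/

set_option autoImplicit false
set_option linter.style.haveILetI false
set_option linter.unusedSectionVars false

namespace Cfsg.Lib.McLThree

open Cfsg.Lib.Recog.Icosa
open Cfsg.Lib.AltEightThree (mem_cent_singleton conj_mem_normalizer mem_normalizer_of_forall)

theorem six_TI : ∀ x : ASix, InP x → x ≠ 1 → ∀ g : ASix, g ^ 3 = 1 → g * x = x * g → InP g := by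
  decide +kernel

theorem inP_three : ∀ g : ASix, InP g → g ^ 3 = 1 := by decide +kernel

theorem inP_comm : ∀ x : ASix, InP x → ∀ y : ASix, InP y → x * y = y * x := by decide +kernel

theorem normP_inP : ∀ g : ASix, NormP g → g ^ 3 = 1 → InP g := by decide +kernel

theorem normP_involution : ∀ a b : ASix,
    (NormP a ∧ a * a = 1 ∧ a ≠ 1) ∧ (NormP b ∧ b * b = 1 ∧ b ≠ 1) ∧ a * b = b * a → a = b := by
  decide +kernel

variable {G : Type*} [Group G] [Finite G]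

namespace Loc

variable (D : Loc G)

theorem three_pow_J {a : G} (ha : a ∈ D.J) : a ^ 3 ^ 1 = 1 := by simpa using D.J_exp a ha

theorem three_mem_S {x : G} (hx : ∀ s ∈ (D.S : Subgroup G), x * s * x⁻¹ ∈ (D.S : Subgroup G))
    {k : ℕ} (hk : x ^ 3 ^ k = 1) : x ∈ (D.S : Subgroup G) := by
  have hp : IsPGroup 3 (Subgroup.zpowers x) := isPGroup_of_forall_pow (k := k) (fun y hy => by
    obtain ⟨i, rfl⟩ := hy
    rw [← zpow_natCast, ← zpow_mul, mul_comm, zpow_mul, zpow_natCast, hk, one_zpow])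
  have hle : Subgroup.zpowers x ≤ Subgroup.normalizer ((D.S : Subgroup G) : Set G) :=
    Subgroup.zpowers_le.2 (mem_normalizer_of_forall hx)
  have h := D.S.is_maximal' (hp.to_sup_of_normal_right' D.S.isPGroup' hle) le_sup_right
  rw [← h]
  exact (le_sup_left : _ ≤ Subgroup.zpowers x ⊔ (D.S : Subgroup G)) (Subgroup.mem_zpowers x)

/-- An element fixing `z` and normalising `J` normalises `S`. -/
theorem cent_norm_S {g : G} (hJ : g ∈ Subgroup.normalizer (D.J : Set G))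
    (hz : g * D.z = D.z * g) {s : G} (hs : s ∈ (D.S : Subgroup G)) :
    g * s * g⁻¹ ∈ (D.S : Subgroup G) := by
  obtain ⟨σ, hσJ, hσQ⟩ := D.exists_sigma
  obtain ⟨i, -, c, hc, rfl⟩ := D.S_decomp hs (D.J_le hσJ) hσQ
  rw [← conj_mul]
  exact mul_mem (D.J_le (conj_mem_normalizer hJ (pow_mem hσJ i))) (D.Q_le (D.Q_conj hz hc))

/-- A 3'-element centralising `Q ∩ J` is trivial. -/
theorem cent_A_trivial {x : G} {n : ℕ} (hn : Nat.Coprime n 3) (hxn : x ^ n = 1)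
    (hxA : ∀ a ∈ D.A, x * a = a * x) : x = 1 := by
  have hxz : x * D.z = D.z * x := hxA _ D.z_A
  have hxQ : x ∈ D.Q := by
    apply D.Q_cent
    intro q hq
    have hq' : x * q * x⁻¹ ∈ D.Q := D.Q_conj hxz hq
    have hA : q⁻¹ * (x * q * x⁻¹) ∈ D.A := by
      refine D.cQ_A (mul_mem (inv_mem hq) hq') (fun a ha => ?_)
      have h1 : Commute x a := hxA a ha
      have hcom := D.zpow_conj_eq hxz (D.triv_Q hq ha.1)
      have e1 : x * (q * a * q⁻¹ * a⁻¹) * x⁻¹ = (x * q * x⁻¹) * a * (x * q * x⁻¹)⁻¹ * a⁻¹ := by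
        calc x * (q * a * q⁻¹ * a⁻¹) * x⁻¹
            = (x * q * x⁻¹) * (x * a * x⁻¹) * (x * q * x⁻¹)⁻¹ * (x * a * x⁻¹)⁻¹ := by group
          _ = _ := by rw [h1.eq, mul_inv_cancel_right]
      rw [e1] at hcom
      have e2 : (x * q * x⁻¹) * a * (x * q * x⁻¹)⁻¹ = q * a * q⁻¹ := mul_right_cancel hcom
      calc q⁻¹ * (x * q * x⁻¹) * a
          = q⁻¹ * ((x * q * x⁻¹) * a * (x * q * x⁻¹)⁻¹) * (x * q * x⁻¹) := by group
        _ = a * (q⁻¹ * (x * q * x⁻¹)) := by rw [e2]; group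
    set a := q⁻¹ * (x * q * x⁻¹) with ha
    have hxa : x * a = a * x := hxA a hA
    have hiter : ∀ m : ℕ, x ^ m * q * (x ^ m)⁻¹ = q * a ^ m := by
      intro m
      induction m with
      | zero => simp
      | succ m ih =>
        calc x ^ (m + 1) * q * (x ^ (m + 1))⁻¹ = x * (x ^ m * q * (x ^ m)⁻¹) * x⁻¹ := by
              rw [pow_succ']; group
          _ = x * (q * a ^ m) * x⁻¹ := by rw [ih]
          _ = x * q * x⁻¹ * (x * a ^ m * x⁻¹) := by group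
          _ = q * a * a ^ m := by
            rw [(Commute.pow_right hxa m).eq, mul_inv_cancel_right, ha, mul_inv_cancel_left]
          _ = q * a ^ (m + 1) := by rw [pow_succ', mul_assoc]
    have h2 := hiter n
    rw [hxn] at h2
    simp only [one_mul, inv_one, mul_one] at h2
    have ha1 : a = 1 := eq_one_of_pow_coprime (mul_eq_left.1 h2.symm) (D.Q_exp a hA.1) hn
    have h4 : x * q * x⁻¹ = q := (inv_mul_eq_one.1 ha1).symm
    exact mul_inv_eq_iff_eq_mul.1 h4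
  exact eq_one_of_pow_coprime hxn (D.Q_exp x hxQ) hn

/-- A 3'-subgroup normalised by `J` meets `C(z)` trivially. -/
theorem invariant_cent_z {R : Subgroup G} (hR : (Nat.card R).Coprime 3)
    (hJ : ∀ j ∈ D.J, ∀ r ∈ R, j * r * j⁻¹ ∈ R) {r : G} (hr : r ∈ R)
    (hrz : r * D.z = D.z * r) : r = 1 := by
  have hrn : r ^ Nat.card R = 1 := congrArg Subtype.val (pow_card_eq_one' (x := (⟨r, hr⟩ : R)))
  refine D.cent_A_trivial hR hrn (fun a ha => ?_)
  have hQ : r * a * r⁻¹ * a⁻¹ ∈ D.Q := mul_mem (D.Q_conj hrz ha.1) (inv_mem ha.1)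
  have hRm : r * a * r⁻¹ * a⁻¹ ∈ R := by
    have h1 := hJ a ha.2 r⁻¹ (inv_mem hr)
    have h2 := mul_mem hr h1
    rwa [← mul_assoc, ← mul_assoc] at h2
  have h1 : r * a * r⁻¹ * a⁻¹ = 1 := eq_one_of_pow_coprime
    (congrArg Subtype.val (pow_card_eq_one' (x := (⟨_, hRm⟩ : R)))) (D.Q_exp _ hQ) hR
  exact mul_inv_eq_iff_eq_mul.1 (mul_inv_eq_one.1 h1)

/-- A 3'-subgroup normalised by `J` meets the centraliser of each singular point trivially. -/
theorem invariant_cent_singular {R : Subgroup G} (hR : (Nat.card R).Coprime 3)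
    (hJ : ∀ j ∈ D.J, ∀ r ∈ R, j * r * j⁻¹ ∈ R) {n : G}
    (hn : n ∈ Subgroup.normalizer (D.J : Set G)) {r : G} (hr : r ∈ R)
    (hrz : r * (n * D.z * n⁻¹) = n * D.z * n⁻¹ * r) : r = 1 := by
  set R' := R.map (MulAut.conj n⁻¹).toMonoidHom with hR'
  have h1 : n⁻¹ * r * n⁻¹⁻¹ = 1 := by
    refine D.invariant_cent_z (R := R') ?_ ?_ ⟨r, hr, rfl⟩ ?_
    · rw [hR', Subgroup.card_map_of_injective (MulAut.conj n⁻¹).injective]; exact hR
    · rintro j hj _ ⟨w, hw, rfl⟩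
      refine ⟨(n * j * n⁻¹) * w * (n * j * n⁻¹)⁻¹, hJ _ (conj_mem_normalizer hn hj) w hw, ?_⟩
      show n⁻¹ * ((n * j * n⁻¹) * w * (n * j * n⁻¹)⁻¹) * n⁻¹⁻¹ = j * (n⁻¹ * w * n⁻¹⁻¹) * j⁻¹
      group
    · calc n⁻¹ * r * n⁻¹⁻¹ * D.z = n⁻¹ * (r * (n * D.z * n⁻¹)) * n := by group
        _ = n⁻¹ * (n * D.z * n⁻¹ * r) * n := by rw [hrz]
        _ = D.z * (n⁻¹ * r * n⁻¹⁻¹) := by group
  exact conj_eq_one_iff.1 h1

/-- A singular point is conjugate to `z` in the normaliser of `J`. -/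
theorem singular_conj {g a : G} (ha : a ∈ D.J) (hg : g * D.z * g⁻¹ = a) :
    ∃ n ∈ Subgroup.normalizer (D.J : Set G), n * D.z * n⁻¹ = a := by
  haveI : Fact (Nat.Prime 3) := ⟨Nat.prime_three⟩
  set K := Subgroup.centralizer ({D.z} : Set G) with hK
  set W := D.J.map (MulAut.conj g⁻¹).toMonoidHom with hW
  have hWK : W ≤ K := by
    rintro _ ⟨j, hj, rfl⟩
    refine mem_cent_singleton.2 ?_
    show g⁻¹ * j * g⁻¹⁻¹ * D.z = D.z * (g⁻¹ * j * g⁻¹⁻¹)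
    calc g⁻¹ * j * g⁻¹⁻¹ * D.z = g⁻¹ * (j * (g * D.z * g⁻¹)) * g := by group
      _ = g⁻¹ * ((g * D.z * g⁻¹) * j) * g := by rw [hg, D.J_comm j hj a ha]
      _ = D.z * (g⁻¹ * j * g⁻¹⁻¹) := by group
  have hSK : (D.S : Subgroup G) ≤ K := fun s hs => mem_cent_singleton.2 (D.z_S s hs)
  have hWp : IsPGroup 3 W :=
    (isPGroup_of_forall_pow (k := 1) (fun x hx => D.three_pow_J hx) : IsPGroup 3 D.J).map _
  obtain ⟨T, hT⟩ :=
    (hWp.comap_of_injective K.subtype K.subtype_injective : IsPGroup 3 (W.subgroupOf K)).exists_le_sylow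
  obtain ⟨c, hc⟩ := MulAction.exists_smul_eq K T (D.S.subtype hSK)
  refine ⟨g * (c : G)⁻¹, ?_, ?_⟩
  · have h : (c : G) * g⁻¹ ∈ Subgroup.normalizer (D.J : Set G) := by
      refine D.norm_J_of_conj (fun j hj => ?_)
      have hmem : (⟨g⁻¹ * j * g⁻¹⁻¹, hWK ⟨j, hj, rfl⟩⟩ : K) ∈ (T : Subgroup K) :=
        hT (Subgroup.mem_subgroupOf.2 ⟨j, hj, rfl⟩)
      have h2 : c * ⟨g⁻¹ * j * g⁻¹⁻¹, hWK ⟨j, hj, rfl⟩⟩ * c⁻¹ ∈
          ((D.S.subtype hSK : Sylow 3 K) : Subgroup K) := by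
        rw [← hc]; exact ⟨_, hmem, rfl⟩
      have h3 : (c : G) * (g⁻¹ * j * g⁻¹⁻¹) * (c : G)⁻¹ ∈ (D.S : Subgroup G) := h2
      rw [conj_conj] at h3
      exact h3
    have := inv_mem h
    rwa [mul_inv_rev, inv_inv] at this
  · have hcz : (c : G) * D.z = D.z * (c : G) := mem_cent_singleton.1 c.2
    calc g * (c : G)⁻¹ * D.z * (g * (c : G)⁻¹)⁻¹ = g * ((c : G)⁻¹ * (D.z * (c : G))) * g⁻¹ := by group
      _ = g * ((c : G)⁻¹ * ((c : G) * D.z)) * g⁻¹ := by rw [hcz]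
      _ = a := by rw [inv_mul_cancel_left, hg]

theorem comm_mem_zpow {q a : G} (hq : q ∈ D.Q) (ha : a ∈ D.Q) {p : G} (hp : p ∈ D.Q) :
    (p * q) * a * (p * q)⁻¹ * a⁻¹ = (p * a * p⁻¹ * a⁻¹) * (q * a * q⁻¹ * a⁻¹) := by
  have h1 : Commute p (q * a * q⁻¹ * a⁻¹) := D.zpow_comm_z (D.Q_comm q hq a ha) p (D.Q_z hp)
  have h2 : Commute a (q * a * q⁻¹ * a⁻¹) := D.zpow_comm_z (D.Q_comm q hq a ha) a (D.Q_z ha)
  calc (p * q) * a * (p * q)⁻¹ * a⁻¹ = p * (q * a * q⁻¹ * a⁻¹) * (a * p⁻¹ * a⁻¹) := by group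
    _ = (q * a * q⁻¹ * a⁻¹) * p * (a * p⁻¹ * a⁻¹) := by rw [h1.eq]
    _ = (q * a * q⁻¹ * a⁻¹) * (p * a * p⁻¹ * a⁻¹) := by group
    _ = _ := ((h1.symm.mul_right h2.symm).mul_right h1.symm.inv_right |>.mul_right h2.symm.inv_right).eq

/-- The centraliser in `Q` of a point of `Q` has order at least `81`. -/
theorem card_cent_Q {u : G} (hu : u ∈ D.Q) :
    81 ≤ Nat.card ↥(D.Q ⊓ Subgroup.centralizer ({u} : Set G)) := by
  let f : D.Q →* Subgroup.zpowers D.z :=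
    MonoidHom.mk' (fun q => ⟨(q : G) * u * (q : G)⁻¹ * u⁻¹, D.Q_comm _ q.2 u hu⟩)
      (fun p q => Subtype.ext (D.comm_mem_zpow q.2 hu p.2))
  have h1 := f.ker.card_mul_index
  rw [Subgroup.index_ker, D.Q_card] at h1
  have h2 : Nat.card f.range ≤ 3 := by
    rw [← D.card_zpow]
    exact Nat.card_le_card_of_injective _ Subtype.val_injective
  have h3 : Nat.card f.ker ≤ Nat.card ↥(D.Q ⊓ Subgroup.centralizer ({u} : Set G)) := by
    refine Nat.card_le_card_of_injective (fun q => (⟨((q : D.Q) : G), (q : D.Q).2,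
      mem_cent_singleton.2 ?_⟩ : ↥(D.Q ⊓ Subgroup.centralizer ({u} : Set G)))) ?_
    · have h : ((q : D.Q) : G) * u * ((q : D.Q) : G)⁻¹ * u⁻¹ = 1 :=
        congrArg Subtype.val (MonoidHom.mem_ker.1 q.2)
      exact mul_inv_eq_iff_eq_mul.1 (mul_inv_eq_one.1 h)
    · intro a b h
      exact Subtype.ext (Subtype.ext (congrArg (fun x : ↥(D.Q ⊓ Subgroup.centralizer ({u} : Set G)) =>
        (x : G)) h))
  by_contra hlt
  have h4 : Nat.card f.ker * Nat.card f.range ≤ 80 * 3 := Nat.mul_le_mul (by omega) h2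
  omega

theorem exists_Q_cent {u : G} (hu : u ∈ D.Q) :
    ∃ q ∈ D.Q, q ∉ D.J ∧ q * u = u * q := by
  by_contra hcon
  push Not at hcon
  have hle : D.Q ⊓ Subgroup.centralizer ({u} : Set G) ≤ D.A := fun q hq => ⟨hq.1, by
    by_contra hJ
    exact hcon q hq.1 hJ (mem_cent_singleton.1 hq.2)⟩
  have := Subgroup.card_le_of_le hle
  rw [D.card_A] at this
  have := D.card_cent_Q hu
  omega

end Loc

namespace LocJ

variable (F : LocJ G)

/-- No element of `Q ∩ J` outside `⟨z⟩` is a conjugate of `z`. -/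
theorem not_singular {a : G} (haA : a ∈ F.toLoc.A) (haz : a ∉ Subgroup.zpowers F.z) (g : G) :
    g * F.z * g⁻¹ ≠ a := by
  intro hg
  obtain ⟨n, hnJ, hn⟩ := F.toLoc.singular_conj haA.2 hg
  obtain ⟨q, hqQ, hqJ, hqa⟩ := F.toLoc.exists_Q_cent haA.1
  have hqS : q ∈ (F.S : Subgroup G) := F.Q_le hqQ
  set q' := n⁻¹ * q * n with hq'
  have hq'z : q' * F.z = F.z * q' := by
    calc q' * F.z = n⁻¹ * (q * (n * F.z * n⁻¹)) * n := by rw [hq']; group
      _ = n⁻¹ * (n * F.z * n⁻¹ * q) * n := by rw [hn, hqa]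
      _ = F.z * q' := by rw [hq']; group
  have hq'J : q' ∈ Subgroup.normalizer (F.J : Set G) :=
    mul_mem (mul_mem (inv_mem hnJ) (F.toLoc.S_norm hqS)) hnJ
  have hq'3 : q' ^ 3 ^ 1 = 1 := by
    have e : q' = n⁻¹ * q * n⁻¹⁻¹ := by rw [hq', inv_inv]
    rw [e, conj_pow, pow_one, F.Q_exp q hqQ, mul_one, mul_inv_cancel]
  have hq'S : q' ∈ (F.S : Subgroup G) :=
    F.toLoc.three_mem_S (fun s hs => F.toLoc.cent_norm_S hq'J hq'z hs) hq'3
  have hnS : ∀ s ∈ (F.S : Subgroup G), n * s * n⁻¹ ∈ (F.S : Subgroup G) := by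
    intro s hs
    have hsM := F.S_M hs
    have hm1 : n * s * n⁻¹ ∈ F.M := F.M_conj n hnJ s hsM
    refine (F.θ_S ⟨_, hm1⟩).1 ?_
    have hqP : InP (F.θ ⟨q, F.S_M hqS⟩) := (F.θ_S _).2 hqS
    have hq1 : F.θ ⟨q, F.S_M hqS⟩ ≠ 1 := fun h => hqJ ((F.θ_ker _).1 h)
    refine six_TI _ hqP hq1 _ ?_ ?_
    · rw [← map_pow]
      refine (F.θ_ker _).2 ?_
      show (n * s * n⁻¹) ^ 3 ∈ F.J
      rw [conj_pow]
      refine conj_mem_normalizer hnJ ((F.θ_ker (⟨s, hsM⟩ ^ 3)).1 ?_)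
      rw [map_pow]
      exact inP_three _ ((F.θ_S _).2 hs)
    · rw [← map_mul, ← map_mul]
      have hJ : (s * q')⁻¹ * (q' * s) ∈ F.J := by
        refine (F.θ_ker ((⟨s, hsM⟩ * ⟨q', F.S_M hq'S⟩)⁻¹ * (⟨q', F.S_M hq'S⟩ * ⟨s, hsM⟩))).1 ?_
        rw [map_mul, map_inv, map_mul, map_mul,
          inP_comm _ ((F.θ_S ⟨s, hsM⟩).2 hs) _ ((F.θ_S ⟨q', F.S_M hq'S⟩).2 hq'S), inv_mul_cancel]
      have hJ' := conj_mem_normalizer hnJ hJ
      have e : n * ((s * q')⁻¹ * (q' * s)) * n⁻¹ = ((n * s * n⁻¹) * q)⁻¹ * (q * (n * s * n⁻¹)) := by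
        rw [hq']; group
      rw [e] at hJ'
      have h := (F.θ_ker ((⟨_, hm1⟩ * ⟨q, F.S_M hqS⟩)⁻¹ * (⟨q, F.S_M hqS⟩ * ⟨_, hm1⟩))).2 hJ'
      rw [map_mul, map_inv, inv_mul_eq_one] at h
      exact h
  apply haz
  have heq : (F.S : Subgroup G).map (MulAut.conj n).toMonoidHom = (F.S : Subgroup G) :=
    Subgroup.eq_of_le_of_card_ge (by rintro _ ⟨s, hs, rfl⟩; exact hnS s hs)
      (by rw [Subgroup.card_map_of_injective (MulAut.conj n).injective])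
  refine F.S_centre a (F.J_le haA.2) (fun r hr => ?_)
  rw [← heq] at hr
  obtain ⟨s, hs, rfl⟩ := hr
  show a * (n * s * n⁻¹) = n * s * n⁻¹ * a
  rw [← hn]
  calc n * F.z * n⁻¹ * (n * s * n⁻¹) = n * (F.z * s) * n⁻¹ := by group
    _ = n * (s * F.z) * n⁻¹ := by rw [F.z_S s hs]
    _ = _ := by group

end LocJ

end Cfsg.Lib.McLThree
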