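import Cfsg.Agent.Lib.McLThree.CentZ

/-!
The normaliser of `D` in the centraliser of `t` modulo `⟨t⟩` acts on the four generators of the two
singular points as a dihedral group of order eight.
-/

set_option autoImplicit false
set_option linter.style.haveILetI false
set_option linter.unusedSectionVars false

namespace Cfsg.Lib.McLThree

open Equiv Cfsg.Lib.Recog.Icosa
open Cfsg.Lib.AltEightThree (mem_cent_singleton conj_mem_normalizer mem_normalizer_of_forall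
  mem_normalizer_of_cent)

universe v

/-- The image of a rotation and of a reflection. -/
def dihFun : DihedralGroup 4 → Perm (Fin 4)
  | .r i => (c[(0 : Fin 4), 1, 2, 3]) ^ i.val
  | .sr i => c[(1 : Fin 4), 3] * (c[(0 : Fin 4), 1, 2, 3]) ^ i.val

theorem dihFun_mul : ∀ a b : DihedralGroup 4, dihFun (a * b) = dihFun a * dihFun b := by
  intro a b
  rcases a with i | i <;> rcases b with j | j <;> revert i j <;> decide +kernel

/-- The dihedral group of order eight as permutations of four points. -/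
def dihHom : DihedralGroup 4 →* Perm (Fin 4) := MonoidHom.mk' dihFun dihFun_mul

theorem dihHom_injective : Function.Injective dihHom := by
  intro a b h
  change dihFun a = dihFun b at h
  rcases a with i | i <;> rcases b with j | j <;> revert i j <;> decide +kernel

/-- The permutation induced by `s`. -/
def permS : Perm (Fin 4) := c[(0 : Fin 4), 1] * c[(2 : Fin 4), 3]
/-- The permutation induced by `h`. -/
def permH : Perm (Fin 4) := c[(0 : Fin 4), 2] * c[(1 : Fin 4), 3]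
/-- The permutation induced by `k`. -/
def permK : Perm (Fin 4) := c[(1 : Fin 4), 3]

theorem perm_dih : ∀ a b c : Fin 2,
    permS ^ (c : ℕ) * permH ^ (b : ℕ) * permK ^ (a : ℕ) ∈ dihHom.range := by
  intro a b c
  have h : ∀ p : Perm (Fin 4), (∃ i : ZMod 4, p = dihFun (.r i) ∨ p = dihFun (.sr i)) →
      p ∈ dihHom.range := by
    rintro p ⟨i, rfl | rfl⟩
    · exact ⟨.r i, rfl⟩
    · exact ⟨.sr i, rfl⟩
  apply h
  revert a b c
  decide +kernel

theorem dih_perm : ∀ d : DihedralGroup 4, ∃ a b c : Fin 2,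
    dihFun d = permS ^ (c : ℕ) * permH ^ (b : ℕ) * permK ^ (a : ℕ) := by
  intro d
  rcases d with i | i <;> revert i <;> decide +kernel

/-- Coordinates of the four points. -/
def vec : Fin 4 → Fin 3 × Fin 3 := ![(1, 0), (0, 1), (2, 0), (0, 2)]

theorem dih_pairs : ∀ a b c : Fin 2,
    (vec ((permS ^ (c : ℕ) * permH ^ (b : ℕ) * permK ^ (a : ℕ)) 0) +
      vec ((permS ^ (c : ℕ) * permH ^ (b : ℕ) * permK ^ (a : ℕ)) 1) = (1, 1) ↔ a = 0 ∧ b = 0) ∧
    (vec ((permS ^ (c : ℕ) * permH ^ (b : ℕ) * permK ^ (a : ℕ)) 0) +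
      vec ((permS ^ (c : ℕ) * permH ^ (b : ℕ) * permK ^ (a : ℕ)) 1) = (2, 2) ↔ a = 0 ∧ b = 1) := by
  decide +kernel

variable {G : Type v} [Group G] [Finite G]

namespace LocC

variable (C : LocC G)

/-- The four generators of the two singular points. -/
def pts : Fin 4 → G := ![C.z, C.zz, C.z⁻¹, C.zz⁻¹]

theorem pts_D (i : Fin 4) : C.pts i ∈ C.FixD := by
  fin_cases i
  · exact C.z_D
  · exact C.zz_D
  · exact inv_mem C.z_D
  · exact inv_mem C.zz_D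

theorem pts_injective : Function.Injective C.pts := by
  have h2 : ∀ a : G, a ^ 3 = 1 → a ≠ 1 → a ≠ a⁻¹ := fun a h3 h1 e => h1
    (eq_one_of_pow_coprime (by rw [pow_two]; exact mul_eq_one_iff_eq_inv.2 e) h3 (by norm_num))
  have hz := h2 C.z C.z_exp C.z_ne
  have hw := h2 C.zz C.toLocH.zz_exp C.toLocH.zz_ne
  have hnz : ∀ w ∈ Subgroup.zpowers C.z, C.zz ≠ w ∧ C.zz⁻¹ ≠ w := fun w hw' =>
    ⟨fun e => C.zz_not_z (e ▸ hw'), fun e => C.zz_not_z (by
      rw [← inv_inv C.zz, e]; exact inv_mem hw')⟩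
  obtain ⟨a1, a2⟩ := hnz C.z (Subgroup.mem_zpowers _)
  obtain ⟨a3, a4⟩ := hnz C.z⁻¹ (inv_mem (Subgroup.mem_zpowers _))
  intro i j hij
  fin_cases i <;> fin_cases j
  · rfl
  · exact absurd hij.symm a1
  · exact absurd hij hz
  · exact absurd hij.symm a2
  · exact absurd hij a1
  · rfl
  · exact absurd hij a3
  · exact absurd hij hw
  · exact absurd hij.symm hz
  · exact absurd hij.symm a3
  · rfl
  · exact absurd hij.symm a4
  · exact absurd hij a2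
  · exact absurd hij.symm hw
  · exact absurd hij a4
  · rfl

/-- The images of the four generators. -/
def pbar (i : Fin 4) : C.Bar := C.bar (C.pts i) (C.D_comm_t (C.pts_D i))

theorem pbar_injective : Function.Injective C.pbar := fun _ _ h =>
  C.pts_injective (C.bar_three _ _ (C.D_exp (C.pts_D _)) (C.D_exp (C.pts_D _)) h)

theorem bar_mem_norm {x : G} (hx : x * C.t = C.t * x)
    (hD : x ∈ Subgroup.normalizer (C.FixD : Set G)) :
    C.bar x hx ∈ Subgroup.normalizer (C.Dbar : Set C.Bar) := by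
  refine mem_normalizer_of_forall (fun g hg => ?_)
  obtain ⟨d, hd, rfl⟩ := C.mem_Dbar.1 hg
  exact C.mem_Dbar.2 ⟨_, conj_mem_normalizer hD hd, (C.bar_conj hx (C.D_comm_t hd)).symm⟩

theorem norm_of_bar {x : G} (hx : x * C.t = C.t * x)
    (h : C.bar x hx ∈ Subgroup.normalizer (C.Dbar : Set C.Bar)) :
    x ∈ Subgroup.normalizer (C.FixD : Set G) := by
  refine mem_normalizer_of_forall (fun d hd => ?_)
  obtain ⟨e, he, hee⟩ := C.mem_Dbar.1 (conj_mem_normalizer h (C.mem_Dbar.2 ⟨d, hd, rfl⟩))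
  rw [C.bar_conj] at hee
  rw [← C.bar_three _ _ (C.D_exp he) (by rw [conj_pow, C.D_exp hd]; group) hee]
  exact he

theorem Dbar_comm : ∀ a ∈ C.Dbar, ∀ b ∈ C.Dbar, a * b = b * a := by
  intro a ha b hb
  obtain ⟨d, hd, rfl⟩ := C.mem_Dbar.1 ha
  obtain ⟨e, he, rfl⟩ := C.mem_Dbar.1 hb
  rw [C.bar_mul, C.bar_mul]
  exact C.bar_congr (C.J_comm d (C.mem_FixD.1 hd).1 e (C.mem_FixD.1 he).1) _ _

/-- An element of `C(t)` centralising `D` modulo `⟨t⟩` centralises `z` and `zz`. -/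
theorem cent_of_bar {x : G} (hx : x * C.t = C.t * x)
    (h : C.bar x hx ∈ Subgroup.centralizer (C.Dbar : Set C.Bar)) :
    x * C.z = C.z * x ∧ x * C.zz = C.zz * x := by
  constructor
  · exact C.comm_of_bar hx (C.D_comm_t C.z_D) C.z_exp
      (Subgroup.mem_centralizer_iff.1 h _ (C.mem_Dbar.2 ⟨_, C.z_D, rfl⟩)).symm
  · exact C.comm_of_bar hx (C.D_comm_t C.zz_D) C.toLocH.zz_exp
      (Subgroup.mem_centralizer_iff.1 h _ (C.mem_Dbar.2 ⟨_, C.zz_D, rfl⟩)).symm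

theorem bar_mem_cent {x : G} (hx : x * C.t = C.t * x) (hz : x * C.z = C.z * x)
    (hzz : x * C.zz = C.zz * x) :
    C.bar x hx ∈ Subgroup.centralizer (C.Dbar : Set C.Bar) := by
  rw [Subgroup.mem_centralizer_iff]
  intro g hg
  obtain ⟨d, hd, rfl⟩ := C.mem_Dbar.1 hg
  obtain ⟨i, j, rfl⟩ := C.D_form hd
  rw [C.bar_mul, C.bar_mul]
  refine C.bar_congr ?_ _ _
  exact (((show Commute x C.z from hz).pow_right _).mul_right
    ((show Commute x C.zz from hzz).pow_right _)).eq.symm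

theorem bar_cent_even {g : C.CZ} (hs : Perm.sign (C.ρz g) = 1) (hzz : (g : G) * C.zz = C.zz * g)
    (hg : (g : G) * C.t = C.t * g) : C.bar (g : G) hg ∈ C.Dbar := by
  obtain ⟨i, a, j, hij⟩ := C.cent_even (mem_cent_singleton.1 g.2.1) hg hzz hs
  refine C.mem_Dbar.2 ⟨C.z ^ i * C.zz ^ a, mul_mem (pow_mem C.z_D i) (pow_mem C.zz_D a), ?_⟩
  rw [bar, bar, QuotientGroup.eq, Subgroup.mem_subgroupOf]
  show (C.z ^ i * C.zz ^ a)⁻¹ * (g : G) ∈ Subgroup.zpowers C.t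
  rw [hij, inv_mul_cancel_left]
  exact pow_mem (Subgroup.mem_zpowers _) j

variable (hdec : C.toLocH.Dec)
include hdec

/-- The action on the four generators. -/
theorem exists_sigma4 : ∃ σ : Subgroup.normalizer (C.Dbar : Set C.Bar) →* Perm (Fin 4),
    (∀ (g : Subgroup.normalizer (C.Dbar : Set C.Bar)) (i : Fin 4),
      (g : C.Bar) * C.pbar i * (g : C.Bar)⁻¹ = C.pbar (σ g i)) ∧
    (∀ g, σ g = 1 ↔ (g : C.Bar) ∈ Subgroup.centralizer (C.Dbar : Set C.Bar)) := by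
  have hex : ∀ g : Subgroup.normalizer (C.Dbar : Set C.Bar), ∀ i : Fin 4,
      ∃ j, (g : C.Bar) * C.pbar i * (g : C.Bar)⁻¹ = C.pbar j := by
    rintro ⟨g, hg⟩ i
    obtain ⟨x, hx, rfl⟩ := C.exists_bar g
    have hxD := C.norm_of_bar hx hg
    suffices h : ∃ j, x * C.pts i * x⁻¹ = C.pts j by
      obtain ⟨j, hj⟩ := h
      exact ⟨j, (C.bar_conj hx _).trans (C.bar_congr hj _ _)⟩
    have key : ∀ a : G, (a = C.z ∨ a = C.z⁻¹ ∨ a = C.zz ∨ a = C.zz⁻¹) → ∃ j, a = C.pts j := by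
      rintro a (rfl | rfl | rfl | rfl)
      · exact ⟨0, rfl⟩
      · exact ⟨2, rfl⟩
      · exact ⟨1, rfl⟩
      · exact ⟨3, rfl⟩
    have keyinv : ∀ a : G, (a = C.z ∨ a = C.z⁻¹ ∨ a = C.zz ∨ a = C.zz⁻¹) →
        (a⁻¹ = C.z ∨ a⁻¹ = C.z⁻¹ ∨ a⁻¹ = C.zz ∨ a⁻¹ = C.zz⁻¹) := by
      rintro a (rfl | rfl | rfl | rfl) <;> simp
    fin_cases i
    · exact key _ (C.z_image hdec hx hxD)
    · exact key _ (C.zz_image hdec hx hxD)
    · show ∃ j, x * C.z⁻¹ * x⁻¹ = C.pts j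
      rw [← conj_inv]; exact key _ (keyinv _ (C.z_image hdec hx hxD))
    · show ∃ j, x * C.zz⁻¹ * x⁻¹ = C.pts j
      rw [← conj_inv]; exact key _ (keyinv _ (C.zz_image hdec hx hxD))
  choose j hj using hex
  have hjinj : ∀ g, Function.Injective (j g) := fun g a b h => by
    have h2 := (hj g a).trans ((congrArg C.pbar h).trans (hj g b).symm)
    exact C.pbar_injective (mul_left_cancel (mul_right_cancel h2))
  let σ : Subgroup.normalizer (C.Dbar : Set C.Bar) →* Perm (Fin 4) :=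
    MonoidHom.mk' (fun g => Equiv.ofBijective (j g) (Finite.injective_iff_bijective.1 (hjinj g)))
      (fun a b => Equiv.ext (fun i => C.pbar_injective (by
        show C.pbar (j (a * b) i) = C.pbar (j a (j b i))
        rw [← hj, ← hj a, ← hj b]
        push_cast
        group)))
  refine ⟨σ, hj, fun g => ⟨fun h => ?_, fun h => ?_⟩⟩
  · rw [Subgroup.mem_centralizer_iff]
    intro d hd
    obtain ⟨e, he, rfl⟩ := C.mem_Dbar.1 hd
    obtain ⟨a, b, rfl⟩ := C.D_form he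
    have h0 : ∀ i, Commute (g : C.Bar) (C.pbar i) := fun i => by
      have := hj g i
      rw [show j g i = i from Equiv.ext_iff.1 h i] at this
      exact mul_inv_eq_iff_eq_mul.1 this
    exact ((h0 0).pow_right (a : ℕ)).mul_right ((h0 1).pow_right (b : ℕ)) |>.eq.symm
  · refine Equiv.ext (fun i => C.pbar_injective ?_)
    show C.pbar (j g i) = C.pbar i
    rw [← hj, ← Subgroup.mem_centralizer_iff.1 h (C.pbar i) (C.mem_Dbar.2 ⟨_, C.pts_D i, rfl⟩)]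
    exact mul_inv_cancel_right _ _

/-- The normal form in the quotient, with the values of the action. -/
theorem sigma4_form (σ : Subgroup.normalizer (C.Dbar : Set C.Bar) →* Perm (Fin 4))
    (hσ : ∀ (g : Subgroup.normalizer (C.Dbar : Set C.Bar)) (i : Fin 4),
      (g : C.Bar) * C.pbar i * (g : C.Bar)⁻¹ = C.pbar (σ g i)) :
    ∃ S H K : Subgroup.normalizer (C.Dbar : Set C.Bar),
      σ S = permS ∧ σ H = permH ∧ σ K = permK ∧ (S : C.Bar) = C.bar C.s C.s_t ∧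
      (H : C.Bar) = C.bar C.h C.toLocH.h_t ∧
      (∃ k : G, ∃ hk : k * C.t = C.t * k, (K : C.Bar) = C.bar k hk ∧ k ∈ C.L ∧ k * k = C.t ∧
        k * C.zz * k⁻¹ = C.zz⁻¹) ∧
      ∀ g, ∃ a b c : Fin 2, ∃ e : Subgroup.normalizer (C.Dbar : Set C.Bar),
        (e : C.Bar) ∈ Subgroup.centralizer (C.Dbar : Set C.Bar) ∧
        g = S ^ (c : ℕ) * H ^ (b : ℕ) * K ^ (a : ℕ) * e := by
  obtain ⟨k, hkN, hkL, hkt, hkk, hkzz, -⟩ := C.exists_k hdec
  have hkz := C.L_cent k hkL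
  have hkD : k ∈ Subgroup.normalizer (C.FixD : Set G) :=
    C.norm_D_of (by rw [hkz, mul_inv_cancel_right]; exact C.z_D)
      (by rw [hkzz]; exact inv_mem C.zz_D)
  have hhD : C.h ∈ Subgroup.normalizer (C.FixD : Set G) :=
    C.norm_D_of (by rw [C.h_z]; exact inv_mem C.z_D) (by rw [C.h_zz]; exact inv_mem C.zz_D)
  let S : Subgroup.normalizer (C.Dbar : Set C.Bar) :=
    ⟨C.bar C.s C.s_t, C.bar_mem_norm C.s_t (C.s_norm_D hdec)⟩
  let H : Subgroup.normalizer (C.Dbar : Set C.Bar) :=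
    ⟨C.bar C.h C.toLocH.h_t, C.bar_mem_norm C.toLocH.h_t hhD⟩
  let K : Subgroup.normalizer (C.Dbar : Set C.Bar) := ⟨C.bar k hkt, C.bar_mem_norm hkt hkD⟩
  have hval : ∀ (g : Subgroup.normalizer (C.Dbar : Set C.Bar)) (x : G) (hx : x * C.t = C.t * x)
      (p : Perm (Fin 4)), (g : C.Bar) = C.bar x hx → (∀ i, x * C.pts i * x⁻¹ = C.pts (p i)) →
      σ g = p := by
    intro g x hx p hg hp
    refine Equiv.ext (fun i => C.pbar_injective ?_)
    rw [← hσ, hg]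
    exact (C.bar_conj hx _).trans (C.bar_congr (hp i) _ _)
  have hfour : ∀ x : G, ∀ p : Perm (Fin 4), x * C.z * x⁻¹ = C.pts (p 0) →
      x * C.zz * x⁻¹ = C.pts (p 1) → (C.pts (p 2) = (C.pts (p 0))⁻¹) →
      (C.pts (p 3) = (C.pts (p 1))⁻¹) → ∀ i, x * C.pts i * x⁻¹ = C.pts (p i) := by
    intro x p h0 h1 h2 h3 i
    fin_cases i
    · exact h0
    · exact h1
    · show x * C.z⁻¹ * x⁻¹ = C.pts (p 2)
      rw [← conj_inv, h0, h2]
    · show x * C.zz⁻¹ * x⁻¹ = C.pts (p 3)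
      rw [← conj_inv, h1, h3]
  refine ⟨S, H, K, ?_, ?_, ?_, rfl, rfl, ⟨k, hkt, rfl, hkL, hkk, hkzz⟩, fun g => ?_⟩
  · exact hval S C.s C.s_t permS rfl (hfour _ _ rfl C.toLocH.s_zz rfl rfl)
  · exact hval H C.h C.toLocH.h_t permH rfl (hfour _ _ C.h_z C.h_zz (inv_inv _).symm (inv_inv _).symm)
  · refine hval K k hkt permK rfl (hfour _ _ ?_ hkzz rfl (inv_inv _).symm)
    rw [hkz, mul_inv_cancel_right]; rfl
  · obtain ⟨g, hg⟩ := g
    obtain ⟨x, hx, rfl⟩ := C.exists_bar g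
    obtain ⟨a, b, c, e, hez, hezz, het, hxe⟩ :=
      C.norm_form hdec hkN hkL hkzz hx (C.norm_of_bar hx hg)
    have hec := C.bar_mem_cent het hez hezz
    refine ⟨a, b, c, ⟨C.bar e het, Subgroup.centralizer_le_normalizer _ hec⟩, hec, Subtype.ext ?_⟩
    push_cast
    exact (C.bar_congr hxe hx (by rw [← hxe]; exact hx))

omit hdec in
/-- A 3-element of `C(D)` in the quotient lies in `D`. -/
theorem three_cent_Dbar {g : C.Bar} (hg : g ∈ Subgroup.centralizer (C.Dbar : Set C.Bar)) {n : ℕ}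
    (hn : g ^ 3 ^ n = 1) : g ∈ C.Dbar := by
  obtain ⟨x, hx, rfl⟩ := C.exists_bar g
  obtain ⟨hz, hzz⟩ := C.cent_of_bar hx hg
  refine C.bar_cent_even (g := ⟨x, C.mem_CZ hz hx⟩) ?_ hzz hx
  rw [C.bar_pow, C.bar_eq_one] at hn
  have h1 : C.ρz ⟨x, C.mem_CZ hz hx⟩ ^ 3 ^ n = 1 := by
    rcases hn with h | h
    · rw [← map_pow, show (⟨x, C.mem_CZ hz hx⟩ : C.CZ) ^ 3 ^ n = 1 from Subtype.ext h, map_one]
    · rw [← map_pow, show (⟨x, C.mem_CZ hz hx⟩ : C.CZ) ^ 3 ^ n = ⟨C.t, C.t_CZ⟩ from Subtype.ext h]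
      exact (C.ρ_L C.t_NZ C.t_L).trans C.π_t
  have h2 := congrArg Perm.sign h1
  rw [map_pow, map_one] at h2
  rcases Int.units_eq_one_or (Perm.sign (C.ρz ⟨x, C.mem_CZ hz hx⟩)) with h | h
  · exact h
  · exfalso
    rw [h, Odd.neg_one_pow (Odd.pow (by decide : Odd 3))] at h2
    exact absurd h2 (by decide)

/-- `D` is a Sylow 3-subgroup of the quotient. -/
theorem exists_sylow : ∃ P : Sylow 3 C.Bar, C.Dbar = P := by
  haveI : Fact (Nat.Prime 3) := ⟨Nat.prime_three⟩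
  have hp : IsPGroup 3 C.Dbar := IsPGroup.of_card (n := 2) (by rw [C.card_Dbar]; norm_num)
  obtain ⟨P, hP⟩ := hp.exists_le_sylow
  refine ⟨P, le_antisymm hP (le_of_eq ?_)⟩
  by_contra hne
  have hlt : C.Dbar < (P : Subgroup C.Bar) := lt_of_le_of_ne hP (fun e => hne e.symm)
  haveI : Group.IsNilpotent (P : Subgroup C.Bar) := P.isPGroup'.isNilpotent
  have hnc := (Group.isNilpotent_of_finite_tfae (G := (P : Subgroup C.Bar))).out 0 1
  have hcond : NormalizerCondition (P : Subgroup C.Bar) := hnc.1 inferInstance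
  have h2 := hcond (C.Dbar.subgroupOf (P : Subgroup C.Bar)) (lt_top_iff_ne_top.2 (fun e =>
    hlt.not_ge (Subgroup.subgroupOf_eq_top.1 e)))
  obtain ⟨g, hgN, hgD⟩ := SetLike.exists_of_lt h2
  have hgN' : (g : C.Bar) ∈ Subgroup.normalizer (C.Dbar : Set C.Bar) :=
    mem_normalizer_of_forall (fun d hd => conj_mem_normalizer
      (H := C.Dbar.subgroupOf (P : Subgroup C.Bar)) (x := ⟨d, hP hd⟩) hgN hd)
  obtain ⟨n, hn⟩ := P.isPGroup' g
  have hn' : (g : C.Bar) ^ 3 ^ n = 1 := congrArg Subtype.val hn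
  obtain ⟨σ, hσ, hker⟩ := C.exists_sigma4 hdec
  obtain ⟨S, H, K, hS, hH, hK, -, -, -, hform⟩ := C.sigma4_form hdec σ hσ
  obtain ⟨a, b, c, e, he, hge⟩ := hform ⟨g, hgN'⟩
  have hσg : σ ⟨g, hgN'⟩ ^ 3 ^ n = 1 := by
    rw [← map_pow, show (⟨(g : C.Bar), hgN'⟩ : Subgroup.normalizer (C.Dbar : Set C.Bar)) ^ 3 ^ n = 1
      from Subtype.ext hn', map_one]
  have hr : σ ⟨g, hgN'⟩ ∈ dihHom.range := by
    rw [hge, map_mul, map_mul, map_mul, map_pow, map_pow, map_pow, hS, hH, hK, (hker e).2 he, mul_one]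
    exact perm_dih a b c
  obtain ⟨d, hd⟩ := hr
  have h8 : σ ⟨g, hgN'⟩ ^ 8 = 1 := by
    rw [← hd, ← map_pow]
    have : d ^ Nat.card (DihedralGroup 4) = 1 := pow_card_eq_one'
    rw [DihedralGroup.nat_card] at this
    rw [show (8 : ℕ) = 2 * 4 from rfl, this, map_one]
  have h1 : σ ⟨g, hgN'⟩ = 1 := eq_one_of_pow_coprime hσg h8 (Nat.Coprime.pow_left n (by norm_num))
  exact hgD (C.three_cent_Dbar ((hker _).1 h1) hn')

/-- The image of `y`. -/
def ybar : C.Bar := C.bar C.y (C.D_comm_t (mul_mem C.z_D C.zz_D))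

omit hdec in
theorem ybar_eq : C.ybar = C.pbar 0 * C.pbar 1 := rfl

omit hdec in
theorem gen_Dbar : Subgroup.closure {C.ybar, C.pbar 0} = C.Dbar := by
  apply le_antisymm
  · rw [Subgroup.closure_le]
    rintro g (rfl | rfl)
    · exact C.mem_Dbar.2 ⟨_, mul_mem C.z_D C.zz_D, rfl⟩
    · exact C.mem_Dbar.2 ⟨_, C.z_D, rfl⟩
  · intro g hg
    obtain ⟨d, hd, rfl⟩ := C.mem_Dbar.1 hg
    obtain ⟨i, j, rfl⟩ := C.D_form hd
    have h0 : C.pbar 0 ∈ Subgroup.closure {C.ybar, C.pbar 0} :=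
      Subgroup.subset_closure (Or.inr rfl)
    have h1 : C.pbar 1 ∈ Subgroup.closure {C.ybar, C.pbar 0} := by
      have := mul_mem (inv_mem h0)
        (Subgroup.subset_closure (Or.inl rfl) : C.ybar ∈ Subgroup.closure {C.ybar, C.pbar 0})
      rwa [C.ybar_eq, inv_mul_cancel_left] at this
    exact mul_mem (pow_mem h0 (i : ℕ)) (pow_mem h1 (j : ℕ))

omit hdec in
theorem coord_inj {i i' j j' : Fin 3}
    (h : C.pbar 0 ^ (i : ℕ) * C.pbar 1 ^ (j : ℕ) = C.pbar 0 ^ (i' : ℕ) * C.pbar 1 ^ (j' : ℕ)) :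
    i = i' ∧ j = j' := by
  let f : Fin 3 × Fin 3 → C.Dbar := fun p => ⟨C.pbar 0 ^ (p.1 : ℕ) * C.pbar 1 ^ (p.2 : ℕ),
    mul_mem (pow_mem (C.mem_Dbar.2 ⟨_, C.pts_D 0, rfl⟩) _) (pow_mem (C.mem_Dbar.2 ⟨_, C.pts_D 1, rfl⟩) _)⟩
  have hsurj : Function.Surjective f := by
    rintro ⟨g, hg⟩
    obtain ⟨d, hd, rfl⟩ := C.mem_Dbar.1 hg
    obtain ⟨a, b, rfl⟩ := C.D_form hd
    exact ⟨(a, b), Subtype.ext rfl⟩
  have hinj := ((Nat.bijective_iff_surjective_and_card f).2 ⟨hsurj, by rw [C.card_Dbar]; simp⟩).1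
  have := @hinj (i, j) (i', j') (Subtype.ext h)
  exact ⟨congrArg Prod.fst this, congrArg Prod.snd this⟩

/-- Elements of the normaliser fixing or inverting `ȳ`. -/
theorem y_form (σ : Subgroup.normalizer (C.Dbar : Set C.Bar) →* Perm (Fin 4))
    (hσ : ∀ (g : Subgroup.normalizer (C.Dbar : Set C.Bar)) (i : Fin 4),
      (g : C.Bar) * C.pbar i * (g : C.Bar)⁻¹ = C.pbar (σ g i))
    (g : Subgroup.normalizer (C.Dbar : Set C.Bar)) (a b c : Fin 2)
    (hg : σ g = permS ^ (c : ℕ) * permH ^ (b : ℕ) * permK ^ (a : ℕ)) :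
    ((g : C.Bar) * C.ybar * (g : C.Bar)⁻¹ = C.ybar ↔ a = 0 ∧ b = 0) ∧
      ((g : C.Bar) * C.ybar * (g : C.Bar)⁻¹ = C.ybar⁻¹ ↔ a = 0 ∧ b = 1) := by
  have hy : (g : C.Bar) * C.ybar * (g : C.Bar)⁻¹ = C.pbar (σ g 0) * C.pbar (σ g 1) := by
    rw [C.ybar_eq, ← hσ, ← hσ]; group
  have hc : Commute (C.pbar 0) (C.pbar 1) :=
    C.Dbar_comm _ (C.mem_Dbar.2 ⟨_, C.pts_D 0, rfl⟩) _ (C.mem_Dbar.2 ⟨_, C.pts_D 1, rfl⟩)
  have h3 : ∀ i, C.pbar i ^ 3 = 1 := fun i => by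
    rw [pbar, C.bar_pow, C.bar_eq_one]
    exact Or.inl (C.D_exp (C.pts_D i))
  have hinv : ∀ i, (C.pbar i)⁻¹ = C.pbar i ^ 2 := fun i =>
    inv_eq_of_mul_eq_one_right (by rw [← pow_succ', h3])
  have hvec : ∀ i, C.pbar i = C.pbar 0 ^ ((vec i).1 : ℕ) * C.pbar 1 ^ ((vec i).2 : ℕ) := by
    intro i
    fin_cases i
    · show C.pbar 0 = C.pbar 0 ^ 1 * C.pbar 1 ^ 0
      simp
    · show C.pbar 1 = C.pbar 0 ^ 0 * C.pbar 1 ^ 1
      simp
    · show C.pbar 2 = C.pbar 0 ^ 2 * C.pbar 1 ^ 0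
      rw [pow_zero, mul_one, ← hinv]; rfl
    · show C.pbar 3 = C.pbar 0 ^ 0 * C.pbar 1 ^ 2
      rw [pow_zero, one_mul, ← hinv]; rfl
  have hadd : ∀ (x : C.Bar), x ^ 3 = 1 → ∀ i j : Fin 3,
      x ^ (i : ℕ) * x ^ (j : ℕ) = x ^ ((i + j : Fin 3) : ℕ) := by
    intro x hx i j
    rw [← pow_add, Fin.val_add]
    conv_lhs => rw [← Nat.mod_add_div ((i : ℕ) + (j : ℕ)) 3, pow_add, pow_mul, hx, one_pow, mul_one]
  have hprod : ∀ i j, C.pbar i * C.pbar j =
      C.pbar 0 ^ ((vec i + vec j).1 : ℕ) * C.pbar 1 ^ ((vec i + vec j).2 : ℕ) := by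
    intro i j
    rw [hvec i, hvec j, Prod.fst_add, Prod.snd_add, ← hadd _ (h3 0), ← hadd _ (h3 1),
      (hc.symm.pow_pow (vec i).2 (vec j).1).mul_mul_mul_comm]
  have hy1 : C.ybar = C.pbar 0 ^ ((1 : Fin 3) : ℕ) * C.pbar 1 ^ ((1 : Fin 3) : ℕ) := by
    show C.ybar = C.pbar 0 ^ 1 * C.pbar 1 ^ 1
    rw [pow_one, pow_one, C.ybar_eq]
  have hy2 : C.ybar⁻¹ = C.pbar 0 ^ ((2 : Fin 3) : ℕ) * C.pbar 1 ^ ((2 : Fin 3) : ℕ) := by
    show C.ybar⁻¹ = C.pbar 0 ^ 2 * C.pbar 1 ^ 2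
    rw [← hinv, ← hinv, C.ybar_eq, mul_inv_rev, hc.inv_inv.eq]
  obtain ⟨d1, d2⟩ := dih_pairs a b c
  rw [hy, hprod, hg]
  constructor
  · rw [← d1, hy1]
    exact ⟨fun h => Prod.ext (C.coord_inj h).1 (C.coord_inj h).2, fun h => by rw [h]⟩
  · rw [← d2, hy2]
    exact ⟨fun h => Prod.ext (C.coord_inj h).1 (C.coord_inj h).2, fun h => by rw [h]⟩

end LocC

end Cfsg.Lib.McLThree
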