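import Cfsg.Agent.Lib.McLThree.Coord
import Cfsg.Agent.Lib.Kondo.Transfer

/-!
When some element of `C(z, t)` induces an odd permutation, `G` has a subgroup of index two.
-/

set_option autoImplicit false
set_option linter.style.haveILetI false
set_option linter.unusedSectionVars false

namespace Cfsg.Lib.McLThree

open Equiv Cfsg.Lib.Recog.Icosa
open Cfsg.Lib.AltEightThree (mem_cent_singleton conj_mem_normalizer)

universe v

theorem j0_inverts : ∀ g : ASix, InP g → j0 * g * j0⁻¹ = g⁻¹ := by decide +kernel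

variable {G : Type v} [Group G] [Finite G]

namespace LocC

variable (C : LocC G) (hdec : C.toLocH.Dec) (e : C.Bar ≃* Perm (Fin 8))

/-- `C(t)` onto the symmetric group. -/
noncomputable def toEight : C.CT →* Perm (Fin 8) := e.toMonoidHom.comp (QuotientGroup.mk' C.Nt)

theorem toEight_surj : Function.Surjective (C.toEight e) :=
  e.surjective.comp QuotientGroup.mk_surjective

theorem toEight_apply {x : G} (hx : x * C.t = C.t * x) :
    C.toEight e ⟨x, mem_cent_singleton.2 hx⟩ = e (C.bar x hx) := rfl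

include e in
theorem card_CT : Nat.card C.CT = 80640 := by
  have h1 := Subgroup.card_eq_card_quotient_mul_card_subgroup C.Nt
  rw [Nat.card_congr e.toEquiv, Nat.card_perm, Nat.card_fin,
    show (8 : ℕ).factorial = 40320 from rfl,
    Nat.card_congr (Subgroup.subgroupOfEquivOfLe (Subgroup.zpowers_le.2
      (mem_cent_singleton.2 rfl : C.t ∈ C.CT))).toEquiv, Nat.card_zpowers, C.toLocT.order_t] at h1
  omega

include hdec in
theorem s_fpf : ∃ c : Perm (Fin 8), c * invRep 3 * c⁻¹ = e (C.bar C.s C.s_t) := by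
  have hs1 : C.s ≠ 1 := fun h => by
    have := C.toLocH.s_h
    rw [h, one_mul, inv_one, mul_one, eq_inv_iff_mul_eq_one, C.h_sq] at this
    exact C.toLocT.t_ne this
  have hs2 : C.s ≠ C.t := fun h => by
    have := C.toLocH.s_h
    rw [h, ← C.toLocH.h_t, mul_inv_cancel_right, eq_inv_iff_mul_eq_one, C.h_sq] at this
    exact C.toLocT.t_ne this
  rcases even_involution (e (C.bar C.s C.s_t)) (by
      rw [← map_mul, C.bar_mul, (C.bar_eq_one _).2 (Or.inl C.s_sq), map_one])
    (fun h => by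
      rcases (C.bar_eq_one _).1 (e.map_eq_one_iff.1 h) with h' | h'
      · exact hs1 h'
      · exact hs2 h') (C.sgn_s hdec e) with ⟨c, hc⟩ | h
  · exfalso
    have := C.sq_t_of_double hdec e C.s_t hc
    rw [C.s_sq] at this
    exact C.toLocT.t_ne this.symm
  · exact h

include hdec e in
theorem exists_sylow_two : ∃ P : Sylow 2 G, (P : Subgroup G) ≤ C.CT ∧
    Nat.card (P : Subgroup G) = 256 := by
  haveI : Fact (Nat.Prime 2) := ⟨Nat.prime_two⟩
  set tc : C.CT := ⟨C.t, mem_cent_singleton.2 rfl⟩ with htc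
  have hNp : IsPGroup 2 (Subgroup.zpowers tc) := IsPGroup.of_card (n := 1) (by
    rw [Nat.card_zpowers, pow_one, ← Subgroup.orderOf_coe]; exact C.toLocT.order_t)
  obtain ⟨T, hT⟩ := hNp.exists_le_sylow
  have hTc : Nat.card (T : Subgroup C.CT) = 256 := by
    obtain ⟨n, hn⟩ := IsPGroup.iff_card.1 T.isPGroup'
    have hd := Subgroup.card_subgroup_dvd_card (T : Subgroup C.CT)
    have hm := T.pow_dvd_card_of_pow_dvd_card (n := 8) (by rw [C.card_CT e]; norm_num)
    rw [C.card_CT e, hn] at hd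
    rw [hn] at hm ⊢
    have h8 : 8 ≤ n := (Nat.pow_dvd_pow_iff_le_right (by norm_num)).1 hm
    have hn8 : n ≤ 8 := by
      by_contra hc
      have := (pow_dvd_pow 2 (show 9 ≤ n by omega)).trans hd
      norm_num at this
    rw [le_antisymm hn8 h8]; norm_num
  obtain ⟨P, hP⟩ := (T.isPGroup'.map C.CT.subtype).exists_le_sylow
  have hPCT : (P : Subgroup G).subgroupOf C.CT = T :=
    T.is_maximal' (P.isPGroup'.comap_of_injective C.CT.subtype C.CT.subtype_injective)
      (fun x hx => hP ⟨x, hx, rfl⟩)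
  have htP : C.t ∈ (P : Subgroup G) := hP ⟨tc, hT (Subgroup.mem_zpowers _), rfl⟩
  suffices hle : (P : Subgroup G) ≤ C.CT by
    refine ⟨P, hle, ?_⟩
    rw [← Nat.card_congr (Subgroup.subgroupOfEquivOfLe hle).toEquiv, hPCT]
    exact hTc
  haveI : Nontrivial (P : Subgroup G) :=
    ⟨⟨1, ⟨C.t, htP⟩, fun h => C.toLocT.t_ne (congrArg Subtype.val h).symm⟩⟩
  haveI := IsPGroup.center_nontrivial P.isPGroup'
  have hcp : IsPGroup 2 (Subgroup.center (P : Subgroup G)) := P.isPGroup'.to_subgroup _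
  have h2c : 2 ∣ Nat.card (Subgroup.center (P : Subgroup G)) := by
    obtain ⟨n, hn0, hn⟩ := hcp.nontrivial_iff_card.1 inferInstance
    rw [hn]; exact dvd_pow_self 2 hn0.ne'
  obtain ⟨w, hw⟩ := exists_prime_orderOf_dvd_card' 2 h2c
  set u : G := ((w : (P : Subgroup G)) : G) with hu
  have huP : ∀ g ∈ (P : Subgroup G), g * u = u * g := fun g hg =>
    congrArg Subtype.val (Subgroup.mem_center_iff.1 w.2 ⟨g, hg⟩)
  have huu : u * u = 1 := by
    have := pow_orderOf_eq_one w
    rw [hw, pow_two] at this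
    exact congrArg (fun x : Subgroup.center (P : Subgroup G) => ((x : (P : Subgroup G)) : G)) this
  have hu1 : u ≠ 1 := by
    intro h
    have : w = 1 := Subtype.ext (Subtype.ext h)
    rw [this, orderOf_one] at hw
    norm_num at hw
  by_cases hut : u = C.t
  · intro g hg
    exact mem_cent_singleton.2 (hut ▸ huP g hg)
  exfalso
  have hutc : u * C.t = C.t * u := (huP C.t htP).symm
  set q := e (C.bar u hutc) with hq
  have hq1 : q ≠ 1 := fun h => by
    rcases (C.bar_eq_one _).1 (e.map_eq_one_iff.1 h) with h' | h'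
    · exact hu1 h'
    · exact hut h'
  have hqq : q * q = 1 := by
    rw [hq, ← map_mul, C.bar_mul, (C.bar_eq_one _).2 (Or.inl huu), map_one]
  have hTP : ∀ x : C.CT, x ∈ (T : Subgroup C.CT) → (x : G) ∈ (P : Subgroup G) :=
    fun x hx => hP ⟨x, hx, rfl⟩
  -- the image of `T` centralises `q`
  have hC128 : 128 ∣ Nat.card (Subgroup.centralizer ({q} : Set (Perm (Fin 8)))) := by
    set W := (T : Subgroup C.CT).map (C.toEight e) with hW
    have hle : W ≤ Subgroup.centralizer ({q} : Set (Perm (Fin 8))) := by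
      rintro _ ⟨⟨x, hx⟩, hxT, rfl⟩
      refine mem_cent_singleton.2 ?_
      show e (C.bar x (mem_cent_singleton.1 hx)) * q = q * e (C.bar x (mem_cent_singleton.1 hx))
      rw [hq, ← map_mul, ← map_mul, C.bar_mul, C.bar_mul]
      exact congrArg e (C.bar_congr (huP x (hTP _ hxT)) _ _)
    refine dvd_trans ?_ (Subgroup.card_dvd_of_le hle)
    have h1 := (T : Subgroup C.CT).card_map_dvd (C.toEight e)
    have hker : Nat.card (C.toEight e).ker = 2 := by
      have h2 := (C.toEight e).ker.card_mul_index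
      rw [Subgroup.index_ker, MonoidHom.range_eq_top.2 (C.toEight_surj e), Subgroup.card_top,
        Nat.card_perm, Nat.card_fin, show (8 : ℕ).factorial = 40320 from rfl, C.card_CT e] at h2
      omega
    let r : (T : Subgroup C.CT) →* Perm (Fin 8) := (C.toEight e).comp (T : Subgroup C.CT).subtype
    have h3 := r.ker.card_mul_index
    rw [Subgroup.index_ker, hTc] at h3
    have hrW : Nat.card r.range = Nat.card W := by
      rw [hW, MonoidHom.range_comp, Subgroup.range_subtype]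
    rw [hrW] at h3
    have hk : Nat.card r.ker ≤ 2 := by
      refine le_trans ?_ hker.le
      exact Nat.card_le_card_of_injective
        (fun x => (⟨((x : r.ker) : (T : Subgroup C.CT)), x.2⟩ : (C.toEight e).ker))
        (fun a b h => Subtype.ext (Subtype.ext (congrArg
          (fun y : (C.toEight e).ker => (y : C.CT)) h)))
    have hk0 : 0 < Nat.card r.ker := Nat.card_pos
    interval_cases hh : Nat.card r.ker
    · exact ⟨2, by omega⟩
    · exact ⟨1, by omega⟩
  obtain ⟨c, hc⟩ := central_involution q hqq hq1 hC128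
  obtain ⟨c', hc'⟩ := C.s_fpf hdec e
  obtain ⟨g, hg, hge⟩ := C.exists_bar (e.symm (c * c'⁻¹))
  have hbar : C.bar g hg * C.bar C.s C.s_t * (C.bar g hg)⁻¹ = C.bar u hutc := by
    apply e.injective
    rw [map_mul, map_mul, map_inv, hge, e.apply_symm_apply, ← hc', ← hq, ← hc]
    group
  rw [C.bar_conj] at hbar
  -- the conjugate of `T` centralises `s`
  set sT : C.CT := ⟨C.s, mem_cent_singleton.2 C.s_t⟩ with hsT
  set Cs := Subgroup.centralizer ({sT} : Set C.CT) with hCs
  have h256 : 256 ∣ Nat.card Cs := by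
    rw [← hTc]
    set gT : C.CT := ⟨g, mem_cent_singleton.2 hg⟩
    have hus : ∃ j : ℕ, u = g * C.s * g⁻¹ * C.t ^ j := by
      rcases C.bar_eq _ _ hbar with h | h
      · exact ⟨0, by rw [pow_zero, mul_one, h]⟩
      · exact ⟨1, by rw [pow_one, h]⟩
    obtain ⟨j, hj⟩ := hus
    refine (dvd_of_eq (Subgroup.card_map_of_injective (K := (T : Subgroup C.CT))
      (f := (MulAut.conj gT⁻¹).toMonoidHom) (MulAut.conj gT⁻¹).injective).symm).trans
      (Subgroup.card_dvd_of_le ?_)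
    rintro _ ⟨x, hxT, rfl⟩
    refine mem_cent_singleton.2 ?_
    show gT⁻¹ * x * gT⁻¹⁻¹ * sT = sT * (gT⁻¹ * x * gT⁻¹⁻¹)
    apply Subtype.ext
    push_cast
    show g⁻¹ * (x : G) * g⁻¹⁻¹ * C.s = C.s * (g⁻¹ * (x : G) * g⁻¹⁻¹)
    have hxu : Commute (x : G) u := huP _ (hTP x hxT)
    have hxt : Commute (x : G) C.t := mem_cent_singleton.1 x.2
    have hgs : Commute (x : G) (g * C.s * g⁻¹) := by
      have e1 : g * C.s * g⁻¹ = u * (C.t ^ j)⁻¹ := by rw [hj, mul_inv_cancel_right]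
      rw [e1]
      exact hxu.mul_right (hxt.pow_right j).inv_right
    calc g⁻¹ * (x : G) * g⁻¹⁻¹ * C.s = g⁻¹ * ((x : G) * (g * C.s * g⁻¹)) * g := by group
      _ = g⁻¹ * (g * C.s * g⁻¹ * (x : G)) * g := by rw [hgs.eq]
      _ = C.s * (g⁻¹ * (x : G) * g⁻¹⁻¹) := by group
  set Ps := (Subgroup.centralizer ({e (C.bar C.s C.s_t)} : Set (Perm (Fin 8)))).comap (C.toEight e)
    with hPs
  have hle : Cs ≤ Ps := by
    intro x hx
    refine mem_cent_singleton.2 ?_
    show C.toEight e x * C.toEight e sT = C.toEight e sT * C.toEight e x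
    rw [← map_mul, ← map_mul, mem_cent_singleton.1 hx]
  set hT' : C.CT := ⟨C.h, mem_cent_singleton.2 C.toLocH.h_t⟩ with hhT
  have htw : ∀ x : C.CT, x ∈ Ps → (x : G) * C.s = C.s * x ∨ (x : G) * C.s = C.s * x * C.t := by
    rintro ⟨x, hx⟩ hxP
    have h1 : e (C.bar x (mem_cent_singleton.1 hx)) * e (C.bar C.s C.s_t) =
        e (C.bar C.s C.s_t) * e (C.bar x (mem_cent_singleton.1 hx)) := mem_cent_singleton.1 hxP
    rw [← map_mul, ← map_mul, C.bar_mul, C.bar_mul] at h1
    exact C.bar_eq _ _ (e.injective h1).symm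
  have hh : C.h * C.s = C.s * C.h * C.t := by
    have h1 : C.s * C.h = C.h⁻¹ * C.s := mul_inv_eq_iff_eq_mul.1 C.s_h
    rw [h1, mul_assoc, C.s_t, ← mul_assoc, ← C.h_sq]
    group
  have hhP : hT' ∈ Ps := by
    refine mem_cent_singleton.2 ?_
    show e (C.bar C.h C.toLocH.h_t) * e (C.bar C.s C.s_t) =
      e (C.bar C.s C.s_t) * e (C.bar C.h C.toLocH.h_t)
    rw [← map_mul, ← map_mul, C.bar_mul, C.bar_mul]
    congr 1
    have hsh : C.s * C.h * C.t = C.t * (C.s * C.h) :=
      ((show Commute C.s C.t from C.s_t).mul_left C.toLocH.h_t).eq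
    have key : C.bar (C.s * C.h * C.t) (mem_cent_singleton.1 (sT * hT' * ⟨C.t, mem_cent_singleton.2 rfl⟩).2)
        = C.bar (C.s * C.h) hsh.symm.symm := by
      rw [← C.bar_mul (x := C.s * C.h) (y := C.t) hsh rfl, (C.bar_eq_one (x := C.t) rfl).2 (Or.inr rfl),
        mul_one]
    exact (C.bar_congr hh _ _).trans key
  have hidx : Cs.relIndex Ps = 2 := by
    rw [Subgroup.relIndex, Subgroup.index_eq_two_iff]
    refine ⟨⟨hT', hhP⟩, fun b => ?_⟩
    simp only [Subgroup.mem_subgroupOf, Subgroup.coe_mul]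
    rw [hCs]
    simp only [Subgroup.mem_centralizer_singleton_iff, Subtype.ext_iff, Subgroup.coe_mul, hhT, hsT]
    have hbt : Commute (((b : Ps) : C.CT) : G) C.t := mem_cent_singleton.1 (b : C.CT).2
    have hne : ∀ y : G, y ≠ y * C.t := fun y h => C.toLocT.t_ne (mul_eq_left.1 h.symm)
    rcases htw b b.2 with h | h
    · refine Or.inr ⟨h, fun h' => hne (C.s * ((b : C.CT) : G) * C.h) ?_⟩
      calc C.s * ((b : C.CT) : G) * C.h = ((b : C.CT) : G) * C.h * C.s := by
            rw [mul_assoc C.s]; exact h'.symm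
        _ = ((b : C.CT) : G) * (C.s * C.h * C.t) := by rw [mul_assoc, hh]
        _ = ((b : C.CT) : G) * C.s * C.h * C.t := by group
        _ = _ := by rw [h]
    · refine Or.inl ⟨?_, fun h' => hne _ (h'.symm.trans h)⟩
      calc ((b : C.CT) : G) * C.h * C.s = ((b : C.CT) : G) * (C.s * C.h * C.t) := by rw [mul_assoc, hh]
        _ = ((b : C.CT) : G) * C.s * C.h * C.t := by group
        _ = C.s * ((b : C.CT) : G) * (C.t * C.h) * C.t := by rw [h]; group
        _ = C.s * ((b : C.CT) : G) * C.h * (C.t * C.t) := by rw [← C.toLocH.h_t]; group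
        _ = C.s * (((b : C.CT) : G) * C.h) := by rw [C.t_sq, mul_one, mul_assoc]
  have h2 : 2 ∣ Cs.index := hidx ▸ Subgroup.relIndex_dvd_index_of_le hle
  have h3 := Cs.card_mul_index
  rw [C.card_CT e] at h3
  have h4 : 256 * 2 ∣ 80640 := h3 ▸ Nat.mul_dvd_mul h256 h2
  norm_num at h4

include hdec e in
/-- An involution inverting `J` is not conjugate to `t`. -/
theorem inverting_not_conj {a : G} (haN : a ∈ Subgroup.normalizer (C.J : Set G)) (haa : a * a = 1)
    (hinv : ∀ x ∈ C.J, a * x * a⁻¹ = x⁻¹) : ¬ ∃ g : G, g * C.t * g⁻¹ = a := by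
  rintro ⟨g, hg⟩
  haveI : Fact (Nat.Prime 3) := ⟨Nat.prime_three⟩
  -- the centraliser of `a` in `M` covers the quotient
  let W : Subgroup C.M := (Subgroup.centralizer ({a} : Set G)).subgroupOf C.M
  let r : W →* ASix := C.θ.comp W.subtype
  have hrinj : Function.Injective r := by
    rw [injective_iff_map_eq_one]
    intro m hm
    have hJ : ((m : C.M) : G) ∈ C.J := (C.θ_ker _).1 hm
    have hc : ((m : C.M) : G) * a = a * ((m : C.M) : G) := mem_cent_singleton.1 m.2
    have h1 := hinv _ hJ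
    rw [← hc, mul_inv_cancel_right, eq_inv_iff_mul_eq_one, ← pow_two] at h1
    exact Subtype.ext (Subtype.ext (eq_one_of_pow_coprime h1 (C.J_exp _ hJ) (by norm_num)))
  have hrsurj : Function.Surjective r := by
    intro p
    obtain ⟨m, hm⟩ := C.θ_surj p
    have hm' : a * (m : G) * a⁻¹ ∈ C.M := C.M_conj a haN m m.2
    set x := (m : G)⁻¹ * (a * (m : G) * a⁻¹) with hx
    have hxM : x ∈ C.M := mul_mem (inv_mem m.2) hm'
    have hxc : ∀ y ∈ C.J, x * y = y * x := by
      intro y hy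
      apply mul_inv_eq_iff_eq_mul.1
      have e1 : x * y * x⁻¹ = (m : G)⁻¹ * (a * ((m : G) * (a⁻¹ * y * a) * (m : G)⁻¹) * a⁻¹) * (m : G) := by
        rw [hx]; group
      have hai : a⁻¹ = a := inv_eq_of_mul_eq_one_right haa
      have e2 : a⁻¹ * y * a = y⁻¹ := by
        conv_lhs => rw [hai]
        conv_lhs => arg 2; rw [← hai]
        exact hinv y hy
      rw [e1, e2, hinv _ (C.toLocJ.conj_J m (inv_mem hy)), conj_inv, inv_inv]
      group
    have hxJ : x ∈ C.J := C.toLoc.cent_J hxc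
    set m' := m * ⟨x ^ 2, pow_mem hxM 2⟩ with hm''
    have hc : ((m' : C.M) : G) * a = a * ((m' : C.M) : G) := by
      apply Eq.symm
      apply mul_inv_eq_iff_eq_mul.1
      show a * ((m : G) * x ^ 2) * a⁻¹ = (m : G) * x ^ 2
      rw [← conj_mul, show a * (m : G) * a⁻¹ = (m : G) * x by rw [hx, mul_inv_cancel_left],
        hinv _ (pow_mem hxJ 2), mul_assoc]
      congr 1
      rw [mul_inv_eq_iff_eq_mul, ← pow_add, show 2 + 2 = 3 + 1 from rfl, pow_succ, C.J_exp x hxJ,
        one_mul]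
    refine ⟨⟨m', mem_cent_singleton.2 hc⟩, ?_⟩
    show C.θ m' = p
    rw [hm'', map_mul, (C.θ_ker ⟨x ^ 2, pow_mem hxM 2⟩).2 (pow_mem hxJ 2), mul_one, hm]
  let σ : ASix ≃* W := (MulEquiv.ofBijective r ⟨hrinj, hrsurj⟩).symm
  let ι0 : ASix →* G :=
    (MulAut.conj g⁻¹).toMonoidHom.comp (C.M.subtype.comp (W.subtype.comp σ.toMonoidHom))
  have hι0 : Function.Injective ι0 := fun p q h => σ.injective (Subtype.ext (Subtype.ext
    ((MulAut.conj g⁻¹).injective h)))
  have hι0t : ∀ p, ι0 p * C.t = C.t * ι0 p := by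
    intro p
    show g⁻¹ * (((σ p : W) : C.M) : G) * g⁻¹⁻¹ * C.t = C.t * (g⁻¹ * (((σ p : W) : C.M) : G) * g⁻¹⁻¹)
    have hc : (((σ p : W) : C.M) : G) * a = a * (((σ p : W) : C.M) : G) :=
      mem_cent_singleton.1 (σ p).2
    calc g⁻¹ * (((σ p : W) : C.M) : G) * g⁻¹⁻¹ * C.t
        = g⁻¹ * ((((σ p : W) : C.M) : G) * (g * C.t * g⁻¹)) * g := by group
      _ = g⁻¹ * ((g * C.t * g⁻¹) * (((σ p : W) : C.M) : G)) * g := by rw [hg, hc]
      _ = _ := by group
  -- move the Sylow subgroup onto `D`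
  let P0 : Subgroup C.CT := (sylP.map ι0).subgroupOf C.CT
  have hP0le : sylP.map ι0 ≤ C.CT := by
    rintro _ ⟨p, -, rfl⟩
    exact mem_cent_singleton.2 (hι0t p)
  have hP0 : Nat.card P0 = 9 := by
    rw [Nat.card_congr (Subgroup.subgroupOfEquivOfLe hP0le).toEquiv,
      Subgroup.card_map_of_injective hι0, card_sylP]
  have hDle : C.FixD ≤ C.CT := fun d hd => mem_cent_singleton.2 (C.D_comm_t hd)
  have hD0 : Nat.card (C.FixD.subgroupOf C.CT) = 9 := by
    rw [Nat.card_congr (Subgroup.subgroupOfEquivOfLe hDle).toEquiv, C.card_FixD]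
  have hsyl : ∀ P : Subgroup C.CT, Nat.card P = 9 → ∃ T : Sylow 3 C.CT, (T : Subgroup C.CT) = P := by
    intro P hP
    obtain ⟨T, hT⟩ := (IsPGroup.of_card (n := 2) (by rw [hP]; norm_num) : IsPGroup 3 P).exists_le_sylow
    refine ⟨T, (Subgroup.eq_of_le_of_card_ge hT ?_).symm⟩
    obtain ⟨n, hn⟩ := IsPGroup.iff_card.1 T.isPGroup'
    have hd := Subgroup.card_subgroup_dvd_card (T : Subgroup C.CT)
    rw [C.card_CT e, hn] at hd
    rw [hP, hn]
    by_contra hc
    have h3 : 3 ≤ n := by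
      by_contra h3
      exact hc (by interval_cases n <;> norm_num)
    have := (pow_dvd_pow 3 h3).trans hd
    norm_num at this
  obtain ⟨T0, hT0⟩ := hsyl P0 hP0
  obtain ⟨T1, hT1⟩ := hsyl _ hD0
  obtain ⟨c, hc⟩ := MulAction.exists_smul_eq C.CT T0 T1
  let ι : ASix →* G := (MulAut.conj (c : G)).toMonoidHom.comp ι0
  have hιt : ∀ p, ι p * C.t = C.t * ι p := by
    intro p
    have hct : Commute (c : G) C.t := mem_cent_singleton.1 c.2
    exact ((hct.mul_left (hι0t p)).mul_left hct.inv_left).eq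
  have hιD : ∀ d ∈ C.FixD, ∃ p, InP p ∧ ι p = d := by
    intro d hd
    have h1 : (⟨d, hDle hd⟩ : C.CT) ∈ (T1 : Subgroup C.CT) := by rw [hT1]; exact hd
    rw [← hc] at h1
    obtain ⟨y, hy, hyd⟩ := h1
    rw [SetLike.mem_coe, hT0] at hy
    obtain ⟨p, hp, hpy⟩ := hy
    refine ⟨p, mem_sylP.1 hp, ?_⟩
    have h2 := congrArg Subtype.val hyd
    show (c : G) * ι0 p * (c : G)⁻¹ = d
    rw [show ι0 p = (y : G) from hpy]
    exact h2
  let ιC : ASix →* C.CT := ι.codRestrict C.CT (fun p => mem_cent_singleton.2 (hιt p))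
  set v := ι j0 with hv
  have hvv : v * v = 1 := by rw [hv, ← map_mul, six_basic.2.2.2.1, map_one]
  have hvD : ∀ d ∈ C.FixD, v * d * v⁻¹ = d⁻¹ := by
    intro d hd
    obtain ⟨p, hp, rfl⟩ := hιD d hd
    rw [hv, ← map_inv, ← map_mul, ← map_mul, j0_inverts p hp, map_inv]
  have hsv : C.sgn e ⟨v, mem_cent_singleton.2 (hιt j0)⟩ = 1 := by
    have h1 : C.sgn e (ιC (h0 * s0 * h0⁻¹ * s0⁻¹)) = 1 := by
      rw [map_mul, map_mul, map_mul, map_inv, map_inv, map_mul, map_mul, map_mul, map_inv, map_inv,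
        mul_right_comm (C.sgn e (ιC h0)), mul_inv_cancel, one_mul, mul_inv_cancel]
    rwa [six_basic.2.2.2.2.2.2.2.2.2.2.2.2.2.2.2.2.2.2] at h1
  set w := C.h⁻¹ * v with hw
  have hwt : w * C.t = C.t * w :=
    ((show Commute C.h C.t from C.toLocH.h_t).inv_left.mul_left (hιt j0)).eq
  have hwfix : ∀ x ∈ C.FixD, C.h * x * C.h⁻¹ = x⁻¹ → w * x = x * w := by
    intro x hx hhx
    apply mul_inv_eq_iff_eq_mul.1
    calc w * x * w⁻¹ = C.h⁻¹ * (v * x * v⁻¹) * C.h := by rw [hw]; group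
      _ = C.h⁻¹ * x⁻¹ * C.h := by rw [hvD x hx]
      _ = C.h⁻¹ * (C.h * x * C.h⁻¹) * C.h := by rw [hhx]
      _ = x := by group
  have hwz := hwfix _ C.z_D C.h_z
  have hwzz := hwfix _ C.zz_D C.h_zz
  have hsw : Perm.sign (C.ρ ⟨w, C.mem_NZ_of_cent hwz hwt⟩) = 1 := by
    have h1 := C.sgn_CZ e ⟨w, C.mem_CZ hwz hwt⟩
    rw [show (⟨((⟨w, C.mem_CZ hwz hwt⟩ : C.CZ) : G), (C.mem_CZ hwz hwt).2⟩ : C.CT) =
      (⟨C.h, mem_cent_singleton.2 C.toLocH.h_t⟩ : C.CT)⁻¹ * ⟨v, mem_cent_singleton.2 (hιt j0)⟩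
      from rfl, map_mul, map_inv, C.sgn_h hdec e, hsv, inv_one, mul_one] at h1
    exact h1.symm
  obtain ⟨i, k, j, hij⟩ := C.cent_even hwz hwt hwzz hsw
  set d := C.z ^ i * C.zz ^ k with hd
  have hdD : d ∈ C.FixD := mul_mem (pow_mem C.z_D i) (pow_mem C.zz_D k)
  have hvd : v = C.h ^ 1 * d * C.t ^ j := by
    rw [pow_one, mul_assoc C.h, ← hij, hw, mul_inv_cancel_left]
  have hct : Commute (C.h ^ 1 * d) (C.t ^ j) := by
    rw [pow_one]
    exact ((show Commute C.h C.t from C.toLocH.h_t).mul_left (C.D_comm_t hdD)).pow_right j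
  rw [hvd, hct.symm.mul_mul_mul_comm, C.hd_sq (c := 1) rfl hdD, ← pow_add, ← two_mul, pow_mul,
    pow_two, C.t_sq, one_pow, mul_one] at hvv
  exact C.toLocT.t_ne hvv

include hdec e in
/-- Some involution is not conjugate to `t`. -/
theorem exists_not_conj (hodd : ¬ C.EvenType) :
    ∃ a : G, a * a = 1 ∧ a ≠ 1 ∧ ¬ ∃ g : G, g * C.t * g⁻¹ = a := by
  obtain ⟨u, hρu, huzz, hu2⟩ := C.exists_u hodd hdec
  have hut : (u : G) * C.t = C.t * u := mem_cent_singleton.1 u.2.2
  have huz : (u : G) * C.z = C.z * u := mem_cent_singleton.1 u.2.1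
  have hne : (u : G) ≠ 1 ∧ (u : G) ≠ C.t := by
    have hs : Perm.sign (C.ρz u) = -1 := by rw [hρu]; exact five_basic.2.2.2
    constructor
    · intro h
      rw [show u = 1 from Subtype.ext h, map_one, map_one] at hs
      exact absurd hs (by decide)
    · intro h
      rw [show u = ⟨C.t, C.t_CZ⟩ from Subtype.ext h,
        show C.ρz ⟨C.t, C.t_CZ⟩ = 1 from (C.ρ_L C.t_NZ C.t_L).trans C.π_t, map_one] at hs
      exact absurd hs (by decide)
  have huN : (u : G) ∈ Subgroup.normalizer (C.J : Set G) :=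
    C.k_norm_J huz (by rw [huzz, mul_inv_cancel_right]; exact C.zz_J)
  rcases hu2 with huu | huu
  · refine ⟨u, huu, hne.1, ?_⟩
    rintro ⟨g, hg⟩
    set W := C.J ⊓ Subgroup.centralizer ({(u : G)} : Set G) with hW
    have hDW : C.FixD ≤ W := by
      intro d hd
      refine ⟨(C.mem_FixD.1 hd).1, mem_cent_singleton.2 ?_⟩
      obtain ⟨i, j, rfl⟩ := C.D_form hd
      exact ((show Commute C.z (u : G) from huz.symm).pow_left _ |>.mul_left
        ((show Commute C.zz (u : G) from huzz.symm).pow_left _)).eq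
    have h27 : ¬ 27 ∣ Nat.card W := by
      intro h
      have hle : W.map (MulAut.conj g⁻¹).toMonoidHom ≤ C.CT := by
        rintro _ ⟨x, hx, rfl⟩
        refine mem_cent_singleton.2 ?_
        show g⁻¹ * x * g⁻¹⁻¹ * C.t = C.t * (g⁻¹ * x * g⁻¹⁻¹)
        calc g⁻¹ * x * g⁻¹⁻¹ * C.t = g⁻¹ * (x * (g * C.t * g⁻¹)) * g := by group
          _ = g⁻¹ * ((g * C.t * g⁻¹) * x) * g := by rw [hg, mem_cent_singleton.1 hx.2]
          _ = _ := by group
      have h2 := Subgroup.card_dvd_of_le hle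
      rw [Subgroup.card_map_of_injective (MulAut.conj g⁻¹).injective, C.card_CT e] at h2
      have := h.trans h2
      norm_num at this
    have hWD : W = C.FixD := by
      refine (Subgroup.eq_of_le_of_card_ge hDW ?_).symm
      have hd := Subgroup.card_dvd_of_le (inf_le_left : W ≤ C.J)
      rw [C.J_card, show (81 : ℕ) = 3 ^ 4 from rfl] at hd
      obtain ⟨n, -, hn⟩ := (Nat.dvd_prime_pow Nat.prime_three).1 hd
      rw [hn] at h27
      rw [C.card_FixD, hn]
      by_contra hlt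
      have h3 : 3 ≤ n := by
        by_contra h3
        exact hlt (by interval_cases n <;> norm_num)
      exact h27 (by rw [show (27 : ℕ) = 3 ^ 3 from rfl]; exact pow_dvd_pow 3 h3)
    have hprod : ∀ (f : G), f * f = 1 → f ∈ Subgroup.normalizer (C.J : Set G) → ∀ x ∈ C.J,
        x * (f * x * f⁻¹) ∈ C.J ∧ f * (x * (f * x * f⁻¹)) = x * (f * x * f⁻¹) * f := by
      intro f hff hfN x hx
      have hm : f * x * f⁻¹ ∈ C.J := conj_mem_normalizer hfN hx
      refine ⟨mul_mem hx hm, mul_inv_eq_iff_eq_mul.1 ?_⟩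
      rw [← conj_mul, conj_conj, hff, one_mul, inv_one, mul_one, C.J_comm _ hm x hx]
    have hw : ∀ x ∈ C.J, ((u : G) * C.t) * x * ((u : G) * C.t)⁻¹ = x := by
      intro x hx
      set f := (u : G) * C.t with hf
      have hmt : C.t * x * C.t⁻¹ ∈ C.J := C.t_conj_J hx
      obtain ⟨h1, h1'⟩ := hprod C.t C.t_sq (C.M_norm C.t_M) x hx
      obtain ⟨h2, h2'⟩ := hprod (u : G) huu huN x hx
      have hd1 : x * (C.t * x * C.t⁻¹) ∈ C.FixD := C.mem_FixD.2 ⟨h1, h1'⟩
      have hd2 : x * ((u : G) * x * (u : G)⁻¹) ∈ C.FixD :=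
        hWD ▸ (⟨h2, mem_cent_singleton.2 h2'.symm⟩ : _ ∈ W)
      have hfD : ∀ d ∈ C.FixD, f * d * f⁻¹ = d := by
        intro d hd
        rw [hf, ← conj_conj, (C.mem_FixD.1 hd).2, mul_inv_cancel_right]
        have := mem_cent_singleton.1 (hDW hd).2
        rw [← this, mul_inv_cancel_right]
      obtain ⟨d, hdD, hd⟩ : ∃ d ∈ C.FixD, f * x * f⁻¹ = x * d := by
        set d1 := x * (C.t * x * C.t⁻¹) with hd1def
        set d2 := x * ((u : G) * x * (u : G)⁻¹) with hd2def
        refine ⟨d1 * d2⁻¹, mul_mem hd1 (inv_mem hd2), ?_⟩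
        have ht1 : C.t * x * C.t⁻¹ = x⁻¹ * d1 := by rw [hd1def, inv_mul_cancel_left]
        have hu1' : (u : G) * x * (u : G)⁻¹ = x⁻¹ * d2 := by rw [hd2def, inv_mul_cancel_left]
        have hud : (u : G) * d1 * (u : G)⁻¹ = d1 := by
          have := mem_cent_singleton.1 (hDW hd1).2
          rw [← this, mul_inv_cancel_right]
        rw [hf, ← conj_conj, ht1, ← conj_mul, ← conj_inv, hu1', hud, mul_inv_rev, inv_inv,
          C.J_comm _ (inv_mem (C.mem_FixD.1 hd2).1) x hx, mul_assoc,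
          C.J_comm _ (inv_mem (C.mem_FixD.1 hd2).1) d1 (C.mem_FixD.1 hd1).1]
      have hff : f * f = 1 := by
        rw [hf, (show Commute C.t (u : G) from hut.symm).mul_mul_mul_comm, huu, C.t_sq, mul_one]
      have h3 : f * (f * x * f⁻¹) * f⁻¹ = x := by rw [conj_conj, hff]; group
      rw [hd, ← conj_mul, hd, hfD d hdD, mul_assoc, mul_eq_left, ← pow_two] at h3
      rw [hd, eq_one_of_pow_coprime h3 (C.J_exp d (C.mem_FixD.1 hdD).1) (by norm_num), mul_one]
    have hmem : (u : G) * C.t ∈ C.J :=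
      C.toLoc.cent_J (fun x hx => mul_inv_eq_iff_eq_mul.1 (hw x hx))
    have h2 : ((u : G) * C.t) ^ 2 = 1 := by
      rw [pow_two, (show Commute C.t (u : G) from hut.symm).mul_mul_mul_comm, huu, C.t_sq, mul_one]
    have h1 := eq_one_of_pow_coprime h2 (C.J_exp _ hmem) (by norm_num)
    exact hne.2 (by rw [mul_eq_one_iff_eq_inv] at h1; rw [h1]; exact C.toLocT.t_inv)
  · obtain ⟨a, haN, hinv⟩ := C.exists_inverting hut huz huzz huu
    have ha2 : a * a ∈ C.J := C.toLoc.cent_J (fun x hx => mul_inv_eq_iff_eq_mul.1 (by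
      rw [← conj_conj, hinv x hx, ← conj_inv, hinv x hx, inv_inv]))
    have h6 : (a ^ 3) * (a ^ 3) = 1 := by
      have := C.J_exp _ ha2
      rw [← pow_two, ← pow_mul] at this
      rw [← pow_add]; exact this
    have hinv3 : ∀ x ∈ C.J, a ^ 3 * x * (a ^ 3)⁻¹ = x⁻¹ := by
      intro x hx
      rw [pow_three, ← conj_conj, ← conj_conj, hinv x hx, ← conj_inv, hinv x hx, inv_inv, hinv x hx]
    refine ⟨a ^ 3, h6, ?_, C.inverting_not_conj hdec e (pow_mem haN 3) h6 hinv3⟩
    intro h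
    have h1 := hinv3 _ C.toLoc.z_J
    rw [h, one_mul, inv_one, mul_one, eq_inv_iff_mul_eq_one, ← pow_two] at h1
    exact C.z_ne (eq_one_of_pow_coprime h1 C.z_exp (by norm_num))

include hdec in
theorem exists_index_two (hodd : ¬ C.EvenType) : ∃ H : Subgroup G, H.Normal ∧ H.index = 2 := by
  by_contra hcon
  push Not at hcon
  obtain ⟨e⟩ := C.exists_iso hdec hodd
  obtain ⟨P, hP, -⟩ := C.exists_sylow_two hdec e
  obtain ⟨a, haa, ha1, hna⟩ := C.exists_not_conj hdec e hodd
  obtain ⟨g, hg, hφ, -⟩ := Cfsg.Agent.Kondo.exists_extremal_conj (fun H hH => hcon H hH) P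
    ((C.sgn e).comp (Subgroup.inclusion hP)) a haa
  have hvt : g⁻¹ * a * g * C.t = C.t * (g⁻¹ * a * g) := mem_cent_singleton.1 (hP hg)
  obtain ⟨g', hg'⟩ := C.inner_conj_t hdec e hvt (by
      calc g⁻¹ * a * g * (g⁻¹ * a * g) = g⁻¹ * (a * a) * g := by group
        _ = 1 := by rw [haa]; group)
    (fun h => ha1 (by
      calc a = g * (g⁻¹ * a * g) * g⁻¹ := by group
        _ = 1 := by rw [h]; group)) hφ
  apply hna
  refine ⟨g * g', ?_⟩
  calc g * g' * C.t * (g * g')⁻¹ = g * (g' * C.t * g'⁻¹) * g⁻¹ := by group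
    _ = a := by rw [hg']; group

end LocC

end Cfsg.Lib.McLThree
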