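import Cfsg.Agent.Lib.McLThree.Frame

/-!
The element `h` inverts the fixed group of `t` on `J`.
-/

set_option autoImplicit false
set_option linter.style.haveILetI false
set_option linter.unusedSectionVars false

namespace Cfsg.Lib.McLThree

open Cfsg.Lib.Recog.Icosa
open Cfsg.Lib.AltEightThree (mem_cent_singleton conj_mem_normalizer mem_normalizer_of_forall
  mem_normalizer_of_cent)

variable {G : Type*} [Group G] [Finite G]

/-- The configuration with the normalised map onto the alternating group. -/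
structure LocJ (G : Type*) [Group G] extends LocT G where
  /-- the normalised map onto the alternating group -/
  θ : toLocT.M →* ASix
  θ_surj : Function.Surjective θ
  θ_ker : ∀ m : toLocT.M, θ m = 1 ↔ (m : G) ∈ toLocT.J
  θ_S : ∀ m : toLocT.M, InP (θ m) ↔ (m : G) ∈ (toLocT.S : Subgroup G)
  t_M : toLocT.t ∈ toLocT.M
  θ_t : θ ⟨toLocT.t, t_M⟩ = j0

namespace LocJ

variable (F : LocJ G)

theorem S_M {s : G} (hs : s ∈ (F.S : Subgroup G)) : s ∈ F.M := F.toLoc.S_le_M hs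

theorem J_M {a : G} (ha : a ∈ F.J) : a ∈ F.M := F.toLoc.J_le_M ha

theorem θ_eq {m m' : F.M} (h : F.θ m = F.θ m') : (m : G)⁻¹ * (m' : G) ∈ F.J :=
  (F.θ_ker (m⁻¹ * m')).1 (by rw [map_mul, map_inv, h, inv_mul_cancel])

theorem conj_J (m : F.M) {a : G} (ha : a ∈ F.J) : (m : G) * a * (m : G)⁻¹ ∈ F.J :=
  conj_mem_normalizer (F.M_norm m.2) ha

theorem norm_S (m : F.M) (hm : NormP (F.θ m)) {s : G} (hs : s ∈ (F.S : Subgroup G)) :
    (m : G) * s * (m : G)⁻¹ ∈ (F.S : Subgroup G) := by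
  refine (F.θ_S (m * ⟨s, F.S_M hs⟩ * m⁻¹)).1 ?_
  have hsP : InP (F.θ ⟨s, F.S_M hs⟩) := (F.θ_S _).2 hs
  obtain ⟨a, b, hab⟩ := hsP
  rw [map_mul, map_mul, map_inv, hab, ← mem_sylP, ← conj_mul, ← conj_pow, ← conj_pow]
  exact mul_mem (pow_mem hm.1 _) (pow_mem hm.2 _)

theorem normP_inv : ∀ g : ASix, NormP g → NormP g⁻¹ := by decide +kernel

theorem conj_z (m : F.M) (hm : NormP (F.θ m)) :
    (m : G) * F.z * (m : G)⁻¹ ∈ Subgroup.zpowers F.z := by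
  refine F.S_centre _ (F.norm_S m hm (F.Q_le F.z_mem)) (fun r hr => ?_)
  have h1 := F.norm_S m⁻¹ (by rw [map_inv]; exact normP_inv _ hm) hr
  have h2 : Commute ((m : G)⁻¹ * r * (m : G)) F.z := F.z_S _ (by simpa using h1)
  calc (m : G) * F.z * (m : G)⁻¹ * r
      = (m : G) * (F.z * ((m : G)⁻¹ * r * (m : G))) * (m : G)⁻¹ := by group
    _ = (m : G) * (((m : G)⁻¹ * r * (m : G)) * F.z) * (m : G)⁻¹ := by rw [h2.eq]
    _ = r * ((m : G) * F.z * (m : G)⁻¹) := by group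

/-- An element of `M` over an element commuting with `j0` can be chosen to commute with `t`. -/
theorem exists_cent_t (u : ASix) (hu : u * j0 = j0 * u) :
    ∃ m : F.M, F.θ m = u ∧ (m : G) * F.t = F.t * (m : G) := by
  obtain ⟨m, hm⟩ := F.θ_surj u
  have hJ : F.t * ((m : G) * F.t * (m : G)⁻¹) ∈ F.J := by
    refine (F.θ_ker (⟨F.t, F.t_M⟩ * (m * ⟨F.t, F.t_M⟩ * m⁻¹))).1 ?_
    rw [map_mul, map_mul, map_mul, map_inv, hm, F.θ_t, hu, mul_inv_cancel_right, six_basic.2.2.2.1]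
  set a := F.t * ((m : G) * F.t * (m : G)⁻¹) with ha
  have hta : F.t * a = (m : G) * F.t * (m : G)⁻¹ := by rw [ha, ← mul_assoc, F.t_sq, one_mul]
  have hsq : (F.t * a) * (F.t * a) = 1 := by
    rw [hta]
    calc (m : G) * F.t * (m : G)⁻¹ * ((m : G) * F.t * (m : G)⁻¹)
        = (m : G) * (F.t * F.t) * (m : G)⁻¹ := by group
      _ = 1 := by rw [F.t_sq]; group
  have hc := conj_involution_coset F.t_sq (F.J_exp a hJ) hsq
  rw [hta] at hc
  refine ⟨⟨a, F.J_M hJ⟩⁻¹ * m, ?_, ?_⟩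
  · rw [map_mul, map_inv, (F.θ_ker _).2 hJ, inv_one, one_mul, hm]
  · push_cast
    calc a⁻¹ * (m : G) * F.t = a⁻¹ * ((m : G) * F.t * (m : G)⁻¹) * (m : G) := by group
      _ = a⁻¹ * (a * F.t * a⁻¹) * (m : G) := by rw [hc]
      _ = F.t * (a⁻¹ * (m : G)) := by group

theorem exists_h : ∃ h : F.M, F.θ h = h0 ∧ (h : G) * (h : G) = F.t := by
  obtain ⟨h1, hh1⟩ := F.θ_surj h0
  set h' := h1 ^ 9 with hh'
  have hθ : F.θ h' = h0 := by
    rw [hh', map_pow, hh1, show (9 : ℕ) = 4 * 2 + 1 from rfl, pow_succ, pow_mul,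
      six_basic.2.2.2.2.2.2.2.2.2.2.1, one_pow, one_mul]
  have h4 : (h1 : G) ^ 12 = 1 := by
    rw [show (12 : ℕ) = 4 * 3 from rfl, pow_mul]
    refine F.J_exp _ ((F.θ_ker (h1 ^ 4)).1 ?_)
    rw [map_pow, hh1, six_basic.2.2.2.2.2.2.2.2.2.2.1]
  have h'4 : (h' : G) ^ 4 = 1 := by
    rw [hh', SubmonoidClass.coe_pow, ← pow_mul, show 9 * 4 = 12 * 3 from rfl, pow_mul, h4, one_pow]
  have hJ : F.t * ((h' : G) * (h' : G)) ∈ F.J := by
    refine (F.θ_ker (⟨F.t, F.t_M⟩ * (h' * h'))).1 ?_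
    rw [map_mul, map_mul, F.θ_t, hθ, six_basic.2.1, six_basic.2.2.2.1]
  set a := F.t * ((h' : G) * (h' : G)) with ha
  have hta : F.t * a = (h' : G) * (h' : G) := by rw [ha, ← mul_assoc, F.t_sq, one_mul]
  have hc := conj_involution_coset F.t_sq (F.J_exp a hJ) (by
    rw [hta, ← h'4]; simp only [pow_succ, pow_zero, one_mul, mul_assoc])
  rw [hta] at hc
  refine ⟨⟨a, F.J_M hJ⟩⁻¹ * h' * ⟨a, F.J_M hJ⟩, ?_, ?_⟩
  · rw [map_mul, map_mul, map_inv, (F.θ_ker _).2 hJ, inv_one, one_mul, mul_one, hθ]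
  · push_cast
    calc a⁻¹ * (h' : G) * a * (a⁻¹ * (h' : G) * a) = a⁻¹ * ((h' : G) * (h' : G)) * a := by group
      _ = a⁻¹ * (a * F.t * a⁻¹) * a := by rw [hc]
      _ = F.t := by group

theorem form_P (m : F.M) (hm : NormP (F.θ m)) {h : F.M} (hh : F.θ h = h0) :
    ∃ p : G, p ∈ (F.S : Subgroup G) ∧ ∃ c : ℕ, (m : G) = p * (h : G) ^ c := by
  obtain ⟨a, b, c, he⟩ := normP_form _ hm
  refine ⟨(m : G) * ((h : G) ^ (c : ℕ))⁻¹, ?_, c, by group⟩
  refine (F.θ_S (m * (h ^ (c : ℕ))⁻¹)).1 ?_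
  rw [map_mul, map_inv, map_pow, hh, he, mul_inv_cancel_right]
  exact ⟨a, b, rfl⟩

theorem sigma_not_z {s : F.M} (hs : F.θ s = s0) :
    (s : G) * F.z * (s : G)⁻¹ ∉ Subgroup.zpowers F.z := by
  intro hmem
  have hN : (s : G) ∈ Subgroup.normalizer (Subgroup.zpowers F.z : Set G) := by
    refine mem_normalizer_of_forall (fun x hx => ?_)
    obtain ⟨i, rfl⟩ := hx
    rw [← conj_zpow]
    exact zpow_mem hmem i
  apply six_relations.2.2.2
  rw [← hs]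
  have key : ∀ p : ASix, InP p → InP (F.θ s * p * (F.θ s)⁻¹) := by
    intro p hp
    obtain ⟨m, rfl⟩ := F.θ_surj p
    obtain ⟨c, hcQ, hcJ⟩ := F.toLocT.exists_rep_Q ((F.θ_S m).1 hp)
    rw [← map_inv, ← map_mul, ← map_mul, F.θ_S]
    push_cast
    have h1 := F.Q_le (F.Q_norm _ hN c hcQ)
    have h2 := F.J_le (F.conj_J s hcJ)
    have h3 := mul_mem h2 h1
    have e : (s : G) * (m : G) * (s : G)⁻¹ =
        (s : G) * ((m : G) * c⁻¹) * (s : G)⁻¹ * ((s : G) * c * (s : G)⁻¹) := by group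
    rw [e]
    exact h3
  exact ⟨key x0 ⟨1, 0, by decide +kernel⟩, key y0 ⟨0, 1, by decide +kernel⟩⟩

theorem h_inverts_z {h : F.M} (hh : F.θ h = h0) :
    (h : G) * F.z * (h : G)⁻¹ = F.z⁻¹ := by
  have hz := F.conj_z h (by rw [hh]; exact six_basic.2.2.2.2.2.2.2.2.2.2.2.1)
  rcases zpow_mem_of_three F.z_exp hz with h1 | h1 | h1
  · exact absurd (conj_eq_one_iff.1 h1) F.z_ne
  swap
  · rw [h1, eq_inv_iff_mul_eq_one, ← pow_succ, F.z_exp]
  exfalso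
  have hzh : (h : G) * F.z = F.z * (h : G) := mul_inv_eq_iff_eq_mul.1 h1
  have hfix : ∀ m : F.M, NormP (F.θ m) → (m : G) * F.z * (m : G)⁻¹ = F.z := by
    intro m hm
    obtain ⟨p, hp, c, he⟩ := F.form_P m hm hh
    rw [he]
    have h2 : Commute (p * (h : G) ^ c) F.z := (show Commute p F.z from F.z_S p hp).mul_left
      ((show Commute (h : G) F.z from hzh).pow_left c)
    rw [h2.eq, mul_inv_cancel_right]
  have hwd : ∀ m m' : F.M, NormP ((F.θ m)⁻¹ * F.θ m') →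
      (m : G) * F.z * (m : G)⁻¹ = (m' : G) * F.z * (m' : G)⁻¹ := by
    intro m m' hm
    have := hfix (m⁻¹ * m') (by rw [map_mul, map_inv]; exact hm)
    push_cast at this
    conv_lhs => rw [← this]
    group
  obtain ⟨s, hs, hst⟩ := F.exists_cent_t s0 six_basic.2.2.2.2.1
  set w := (s : G) * F.z * (s : G)⁻¹ with hw
  have hwJ : w ∈ F.J := F.conj_J s F.toLoc.z_J
  have hwz : w ∉ Subgroup.zpowers F.z := F.sigma_not_z hs
  have hwt : F.t * w = w * F.t := by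
    have h2 : Commute (s : G) F.t := hst
    have h3 : Commute F.z F.t := F.toLocT.t_z.symm
    exact ((h2.mul_left h3).mul_left h2.inv_left).eq.symm
  have hwQ : w ∉ F.Q := fun hq => hwz (F.toLocT.cQ_t hq hwt)
  -- representatives of the two generators
  have hrep : ∀ p : ASix, InP p → ∃ c ∈ F.Q, ∃ hc : c ∈ F.M, F.θ ⟨c, hc⟩ = p := by
    intro p hp
    obtain ⟨m, rfl⟩ := F.θ_surj p
    obtain ⟨c, hcQ, hcJ⟩ := F.toLocT.exists_rep_Q ((F.θ_S m).1 hp)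
    refine ⟨c, hcQ, F.S_M (F.Q_le hcQ), ?_⟩
    have h2 : F.θ (m * (⟨c, F.S_M (F.Q_le hcQ)⟩ : F.M)⁻¹) = 1 := (F.θ_ker _).2 hcJ
    rw [map_mul, map_inv, mul_inv_eq_one] at h2
    exact h2.symm
  obtain ⟨x, hxQ, hxM, hx⟩ := hrep x0 ⟨1, 0, by decide +kernel⟩
  obtain ⟨y, hyQ, hyM, hy⟩ := hrep y0 ⟨0, 1, by decide +kernel⟩
  have hcJ : ∀ {c a : G}, c ∈ F.M → a ∈ F.J → c * a * c⁻¹ ∈ F.J :=
    fun hc ha => F.conj_J ⟨_, hc⟩ ha
  set X := x * w * x⁻¹ * w⁻¹ with hX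
  set Y := y * w * y⁻¹ * w⁻¹ with hY
  have hA : ∀ c ∈ F.Q, c * w * c⁻¹ * w⁻¹ ∈ F.toLoc.A := by
    intro c hc
    refine ⟨?_, F.J.mul_mem (hcJ (F.S_M (F.Q_le hc)) hwJ) (F.J.inv_mem hwJ)⟩
    have h2 := F.toLoc.Q_conj (g := w) (F.z_S w (F.J_le hwJ)) (inv_mem hc)
    have e : c * w * c⁻¹ * w⁻¹ = c * (w * c⁻¹ * w⁻¹) := by group
    rw [e]
    exact mul_mem hc h2
  have hXA : X ∈ F.toLoc.A := hA x hxQ
  have hYA : Y ∈ F.toLoc.A := hA y hyQ
  obtain ⟨n, hn⟩ := mem_powers_iff_mem_zpowers.2 (F.Q_comm x hxQ Y hYA.1)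
  obtain ⟨n1, hn1⟩ := mem_powers_iff_mem_zpowers.2 (F.Q_comm x hxQ X hXA.1)
  obtain ⟨n2, hn2⟩ := mem_powers_iff_mem_zpowers.2 (F.Q_comm y hyQ Y hYA.1)
  have exX : x * X * x⁻¹ = F.z ^ n1 * X := by simp only [hn1, inv_mul_cancel_right]
  have exY : x * Y * x⁻¹ = F.z ^ n * Y := by simp only [hn, inv_mul_cancel_right]
  have eyY : y * Y * y⁻¹ = F.z ^ n2 * Y := by simp only [hn2, inv_mul_cancel_right]
  have exw : x * w * x⁻¹ = X * w := by rw [hX, inv_mul_cancel_right]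
  have eyw : y * w * y⁻¹ = Y * w := by rw [hY, inv_mul_cancel_right]
  have exz : x * F.z * x⁻¹ = F.z := by rw [F.z_S x (F.Q_le hxQ), mul_inv_cancel_right]
  have hcm : ∀ (g a b : G), g * (a * b) * g⁻¹ = (g * a * g⁻¹) * (g * b * g⁻¹) := fun g a b => by group
  have exy : (x * y) * w * (x * y)⁻¹ = F.z ^ n * Y * (X * w) := by
    rw [← conj_conj, eyw, hcm, exY, exw]
  have exx : (x * x) * w * (x * x)⁻¹ = F.z ^ n1 * X * (X * w) := by
    rw [← conj_conj, exw, hcm, exX, exw]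
  have exyy : (x * (y * y)) * w * (x * (y * y))⁻¹ =
      F.z ^ n2 * (F.z ^ n * Y) * (F.z ^ n * Y * (X * w)) := by
    rw [← conj_conj, ← conj_conj, eyw, hcm y, eyY, eyw, hcm x, hcm x, exY, hcm x, exY, exw,
      ← conj_pow, exz]
  have hss : (s : G) * w * (s : G)⁻¹ = F.z := by
    have h2 := hfix (s * s) (by
      rw [map_mul, hs, six_basic.1]
      decide +kernel)
    push_cast at h2
    rw [hw, conj_conj]
    exact h2
  have hrel : ∀ c c' : F.M, NormP ((F.θ c' * s0)⁻¹ * (s0 * F.θ c * s0)) →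
      (s : G) * ((c : G) * w * (c : G)⁻¹) * (s : G)⁻¹ = (c' : G) * w * (c' : G)⁻¹ := by
    intro c c' hc
    have h2 := hwd (c' * s) (s * c * s) (by rw [map_mul, map_mul, map_mul, hs]; exact hc)
    push_cast at h2
    rw [hw]
    calc (s : G) * ((c : G) * ((s : G) * F.z * (s : G)⁻¹) * (c : G)⁻¹) * (s : G)⁻¹
        = (s : G) * c * s * F.z * ((s : G) * c * s)⁻¹ := by group
      _ = (c' : G) * (s : G) * F.z * ((c' : G) * (s : G))⁻¹ := h2.symm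
      _ = _ := by group
  have r1 : (s : G) * (x * w * x⁻¹) * (s : G)⁻¹ = (x * x) * w * (x * x)⁻¹ :=
    hrel ⟨x, hxM⟩ (⟨x, hxM⟩ * ⟨x, hxM⟩) (by rw [map_mul, hx]; exact six_relations.1)
  have r2 : (s : G) * (y * w * y⁻¹) * (s : G)⁻¹ = y * w * y⁻¹ :=
    hrel ⟨y, hyM⟩ ⟨y, hyM⟩ (by rw [hy]; exact six_relations.2.1)
  have r3 : (s : G) * ((x * y) * w * (x * y)⁻¹) * (s : G)⁻¹ = (x * (y * y)) * w * (x * (y * y))⁻¹ :=
    hrel (⟨x, hxM⟩ * ⟨y, hyM⟩) (⟨x, hxM⟩ * (⟨y, hyM⟩ * ⟨y, hyM⟩))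
      (by simp only [map_mul, hx, hy]; exact six_relations.2.2.1)
  rw [exw, exx] at r1
  rw [eyw] at r2
  rw [exy, exyy] at r3
  have hspow : (s : G) * F.z ^ n * (s : G)⁻¹ = w ^ n := by rw [← conj_pow]
  have hcomJ : ∀ a ∈ F.J, ∀ b ∈ F.J, a * b = b * a := F.J_comm
  have hzJ := F.toLoc.z_J
  have esplit : F.z ^ n * Y * (X * w) = F.z ^ n * (Y * w) * (X * w) * w⁻¹ := by
    have h2 : Commute w (X * w) := hcomJ w hwJ _ (mul_mem hXA.2 hwJ)
    calc F.z ^ n * Y * (X * w) = F.z ^ n * Y * (w * (X * w) * w⁻¹) := by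
          rw [h2.eq, mul_inv_cancel_right]
      _ = _ := by group
  nth_rewrite 1 [esplit] at r3
  rw [hcm, hcm, hcm, hspow, r2, r1] at r3
  have hsw' : (s : G) * w⁻¹ * (s : G)⁻¹ = F.z⁻¹ := by rw [← conj_inv, hss]
  rw [hsw'] at r3
  -- extract the consequence in the abelian group `J`
  have key : w ^ n * w * (X * Y⁻¹) ∈ Subgroup.zpowers F.z := by
    let eJ : F.J := ⟨w, hwJ⟩
    let XJ : F.J := ⟨X, hXA.2⟩
    let YJ : F.J := ⟨Y, hYA.2⟩
    let zJ : F.J := ⟨F.z, hzJ⟩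
    letI : CommGroup F.J :=
      { (inferInstance : Group F.J) with mul_comm := fun a b => Subtype.ext (hcomJ _ a.2 _ b.2) }
    have E : eJ ^ n * (YJ * eJ) * (zJ ^ n1 * XJ * (XJ * eJ)) * zJ⁻¹ =
        zJ ^ n2 * (zJ ^ n * YJ) * (zJ ^ n * YJ * (XJ * eJ)) := Subtype.ext r3
    have E2 : eJ ^ n * eJ * (XJ * YJ⁻¹) = zJ ^ n2 * zJ ^ n * zJ ^ n * zJ * (zJ ^ n1)⁻¹ := by
      have E' := congrArg Additive.ofMul E
      apply Additive.ofMul.injective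
      simp only [ofMul_mul, ofMul_inv, ofMul_pow] at E' ⊢
      rw [← sub_eq_zero] at E' ⊢
      rw [← E']
      abel
    have h2 := congrArg Subtype.val E2
    push_cast at h2
    rw [show ((eJ : F.J) : G) = w from rfl, show ((XJ : F.J) : G) = X from rfl,
      show ((YJ : F.J) : G) = Y from rfl, show ((zJ : F.J) : G) = F.z from rfl] at h2
    rw [h2]
    have hz' := Subgroup.mem_zpowers F.z
    exact mul_mem (mul_mem (mul_mem (mul_mem (pow_mem hz' _) (pow_mem hz' _)) (pow_mem hz' _)) hz')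
      (inv_mem (pow_mem hz' _))
  have hXY : X * Y⁻¹ ∈ F.toLoc.A := mul_mem hXA (inv_mem hYA)
  have hwn : w ^ (n + 1) ∈ Subgroup.zpowers F.z := by
    refine F.toLocT.cQ_t ?_ (Commute.pow_right hwt _).eq
    have h2 := mul_mem (F.toLoc.zpow_mem_Q key) (inv_mem hXY.1)
    rwa [mul_inv_cancel_right, ← pow_succ] at h2
  have hXYz : X * Y⁻¹ ∈ Subgroup.zpowers F.z := by
    have h2 := mul_mem (inv_mem hwn) key
    rwa [pow_succ, inv_mul_cancel_left] at h2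
  -- hence `x * y⁻¹` lies in `A`
  have hzx : x * y⁻¹ ∈ F.toLoc.A := by
    rw [← F.toLoc.fix_eq_A (F.J_le hwJ) hwQ]
    refine ⟨mul_mem hxQ (inv_mem hyQ), ?_⟩
    have e1 : w * (x * y⁻¹) * w⁻¹ * (x * y⁻¹)⁻¹ = X⁻¹ * ((x * y⁻¹) * Y * (x * y⁻¹)⁻¹) := by
      rw [hX, hY]; group
    have hc := F.Q_comm _ (mul_mem hxQ (inv_mem hyQ)) Y hYA.1
    have e2 : (x * y⁻¹) * Y * (x * y⁻¹)⁻¹ =
        (x * y⁻¹) * Y * (x * y⁻¹)⁻¹ * Y⁻¹ * Y := by group
    show _ ∈ Subgroup.zpowers F.z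
    rw [e1, e2]
    set u := (x * y⁻¹) * Y * (x * y⁻¹)⁻¹ * Y⁻¹ with hu
    have hu' : X⁻¹ * (u * Y) = u * (X * Y⁻¹)⁻¹ := by
      have huJ : u ∈ F.J := (Subgroup.zpowers_le.2 hzJ) hc
      have c1 : Commute X⁻¹ u := hcomJ _ (inv_mem hXA.2) _ huJ
      have c2 : Commute X⁻¹ Y := hcomJ _ (inv_mem hXA.2) _ hYA.2
      rw [← mul_assoc, c1.eq, mul_assoc, c2.eq]
      group
    rw [hu']
    exact mul_mem hc (inv_mem hXYz)
  have hθ1 : F.θ (⟨x, hxM⟩ * ⟨y, hyM⟩⁻¹) = 1 := (F.θ_ker _).2 hzx.2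
  rw [map_mul, map_inv, hx, hy] at hθ1
  exact absurd hθ1 (by decide +kernel)

/-- The elements `h` and `s`. -/
theorem exists_hs : ∃ h s : F.M, F.θ h = h0 ∧ (h : G) * (h : G) = F.t ∧ F.θ s = s0 ∧
    (s : G) * (s : G) = 1 ∧ (s : G) * F.t = F.t * (s : G) ∧
    (s : G) * (h : G) * (s : G)⁻¹ = (h : G)⁻¹ := by
  obtain ⟨h, hh, hh2⟩ := F.exists_h
  obtain ⟨s1, hs1, hs1t⟩ := F.exists_cent_t s0 six_basic.2.2.2.2.1
  have hht : Commute (h : G) F.t := by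
    rw [← hh2]; exact (Commute.refl _).mul_right (Commute.refl _)
  set w := (s1 : G) * F.z * (s1 : G)⁻¹ with hw
  have hwJ : w ∈ F.J := F.conj_J s1 F.toLoc.z_J
  have hwt : F.t * w = w * F.t := by
    have h2 : Commute (s1 : G) F.t := hs1t
    have h3 : Commute F.z F.t := F.toLocT.t_z.symm
    exact ((h2.mul_left h3).mul_left h2.inv_left).eq.symm
  have hwQ : w ∉ F.Q := fun hq => F.sigma_not_z hs1 (F.toLocT.cQ_t hq hwt)
  have hz := F.h_inverts_z hh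
  have hsinv : s0⁻¹ * h0 * s0 = h0⁻¹ := by decide +kernel
  have hhw : (h : G) * w * (h : G)⁻¹ = w⁻¹ := by
    have h2 := F.θ_eq (m := h⁻¹) (m' := s1⁻¹ * h * s1)
      (by rw [map_inv, map_mul, map_mul, map_inv, hs1, hh, hsinv])
    push_cast at h2
    rw [inv_inv] at h2
    set a := (h : G) * ((s1 : G)⁻¹ * h * s1) with ha
    have hhz : (h : G)⁻¹ * F.z * (h : G) = F.z⁻¹ := by
      have h3 := congrArg (fun g => (h : G)⁻¹ * g⁻¹ * (h : G)) hz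
      simp only [conj_inv, inv_inv] at h3
      rw [← h3]; group
    have e : (h : G) * w * (h : G)⁻¹ =
        (s1 : G) * ((h : G)⁻¹ * (a * F.z * a⁻¹) * (h : G)) * (s1 : G)⁻¹ := by
      rw [hw, ha]; group
    rw [e, F.J_comm a h2 F.z F.toLoc.z_J, mul_inv_cancel_right, hhz, ← conj_inv]
  obtain ⟨τ, hτJ, hτQ, hτt⟩ := F.toLocT.exists_tau
  have hinvD : ∀ x ∈ F.J, F.t * x = x * F.t → (h : G) * x * (h : G)⁻¹ = x⁻¹ := by
    intro x hxJ hxt
    obtain ⟨i, j, rfl, hj⟩ := F.toLocT.cent_t_J hwJ hwQ hwt hxJ hxt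
    rw [← conj_mul, ← conj_pow, ← conj_pow, hz, hhw, inv_pow, inv_pow, mul_inv_rev]
    exact F.J_comm _ (inv_mem (pow_mem F.toLoc.z_J i)) _ (inv_mem (pow_mem hwJ j))
  have hJa : (h : G) * ((s1 : G) * h * (s1 : G)⁻¹) ∈ F.J := by
    refine (F.θ_ker (h * (s1 * h * s1⁻¹))).1 ?_
    have hs' : s0 * h0 * s0⁻¹ = h0⁻¹ := by decide +kernel
    rw [map_mul, map_mul, map_mul, map_inv, hs1, hh, hs', mul_inv_cancel]
  set a := (h : G) * ((s1 : G) * h * (s1 : G)⁻¹) with ha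
  have hat : F.t * a = a * F.t := by
    have h2 : Commute (s1 : G) F.t := hs1t
    exact ((hht.mul_left ((h2.mul_left hht).mul_left h2.inv_left))).eq.symm
  -- correct `s1` by an element of `J`
  have hb : (h : G) * a⁻¹ * (h : G)⁻¹ = a := by rw [← conj_inv, hinvD a hJa hat, inv_inv]
  set s : F.M := ⟨a⁻¹, F.J_M (inv_mem hJa)⟩ * s1 with hsdef
  have hsθ : F.θ s = s0 := by
    rw [hsdef, map_mul, (F.θ_ker _).2 (inv_mem hJa), one_mul, hs1]
  have hst : (s : G) * F.t = F.t * (s : G) := by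
    have h2 : Commute a F.t := hat.symm
    exact (h2.inv_left.mul_left (hs1t : Commute (s1 : G) F.t)).eq
  have hshs : (s : G) * (h : G) * (s : G)⁻¹ = (h : G)⁻¹ := by
    have ha3 : a * a = a⁻¹ := (inv_eq_of_mul_eq_one_right (by
      rw [← F.J_exp a hJa, pow_three])).symm
    have e1 : (s1 : G) * h * (s1 : G)⁻¹ = (h : G)⁻¹ * a := by rw [ha, inv_mul_cancel_left]
    show a⁻¹ * (s1 : G) * h * (a⁻¹ * (s1 : G))⁻¹ = _
    calc a⁻¹ * (s1 : G) * h * (a⁻¹ * (s1 : G))⁻¹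
        = a⁻¹ * ((s1 : G) * h * (s1 : G)⁻¹) * a := by group
      _ = (h : G)⁻¹ * ((h : G) * a⁻¹ * (h : G)⁻¹) * (a * a) := by rw [e1]; group
      _ = (h : G)⁻¹ := by rw [hb, ha3, mul_inv_cancel_right]
  have hs2J : (s : G) * (s : G) ∈ F.J :=
    (F.θ_ker (s * s)).1 (by rw [map_mul, hsθ, six_basic.1])
  refine ⟨h, s, hh, hh2, hsθ, ?_, hst, hshs⟩
  set b := (s : G) * (s : G) with hb'
  have hbh : b * (h : G) * b⁻¹ = h := by
    have e : b * (h : G) * b⁻¹ = (s : G) * ((s : G) * h * (s : G)⁻¹) * (s : G)⁻¹ := by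
      rw [hb']; group
    rw [e, hshs, ← conj_inv, hshs, inv_inv]
  have hbt : F.t * b = b * F.t := ((Commute.mul_left hst hst).eq).symm
  have h2 := hinvD b hs2J hbt
  have h3 : (h : G) * b * (h : G)⁻¹ = b := by
    have : Commute b (h : G) := mul_inv_eq_iff_eq_mul.1 hbh
    rw [← this.eq, mul_inv_cancel_right]
  rw [h3] at h2
  exact eq_one_of_pow_coprime (by rw [pow_two]; exact mul_eq_one_iff_eq_inv.2 h2 : b ^ 2 = 1)
    (F.J_exp b hs2J) (by norm_num)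

end LocJ

end Cfsg.Lib.McLThree
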