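import Cfsg.Agent.Lib.McLThree.CaseB

/-!
The centraliser of `t` modulo `⟨t⟩` has no normal subgroup isomorphic to a product of two
alternating groups of degree five.
-/

set_option autoImplicit false
set_option linter.style.haveILetI false
set_option linter.unusedSectionVars false

namespace Cfsg.Lib.McLThree

open Equiv Cfsg.Lib.Recog.Icosa
open Cfsg.Lib.AltEightThree (mem_cent_singleton)

universe v

theorem five_moved : ∃ p : Perm (Fin 5), Perm.sign p = 1 ∧
    p * c[(0 : Fin 5), 1, 2] ≠ c[(0 : Fin 5), 1, 2] * p := by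
  refine ⟨c[(2 : Fin 5), 3, 4], ?_⟩
  decide +kernel

/-- A non-trivial map of the alternating group into a square of it whose image commutes with a
non-trivial element is onto one of the factors. -/
theorem factor_cases
    (f : alternatingGroup (Fin 5) →* alternatingGroup (Fin 5) × alternatingGroup (Fin 5))
    (hf : f ≠ 1) (w : alternatingGroup (Fin 5) × alternatingGroup (Fin 5)) (hw1 : w ≠ 1)
    (hw : ∀ x, f x * w = w * f x) :
    ((∀ x, (f x).1 = 1) ∧ Function.Surjective fun x => (f x).2) ∨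
      ((∀ x, (f x).2 = 1) ∧ Function.Surjective fun x => (f x).1) := by
  haveI : IsSimpleGroup (alternatingGroup (Fin 5)) := alternatingGroup.isSimpleGroup (by simp)
  have key : ∀ g : alternatingGroup (Fin 5) →* alternatingGroup (Fin 5),
      (∀ x, g x = 1) ∨ Function.Surjective g := by
    intro g
    rcases IsSimpleGroup.eq_bot_or_eq_top_of_normal g.ker inferInstance with h | h
    · exact Or.inr (Finite.injective_iff_surjective.1 ((MonoidHom.ker_eq_bot_iff g).1 h))
    · exact Or.inl (fun x => (MonoidHom.mem_ker).1 (h ▸ Subgroup.mem_top x))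
  have hcen : Subgroup.center (alternatingGroup (Fin 5)) = ⊥ :=
    alternatingGroup.center_eq_bot (by simp)
  have hone : ∀ (g : alternatingGroup (Fin 5) →* alternatingGroup (Fin 5)) (a : _),
      Function.Surjective g → (∀ x, g x * a = a * g x) → a = 1 := by
    intro g a hg ha
    have hmem : a ∈ Subgroup.center (alternatingGroup (Fin 5)) := by
      rw [Subgroup.mem_center_iff]
      intro y
      obtain ⟨x, rfl⟩ := hg y
      exact ha x
    rwa [hcen, Subgroup.mem_bot] at hmem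
  rcases key ((MonoidHom.fst _ _).comp f) with h1 | h1 <;>
    rcases key ((MonoidHom.snd _ _).comp f) with h2 | h2
  · exact absurd (MonoidHom.ext fun x => Prod.ext (h1 x) (h2 x)) hf
  · exact Or.inl ⟨h1, h2⟩
  · exact Or.inr ⟨h2, h1⟩
  · exfalso
    apply hw1
    exact Prod.ext (hone _ _ h1 (fun x => congrArg Prod.fst (hw x)))
      (hone _ _ h2 (fun x => congrArg Prod.snd (hw x)))

variable {G : Type v} [Group G] [Finite G]

namespace LocC

variable (C : LocC G)

/-- Elements of the kernel of `χ` inducing even permutations are products of two squares of such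
elements, up to `t`. -/
theorem even_form (χ : C.CZ →* Subgroup.zpowers C.z) (hχz : (χ ⟨C.z, C.z_CZ⟩ : G) = C.z)
    (hχt : χ ⟨C.t, C.t_CZ⟩ = 1) {g : C.CZ} (hg : χ g = 1) (hs : Perm.sign (C.ρz g) = 1) :
    ∃ a b : C.CZ, ∃ j : ℕ, χ a = 1 ∧ χ b = 1 ∧ Perm.sign (C.ρz a) = 1 ∧
      Perm.sign (C.ρz b) = 1 ∧ (g : G) = a * a * (b * b) * C.t ^ j := by
  obtain ⟨q, r, hq, hr, hqr⟩ := five_squares _ hs
  obtain ⟨a0, ha0⟩ := C.exists_CZ hq
  obtain ⟨b0, hb0⟩ := C.exists_CZ hr
  obtain ⟨a, ha, haρ⟩ := C.cent_range χ hχz 1 a0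
  obtain ⟨b, hb, hbρ⟩ := C.cent_range χ hχz 1 b0
  replace haρ : C.ρz a = q := haρ.trans ha0
  replace hbρ : C.ρz b = r := hbρ.trans hb0
  obtain ⟨i, j, hij⟩ := C.ρz_ker ((a * a * (b * b))⁻¹ * g) (by
    rw [map_mul, map_inv, map_mul, map_mul, map_mul, haρ, hbρ, ← hqr, inv_mul_cancel])
  have hχ : χ ((a * a * (b * b))⁻¹ * g) = 1 := by
    rw [map_mul, map_inv, map_mul, map_mul, map_mul, ha, hb, hg, one_mul, one_mul, inv_one, one_mul]
  have e : ((a * a * (b * b))⁻¹ * g : C.CZ) =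
      (⟨C.z, C.z_CZ⟩ : C.CZ) ^ i * ⟨C.t, C.t_CZ⟩ ^ j := Subtype.ext (by push_cast at hij ⊢; exact hij)
  rw [e, map_mul, map_pow, map_pow, hχt, one_pow, mul_one] at hχ
  have hzi : C.z ^ i = 1 := by
    have := congrArg Subtype.val hχ
    push_cast at this
    rwa [hχz] at this
  refine ⟨a, b, j, ha, hb, by rw [haρ, hq], by rw [hbρ, hr], ?_⟩
  rw [hzi, one_mul] at hij
  push_cast at hij
  rw [← hij]
  group

variable (hdec : C.toLocH.Dec)
include hdec

theorem not_product (N : Subgroup C.Bar) [N.Normal]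
    (e : N ≃* alternatingGroup (Fin 5) × alternatingGroup (Fin 5)) (hsq : ∀ g, g ^ 2 ∈ N) :
    False := by
  obtain ⟨χ, hχz, hχt⟩ := C.exists_chi
  let ν : C.CZ →* Perm (Fin 5) := C.ρz
  let K : Subgroup C.CZ := χ.ker ⊓ (Perm.sign.comp ν).ker
  have hK : ∀ k : K, χ (k : C.CZ) = 1 ∧ Perm.sign (C.ρz (k : C.CZ)) = 1 := fun k =>
    ⟨(MonoidHom.mem_ker).1 k.2.1, (MonoidHom.mem_ker).1 k.2.2⟩
  let κ : C.CZ →* C.Bar := (QuotientGroup.mk' C.Nt).comp (Subgroup.inclusion inf_le_right)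
  have hκ : ∀ g : C.CZ, κ g = C.bar g (mem_cent_singleton.1 g.2.2) := fun g => rfl
  have hbt : C.bar C.t rfl = 1 := (C.bar_eq_one _).2 (Or.inr rfl)
  -- the image lies in `N`
  have hκN : ∀ k : K, κ (k : C.CZ) ∈ N := by
    intro k
    obtain ⟨a, b, j, -, -, -, -, he⟩ := C.even_form χ hχz hχt (hK k).1 (hK k).2
    have e1 : (k : C.CZ) = a * a * (b * b) * (⟨C.t, C.t_CZ⟩ : C.CZ) ^ j :=
      Subtype.ext (by push_cast; exact he)
    rw [e1, map_mul, map_mul, map_mul, map_mul, map_pow,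
      show κ ⟨C.t, C.t_CZ⟩ = 1 from hbt, one_pow, mul_one, ← pow_two, ← pow_two]
    exact mul_mem (hsq _) (hsq _)
  have hzN : C.pbar 0 ∈ N := by
    have e1 : C.pbar 0 = (C.pbar 0 ^ 2) ^ 2 := by
      have h3 : C.pbar 0 ^ 3 = 1 := by
        rw [pbar, C.bar_pow, C.bar_eq_one]; exact Or.inl (C.D_exp (C.pts_D 0))
      rw [← pow_mul, show 2 * 2 = 3 + 1 from rfl, pow_succ, h3, one_mul]
    rw [e1]; exact hsq _
  have hst : C.s * C.t = C.t * C.s := C.s_t
  set S := C.bar C.s hst with hS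
  let σ : C.Bar ≃* C.Bar := MulAut.conj S
  have hσN : ∀ g ∈ N, σ g ∈ N := fun g hg => (inferInstance : N.Normal).conj_mem g hg S
  have hσz : σ (C.pbar 0) = C.pbar 1 := by
    show S * C.pbar 0 * S⁻¹ = C.pbar 1
    rw [hS, pbar, C.bar_conj]
    exact C.bar_congr rfl _ _
  -- the map onto the alternating group
  let q : K →* alternatingGroup (Fin 5) :=
    (ν.comp K.subtype).codRestrict _ (fun k => Perm.mem_alternatingGroup.2 (hK k).2)
  have hq : Function.Surjective q := by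
    rintro ⟨p, hp⟩
    obtain ⟨k0, hk0⟩ := C.exists_CZ (Perm.mem_alternatingGroup.1 hp)
    obtain ⟨k, hk, hkρ⟩ := C.cent_range χ hχz 1 k0
    replace hkρ : C.ρz k = p := hkρ.trans hk0
    refine ⟨⟨k, MonoidHom.mem_ker.2 hk, MonoidHom.mem_ker.2 ?_⟩, Subtype.ext hkρ⟩
    show Perm.sign (C.ρz k) = 1
    rw [hkρ]
    exact Perm.mem_alternatingGroup.1 hp
  have hqker : ∀ k : K, q k = 1 → κ (k : C.CZ) = 1 := by
    intro k hk
    obtain ⟨i, j, hij⟩ := C.ρz_ker (k : C.CZ) (congrArg Subtype.val hk)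
    have e1 : (k : C.CZ) = (⟨C.z, C.z_CZ⟩ : C.CZ) ^ i * ⟨C.t, C.t_CZ⟩ ^ j :=
      Subtype.ext (by push_cast; exact hij)
    have h1 := (hK k).1
    rw [e1, map_mul, map_pow, map_pow, hχt, one_pow, mul_one] at h1
    have hzi : (⟨C.z, C.z_CZ⟩ : C.CZ) ^ i = 1 := Subtype.ext (by
      have := congrArg Subtype.val h1
      push_cast at this ⊢
      rwa [hχz] at this)
    rw [e1, map_mul, hzi, map_one, one_mul, map_pow, show κ ⟨C.t, C.t_CZ⟩ = 1 from hbt, one_pow]
  let F : K →* N := (κ.comp K.subtype).codRestrict N hκN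
  let F' : K →* N :=
    (σ.toMonoidHom.comp (κ.comp K.subtype)).codRestrict N (fun k => hσN _ (hκN k))
  have hFker : q.ker ≤ F.ker := fun k hk => MonoidHom.mem_ker.2
    (Subtype.ext (hqker k (MonoidHom.mem_ker.1 hk)))
  have hF'ker : q.ker ≤ F'.ker := fun k hk => MonoidHom.mem_ker.2 (Subtype.ext (by
    show σ (κ (k : C.CZ)) = 1
    rw [hqker k (MonoidHom.mem_ker.1 hk), map_one]))
  set f : alternatingGroup (Fin 5) →* alternatingGroup (Fin 5) × alternatingGroup (Fin 5) :=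
    e.toMonoidHom.comp (q.liftOfSurjective hq ⟨F, hFker⟩) with hfdef
  set f' : alternatingGroup (Fin 5) →* alternatingGroup (Fin 5) × alternatingGroup (Fin 5) :=
    e.toMonoidHom.comp (q.liftOfSurjective hq ⟨F', hF'ker⟩) with hf'def
  have hf : ∀ k, f (q k) = e (F k) := fun k => by
    rw [hfdef, MonoidHom.comp_apply]
    simp only [MonoidHom.liftOfSurjective, MonoidHom.liftOfRightInverse_comp_apply]
    rfl
  have hf' : ∀ k, f' (q k) = e (F' k) := fun k => by
    rw [hf'def, MonoidHom.comp_apply]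
    simp only [MonoidHom.liftOfSurjective, MonoidHom.liftOfRightInverse_comp_apply]
    rfl
  have hcomm : ∀ k : K, κ (k : C.CZ) * C.pbar 0 = C.pbar 0 * κ (k : C.CZ) := by
    intro k
    rw [hκ, pbar, C.bar_mul, C.bar_mul]
    exact C.bar_congr (mem_cent_singleton.1 (k : C.CZ).2.1) _ _
  have hFne : ∀ φ : K →* N, (∀ k, φ k = 1 → κ (k : C.CZ) = 1) →
      ∀ g : alternatingGroup (Fin 5) →* alternatingGroup (Fin 5) × alternatingGroup (Fin 5),
      (∀ k, g (q k) = e (φ k)) → g ≠ 1 := by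
    intro φ hφ g hg h1
    obtain ⟨p, hp, hpne⟩ := five_moved
    obtain ⟨k, hk⟩ := hq ⟨p, Perm.mem_alternatingGroup.2 hp⟩
    have h2 : e (φ k) = 1 := by rw [← hg, h1]; rfl
    have h3 := hφ k (e.map_eq_one_iff.1 h2)
    apply hpne
    have h4 : C.ρz (k : C.CZ) = p := congrArg Subtype.val hk
    rcases (C.bar_eq_one _).1 ((hκ _).symm.trans h3) with h | h
    · rw [← h4, show (k : C.CZ) = 1 from Subtype.ext h, map_one, one_mul, mul_one]
    · rw [← h4, show (k : C.CZ) = ⟨C.t, C.t_CZ⟩ from Subtype.ext h,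
        show C.ρz ⟨C.t, C.t_CZ⟩ = 1 from (C.ρ_L C.t_NZ C.t_L).trans C.π_t, one_mul, mul_one]
  set w := e ⟨C.pbar 0, hzN⟩ with hw
  set w' := e ⟨C.pbar 1, hσz ▸ hσN _ hzN⟩ with hw'
  have hpb1 : ∀ i, C.pbar i ≠ 1 := by
    intro i h
    rcases (C.bar_eq_one _).1 h with h' | h'
    · fin_cases i
      · exact C.z_ne h'
      · exact C.toLocH.zz_ne h'
      · exact C.z_ne (inv_eq_one.1 h')
      · exact C.toLocH.zz_ne (inv_eq_one.1 h')
    · exact C.toLocT.t_ne (eq_one_of_pow_coprime (by rw [pow_two, C.t_sq])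
        (h' ▸ C.D_exp (C.pts_D i)) (by norm_num))
  have hcases := factor_cases f (hFne F (fun k hk => congrArg Subtype.val hk) f hf) w
    (fun h => hpb1 0 (congrArg Subtype.val (e.map_eq_one_iff.1 h))) (fun x => by
      obtain ⟨k, rfl⟩ := hq x
      rw [hf, hw, ← map_mul, ← map_mul]
      exact congrArg e (Subtype.ext (hcomm k)))
  have hcases' := factor_cases f' (hFne F' (fun k hk => σ.map_eq_one_iff.1 (congrArg Subtype.val hk))
      f' hf') w'
    (fun h => hpb1 1 (congrArg Subtype.val (e.map_eq_one_iff.1 h))) (fun x => by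
      obtain ⟨k, rfl⟩ := hq x
      rw [hf', hw', ← map_mul, ← map_mul]
      refine congrArg e (Subtype.ext ?_)
      show σ (κ (k : C.CZ)) * C.pbar 1 = C.pbar 1 * σ (κ (k : C.CZ))
      rw [← hσz, ← map_mul, ← map_mul, hcomm k])
  -- the two images are distinct
  have hdiff : ¬ (∀ x, ∃ x', f' x' = f x) := by
    intro h
    obtain ⟨p, hp, hpne⟩ := five_moved
    obtain ⟨k, hk⟩ := hq ⟨p, Perm.mem_alternatingGroup.2 hp⟩
    obtain ⟨x', hx'⟩ := h (q k)
    obtain ⟨k', rfl⟩ := hq x'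
    rw [hf, hf'] at hx'
    have h1 : σ (κ (k' : C.CZ)) = κ (k : C.CZ) := congrArg Subtype.val (e.injective hx')
    have h2 : κ (k : C.CZ) * C.pbar 1 = C.pbar 1 * κ (k : C.CZ) := by
      rw [← h1, ← hσz, ← map_mul, ← map_mul, hcomm k']
    have h3 : ((k : C.CZ) : G) * C.zz = C.zz * ((k : C.CZ) : G) :=
      C.comm_of_bar (mem_cent_singleton.1 (k : C.CZ).2.2) (C.D_comm_t (C.pts_D 1))
        (C.D_exp (C.pts_D 1)) (by rw [← hκ]; exact h2)
    apply hpne
    have h4 : C.ρz (k : C.CZ) = p := congrArg Subtype.val hk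
    have h5 : C.ρz ⟨C.zz, C.D_le_CZ C.zz_D⟩ = c[(0 : Fin 5), 1, 2] := C.ρ_zz
    rw [← h4, ← h5, ← map_mul, ← map_mul]
    exact congrArg C.ρz (Subtype.ext h3)
  -- so they commute
  have hcom : ∀ x x', f x * f' x' = f' x' * f x := by
    rcases hcases with ⟨a1, b1⟩ | ⟨a1, b1⟩ <;> rcases hcases' with ⟨a2, b2⟩ | ⟨a2, b2⟩
    · exfalso
      refine hdiff (fun x => ?_)
      obtain ⟨x', hx'⟩ := b2 (f x).2
      exact ⟨x', Prod.ext ((a2 x').trans (a1 x).symm) hx'⟩
    · exact fun x x' => Prod.ext (by simp [a1 x]) (by simp [a2 x'])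
    · exact fun x x' => Prod.ext (by simp [a2 x']) (by simp [a1 x])
    · exfalso
      refine hdiff (fun x => ?_)
      obtain ⟨x', hx'⟩ := b2 (f x).1
      exact ⟨x', Prod.ext hx' ((a2 x').trans (a1 x).symm)⟩
  -- the element `k` of square `t`
  obtain ⟨k, hkN, hkL, hkt, hkk, hkzz, hkρ⟩ := C.exists_k hdec
  have hkz : k * C.z = C.z * k := C.L_cent k hkL
  set kc : C.CZ := ⟨k, C.mem_CZ hkz hkt⟩ with hkc
  have hkχ : χ kc = 1 := by
    have h2 : χ kc ^ 2 = 1 := by
      rw [← map_pow, show kc ^ 2 = (⟨C.t, C.t_CZ⟩ : C.CZ) from Subtype.ext (by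
        push_cast; rw [hkc, pow_two, hkk]), hχt]
    have h3 : χ kc ^ 3 = 1 := by
      have := pow_card_eq_one' (x := χ kc)
      rwa [C.toLoc.card_zpow] at this
    exact eq_one_of_pow_coprime h2 h3 (by norm_num)
  have hks : Perm.sign (C.ρz kc) = 1 := by
    rw [show C.ρz kc = c[(1 : Fin 5), 2] * c[(3 : Fin 5), 4] from hkρ]; exact five_basic.2.2.1
  set k' := C.s * k * C.s⁻¹ with hk'
  have hk't : k' * C.t = C.t * k' :=
    (((show Commute C.s C.t from hst).mul_left hkt).mul_left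
      (show Commute C.s C.t from hst).inv_left).eq
  have hbarcomm : ∀ a : C.CZ, χ a = 1 → Perm.sign (C.ρz a) = 1 →
      (a : G) * k' = k' * a ∨ (a : G) * k' = k' * a * C.t := by
    intro a ha hsa
    have h1 := hcom (q ⟨a, MonoidHom.mem_ker.2 ha, MonoidHom.mem_ker.2 hsa⟩)
      (q ⟨kc, MonoidHom.mem_ker.2 hkχ, MonoidHom.mem_ker.2 hks⟩)
    rw [hf, hf', ← map_mul, ← map_mul] at h1
    have h2 : κ a * σ (κ kc) = σ (κ kc) * κ a := congrArg Subtype.val (e.injective h1)
    have h3 : σ (κ kc) = C.bar k' hk't := by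
      show S * κ kc * S⁻¹ = _
      rw [hκ, hS, C.bar_conj]
    rw [h3, hκ, C.bar_mul, C.bar_mul] at h2
    exact C.bar_eq _ _ h2.symm
  have hsqc : ∀ a : C.CZ, χ a = 1 → Perm.sign (C.ρz a) = 1 →
      (a : G) * a * k' = k' * ((a : G) * a) := by
    intro a ha hsa
    rcases hbarcomm a ha hsa with h | h
    · exact ((show Commute (a : G) k' from h).mul_left h).eq
    · have hat : C.t * (a : G) = a * C.t := (mem_cent_singleton.1 a.2.2).symm
      calc (a : G) * a * k' = a * (a * k') := mul_assoc _ _ _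
        _ = a * (k' * a * C.t) := by rw [h]
        _ = a * k' * (a * C.t) := by group
        _ = k' * a * C.t * (a * C.t) := by rw [h]
        _ = k' * a * (C.t * a) * C.t := by group
        _ = k' * ((a : G) * a) * (C.t * C.t) := by rw [hat]; group
        _ = k' * ((a : G) * a) := by rw [C.t_sq, mul_one]
  have hkk' : k * k' = k' * k := by
    obtain ⟨a, b, j, ha, hb, hsa, hsb, he⟩ := C.even_form χ hχz hχt hkχ hks
    have he' : k = (a : G) * a * ((b : G) * b) * C.t ^ j := he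
    have c1 : Commute ((a : G) * a) k' := hsqc a ha hsa
    have c2 : Commute ((b : G) * b) k' := hsqc b hb hsb
    have c3 : Commute (C.t ^ j) k' := (show Commute C.t k' from hk't.symm).pow_left j
    rw [he']
    exact ((c1.mul_left c2).mul_left c3).eq
  -- contradiction through an element inverting both singular points
  have hk'k : k' * k' = C.t := by
    rw [hk', conj_mul, hkk, hst, mul_inv_cancel_right]
  set u := k * k'⁻¹ with hu
  have hu2 : u * u = 1 := by
    have c : Commute k k'⁻¹ := (show Commute k k' from hkk').inv_right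
    rw [hu, c.symm.mul_mul_mul_comm, hkk, ← mul_inv_rev, hk'k, mul_inv_cancel]
  have hkJ : k ∈ Subgroup.normalizer (C.J : Set G) :=
    C.k_norm_J hkz (by rw [hkzz]; exact inv_mem C.zz_J)
  have huM : u ∈ C.M := by
    have e1 : u = k * C.s * k⁻¹ * C.s⁻¹ := by rw [hu, hk']; group
    rw [e1]
    exact mul_mem (C.M_conj k hkJ C.s C.s_M) (inv_mem C.s_M)
  have hut : u * C.t = C.t * u :=
    ((show Commute k C.t from hkt).mul_left (show Commute k' C.t from hk't).inv_left).eq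
  have huz : u * C.z * u⁻¹ = C.z⁻¹ := by
    have h1 : k'⁻¹ * C.z * k' = C.z⁻¹ := by
      have h2 : k⁻¹ * C.zz * k = C.zz⁻¹ := by
        calc k⁻¹ * C.zz * k = k⁻¹ * C.zz⁻¹⁻¹ * k := by rw [inv_inv]
          _ = (k⁻¹ * (k * C.zz * k⁻¹) * k)⁻¹ := by rw [hkzz]; group
          _ = C.zz⁻¹ := by group
      calc k'⁻¹ * C.z * k' = C.s * (k⁻¹ * (C.s⁻¹ * C.z * C.s) * k) * C.s⁻¹ := by rw [hk']; group
        _ = C.s * (k⁻¹ * C.zz * k) * C.s⁻¹ := by
          rw [C.toLocH.s_inv]
          have : C.zz = C.s * C.z * C.s := by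
            show C.s * C.z * C.s⁻¹ = _
            rw [C.toLocH.s_inv]
          rw [this]
        _ = C.z⁻¹ := by rw [h2, ← conj_inv, C.toLocH.s_zz]
    calc u * C.z * u⁻¹ = k * (k'⁻¹ * C.z * k') * k⁻¹ := by rw [hu]; group
      _ = C.z⁻¹ := by
        rw [h1, (show Commute k C.z from hkz).inv_right.eq, mul_inv_cancel_right]
  obtain ⟨c, hc, d, hd, hcd⟩ := C.inverting_M huM hut huz
  have := C.hd_sq hc hd
  rw [← hcd, hu2] at this
  exact C.toLocT.t_ne this.symm

theorem exists_iso (hodd : ¬ C.EvenType) : Nonempty (C.Bar ≃* Perm (Fin 8)) := by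
  rcases C.odd_bar hdec hodd with h | ⟨N, hN, -, ⟨e⟩, hsq⟩
  · exact h
  · haveI := hN
    exact (C.not_product hdec N e hsq).elim

end LocC

end Cfsg.Lib.McLThree
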