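import Cfsg.Agent.Lib.McLThree.Outer

/-!
Restriction of the configuration to a subgroup of index two.
-/

set_option autoImplicit false
set_option linter.style.haveILetI false
set_option linter.unusedSectionVars false

namespace Cfsg.Lib.McLThree

open Equiv Cfsg.Lib.Recog.Icosa
open Cfsg.Lib.AltEightThree (mem_cent_singleton conj_mem_normalizer mem_normalizer_of_forall)

universe v

variable {G : Type v} [Group G] [Finite G]

theorem normalizer_subgroupOf {H K : Subgroup G} (hK : K ≤ H) {g : H} :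
    g ∈ Subgroup.normalizer (K.subgroupOf H : Set H) ↔
      (g : G) ∈ Subgroup.normalizer (K : Set G) := by
  constructor
  · intro h
    refine mem_normalizer_of_forall (fun x hx => ?_)
    exact conj_mem_normalizer h (x := (⟨x, hK hx⟩ : H)) hx
  · intro h
    refine mem_normalizer_of_forall (fun x hx => ?_)
    exact conj_mem_normalizer h (x := (x : G)) hx

theorem zpowers_subgroupOf {H : Subgroup G} (a : H) {x : H} :
    x ∈ Subgroup.zpowers a ↔ (x : G) ∈ Subgroup.zpowers (a : G) := by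
  constructor
  · rintro ⟨i, rfl⟩; exact ⟨i, by push_cast; rfl⟩
  · rintro ⟨i, hi⟩; exact ⟨i, Subtype.ext (by push_cast; exact hi)⟩

theorem normalizer_zpowers {H : Subgroup G} (a : H) {g : H}
    (h : g ∈ Subgroup.normalizer (Subgroup.zpowers a : Set H)) :
    (g : G) ∈ Subgroup.normalizer (Subgroup.zpowers (a : G) : Set G) := by
  refine mem_normalizer_of_forall (fun x hx => ?_)
  have hxH : x ∈ H := Subgroup.zpowers_le.2 a.2 hx
  have h1 := conj_mem_normalizer h (x := (⟨x, hxH⟩ : H)) ((zpowers_subgroupOf a).2 hx)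
  exact (zpowers_subgroupOf a).1 h1

namespace LocC

variable (C : LocC G)

/-- The configuration inside a subgroup containing the relevant subgroups. -/
noncomputable def restrict (H : Subgroup G) (hS : (C.S : Subgroup G) ≤ H) (hM : C.M ≤ H)
    (hL : C.L ≤ H) : LocC H where
  S := C.S.subtype hS
  z := ⟨C.z, hS (C.Q_le C.z_mem)⟩
  J := C.J.subgroupOf H
  Q := C.Q.subgroupOf H
  M := C.M.subgroupOf H
  L := C.L.subgroupOf H
  S_card := by
    rw [← C.S_card]
    exact Nat.card_congr (Subgroup.subgroupOfEquivOfLe hS).toEquiv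
  J_le := fun x hx => C.J_le hx
  J_comm := fun a ha b hb => Subtype.ext (C.J_comm _ ha _ hb)
  J_exp := fun a ha => Subtype.ext (by push_cast; exact C.J_exp _ ha)
  J_card := by
    rw [← C.J_card]
    exact Nat.card_congr (Subgroup.subgroupOfEquivOfLe (C.J_le.trans hS)).toEquiv
  Q_le := fun x hx => C.Q_le hx
  Q_card := by
    rw [← C.Q_card]
    exact Nat.card_congr (Subgroup.subgroupOfEquivOfLe (C.Q_le.trans hS)).toEquiv
  Q_exp := fun a ha => Subtype.ext (by push_cast; exact C.Q_exp _ ha)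
  Q_comm := fun a ha b hb => (zpowers_subgroupOf _).2 (by push_cast; exact C.Q_comm _ ha _ hb)
  Q_centre := fun a ha h => (zpowers_subgroupOf _).2 (C.Q_centre _ ha (fun b hb =>
    congrArg Subtype.val (h ⟨b, hS (C.Q_le hb)⟩ hb)))
  z_mem := C.z_mem
  z_exp := Subtype.ext (by push_cast; exact C.z_exp)
  z_ne := fun h => C.z_ne (congrArg Subtype.val h)
  z_S := fun s hs => Subtype.ext (C.z_S _ hs)
  S_centre := fun s hs h => (zpowers_subgroupOf _).2 (C.S_centre _ hs (fun r hr =>
    congrArg Subtype.val (h ⟨r, hS hr⟩ hr)))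
  Q_norm := fun g hg q hq => C.Q_norm g (normalizer_zpowers _ hg) q hq
  Q_cent := fun g h => C.Q_cent _ (fun q hq => congrArg Subtype.val (h ⟨q, hS (C.Q_le hq)⟩ hq))
  M_norm := fun m hm => (normalizer_subgroupOf (C.J_le.trans hS)).2 (C.M_norm hm)
  M_conj := fun g hg m hm =>
    C.M_conj _ ((normalizer_subgroupOf (C.J_le.trans hS)).1 hg) _ hm
  M_three := fun g hg k hk => C.M_three _ ((normalizer_subgroupOf (C.J_le.trans hS)).1 hg) k
    (by have := congrArg Subtype.val hk; push_cast at this; exact this)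
  L_cent := fun l hl => Subtype.ext (C.L_cent _ hl)
  L_conj := fun g hg l hl => C.L_conj _ (normalizer_zpowers _ hg) _ hl
  L_three := fun g hg k hk => C.L_three _ (congrArg Subtype.val hg) k
    (by have := congrArg Subtype.val hk; push_cast at this; exact this)
  φ := C.φ.comp (Subgroup.subgroupOfEquivOfLe hM).toMonoidHom
  φ_surj := C.φ_surj.comp (Subgroup.subgroupOfEquivOfLe hM).surjective
  φ_ker := fun m => C.φ_ker _
  ψ := C.ψ.comp (Subgroup.subgroupOfEquivOfLe hL).toMonoidHom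
  ψ_surj := C.ψ_surj.comp (Subgroup.subgroupOfEquivOfLe hL).surjective
  ψ_ker := fun l => C.ψ_ker _
  t := ⟨C.t, hL C.t_L⟩
  t_L := C.t_L
  t_sq := Subtype.ext C.t_sq
  t_ψ := C.t_ψ
  θ := C.θ.comp (Subgroup.subgroupOfEquivOfLe hM).toMonoidHom
  θ_surj := C.θ_surj.comp (Subgroup.subgroupOfEquivOfLe hM).surjective
  θ_ker := fun m => C.θ_ker _
  θ_S := fun m => C.θ_S _
  t_M := C.t_M
  θ_t := C.θ_t
  h := ⟨C.h, hM C.h_M⟩
  s := ⟨C.s, hM C.s_M⟩
  h_M := C.h_M
  s_M := C.s_M
  θ_h := C.θ_h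
  h_sq := Subtype.ext C.h_sq
  θ_s := C.θ_s
  s_sq := Subtype.ext C.s_sq
  s_t := Subtype.ext C.s_t
  s_h := Subtype.ext (by push_cast; exact C.s_h)
  π := C.π.comp (Subgroup.subgroupOfEquivOfLe hL).toMonoidHom
  π_sign := fun l => C.π_sign _
  π_surj := fun p hp => by
    obtain ⟨l, hl⟩ := C.π_surj p hp
    exact ⟨⟨⟨l, hL l.2⟩, l.2⟩, hl⟩
  π_ker := fun l => C.π_ker _
  π_zz := C.π_zz

variable (H : Subgroup G) (hS : (C.S : Subgroup G) ≤ H) (hM : C.M ≤ H) (hL : C.L ≤ H)

theorem restrict_dec (hdec : C.toLocH.Dec) : (C.restrict H hS hM hL).toLocH.Dec := by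
  intro u hu g hgu hgt
  have hu' : (u : G) = C.y ∨ (u : G) = C.y' := by
    rcases hu with h | h
    · exact Or.inl (congrArg Subtype.val h)
    · exact Or.inr (congrArg Subtype.val h)
  have h1 := hdec _ hu' (g : G) (congrArg Subtype.val hgu) (congrArg Subtype.val hgt)
  refine mem_normalizer_of_forall (fun x hx => ?_)
  obtain ⟨hx1, hx2⟩ := (C.restrict H hS hM hL).toLocH.mem_FixD.1 hx
  have h2 : (x : G) ∈ C.FixD := C.mem_FixD.2 ⟨hx1, congrArg Subtype.val hx2⟩
  obtain ⟨h3, h4⟩ := C.mem_FixD.1 (conj_mem_normalizer h1 h2)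
  exact (C.restrict H hS hM hL).toLocH.mem_FixD.2 ⟨h3, Subtype.ext h4⟩

theorem restrict_ρ (g : (C.restrict H hS hM hL).CZ) (hg : ((g : H) : G) ∈ C.CZ) :
    (C.restrict H hS hM hL).ρz g = C.ρz ⟨_, hg⟩ := by
  have hgN := (C.restrict H hS hM hL).CZ_le g.2
  refine (C.restrict H hS hM hL).img_unique hgN
    ((C.restrict H hS hM hL).ρ_spec ⟨_, hgN⟩) ?_
  intro l hl
  exact C.ρ_spec ⟨_, C.CZ_le hg⟩ ⟨((l : H) : G), l.2⟩ hl

theorem image_simple_le {K : Subgroup G} (hH : H.index = 2) {X : Type*} [Group X] [Finite X]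
    [IsSimpleGroup X] (hX : 3 ≤ Nat.card X) (f : K →* X) (hf : Function.Surjective f)
    (hker : ∀ k : K, f k = 1 → (k : G) ∈ H) : K ≤ H := by
  haveI : H.Normal := Subgroup.normal_of_index_eq_two hH
  have hker' : f.ker ≤ H.subgroupOf K := fun k hk => hker k hk
  have hdvd : (H.subgroupOf K).index ∣ 2 := hH ▸ Subgroup.relIndex_dvd_index_of_normal H K
  haveI hn : ((H.subgroupOf K).map f).Normal := Subgroup.Normal.map inferInstance f hf
  have hidx := Subgroup.index_map_eq (H.subgroupOf K) hf hker'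
  rcases IsSimpleGroup.eq_bot_or_eq_top_of_normal _ hn with h | h
  · exfalso
    rw [h, Subgroup.index_bot] at hidx
    have := Nat.le_of_dvd (by norm_num) (hidx ▸ hdvd)
    omega
  · rw [h, Subgroup.index_top, eq_comm, Subgroup.index_eq_one, Subgroup.subgroupOf_eq_top] at hidx
    exact hidx

theorem square_mem {K : Subgroup G} (hK : K.index = 2) {x : G} {k : ℕ} (hx : x ^ 3 ^ k = 1) :
    x ∈ K := by
  haveI : K.Normal := Subgroup.normal_of_index_eq_two hK
  obtain ⟨m, hm⟩ : Odd (3 ^ k) := Odd.pow (by decide)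
  have e : x = x ^ (m + 1) * x ^ (m + 1) := by
    rw [← pow_add, show m + 1 + (m + 1) = 3 ^ k + 1 by omega, pow_succ, hx, one_mul]
  rw [e]
  exact Subgroup.mul_self_mem_of_index_two hK _

theorem three_le_index_two (hH : H.index = 2) : (C.S : Subgroup G) ≤ H ∧ C.M ≤ H ∧ C.L ≤ H := by
  have hS : (C.S : Subgroup G) ≤ H := fun x hx => by
    obtain ⟨k, hk⟩ := C.S.isPGroup' ⟨x, hx⟩
    exact square_mem hH (k := k) (congrArg Subtype.val hk)
  haveI : IsSimpleGroup ASix := alternatingGroup.isSimpleGroup (by simp)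
  have hM : C.M ≤ H := image_simple_le H hH (by
      rw [nat_card_alternatingGroup, Nat.card_fin, show (6 : ℕ).factorial / 2 = 360 from rfl]
      norm_num) C.θ C.θ_surj (fun m hm => hS (C.J_le ((C.θ_ker m).1 hm)))
  refine ⟨hS, hM, ?_⟩
  let f : C.L →* alternatingGroup (Fin 5) :=
    C.π.codRestrict _ (fun l => Perm.mem_alternatingGroup.2 (C.π_sign l))
  haveI : IsSimpleGroup (alternatingGroup (Fin 5)) := alternatingGroup.isSimpleGroup (by simp)
  refine image_simple_le H hH (by
    rw [nat_card_alternatingGroup, Nat.card_fin, show (5 : ℕ).factorial / 2 = 60 from rfl]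
    norm_num) f (fun p => ?_) (fun l hl => ?_)
  · obtain ⟨l, hl⟩ := C.π_surj p (Perm.mem_alternatingGroup.1 p.2)
    exact ⟨l, Subtype.ext hl⟩
  · rcases (C.π_ker l).1 (congrArg Subtype.val hl) with h | h
    · exact hS (C.Q_le ((C.ψ_ker l).1 h))
    · have h1 : (l : G) * C.t ∈ H := hS (C.Q_le (C.toLocT.mem_coset_t l.2 h))
      have h2 : C.t ∈ H := C.h_sq ▸ Subgroup.mul_self_mem_of_index_two hH _
      have := mul_mem h1 h2
      rwa [mul_assoc, C.t_sq, mul_one] at this

theorem restrict_even (hdec : C.toLocH.Dec) (hodd : ¬ C.EvenType) (hH : H.index = 2) :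
    (C.restrict H hS hM hL).EvenType := by
  intro g
  obtain ⟨e⟩ := C.exists_iso hdec hodd
  haveI : H.Normal := Subgroup.normal_of_index_eq_two hH
  have hz : ((g : H) : G) * C.z = C.z * ((g : H) : G) :=
    congrArg Subtype.val (mem_cent_singleton.1 g.2.1)
  have ht : ((g : H) : G) * C.t = C.t * ((g : H) : G) :=
    congrArg Subtype.val (mem_cent_singleton.1 g.2.2)
  rw [C.restrict_ρ H hS hM hL g (C.mem_CZ hz ht), ← C.sgn_CZ e]
  -- `H ∩ C(t)` lies over the alternating group
  set W := H.subgroupOf C.CT with hW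
  have hker : (C.toEight e).ker ≤ W := by
    rintro ⟨x, hx⟩ hxk
    rcases (C.bar_eq_one (mem_cent_singleton.1 hx)).1 (e.map_eq_one_iff.1 hxk) with h | h
    · show x ∈ H
      rw [h]; exact one_mem _
    · show x ∈ H
      rw [h]; exact hL C.t_L
  have hnot : ¬ C.CT ≤ H := by
    intro hle
    haveI : Fact (Nat.Prime 2) := ⟨Nat.prime_two⟩
    obtain ⟨P, hP, hPc⟩ := C.exists_sylow_two hdec e
    have h1 := Subgroup.card_dvd_of_le (hP.trans hle)
    have h2 := H.card_mul_index
    rw [hH] at h2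
    have h512 : 2 ^ 9 ∣ Nat.card G := by
      rw [← h2, show 2 ^ 9 = 256 * 2 from rfl]
      exact Nat.mul_dvd_mul (hPc ▸ h1) (dvd_refl 2)
    have h3 := P.pow_dvd_card_of_pow_dvd_card h512
    rw [hPc] at h3
    norm_num at h3
  have hWi : W.index = 2 := by
    have hdvd : W.index ∣ 2 := hH ▸ Subgroup.relIndex_dvd_index_of_normal H C.CT
    rcases (Nat.dvd_prime Nat.prime_two).1 hdvd with h | h
    · exact absurd (Subgroup.subgroupOf_eq_top.1 (Subgroup.index_eq_one.1 h)) hnot
    · exact h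
  have hA := Equiv.Perm.eq_alternatingGroup_of_index_eq_two
    ((Subgroup.index_map_eq W (C.toEight_surj e) hker).trans hWi)
  have hmem : C.toEight e ⟨_, mem_cent_singleton.2 ht⟩ ∈ W.map (C.toEight e) :=
    ⟨_, (g : H).2, rfl⟩
  rw [hA, Perm.mem_alternatingGroup] at hmem
  exact hmem

end LocC

end Cfsg.Lib.McLThree
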