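import Cfsg.Agent.Lib.McLThree.Kernel
import Cfsg.Agent.S4231

/-!
The action of `N(⟨z⟩) ∩ C(t)` on `L/Q` modulo its centre, as a map to the symmetric group of
degree five.
-/

set_option autoImplicit false
set_option linter.style.haveILetI false
set_option linter.unusedSectionVars false

namespace Cfsg.Lib.McLThree

open Equiv Cfsg.Lib.Recog.Icosa
open Cfsg.Lib.AltEightThree (mem_cent_singleton conj_mem_normalizer mem_normalizer_of_forall
  mem_normalizer_of_cent)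

variable {G : Type*} [Group G] [Finite G]

namespace LocH

variable (H : LocH G)

/-- `N(⟨z⟩) ∩ C(t)`. -/
def NZ : Subgroup G :=
  Subgroup.normalizer (Subgroup.zpowers H.z : Set G) ⊓ Subgroup.centralizer ({H.t} : Set G)

theorem mem_NZ {g : G} : g ∈ H.NZ ↔
    g ∈ Subgroup.normalizer (Subgroup.zpowers H.z : Set G) ∧ g * H.t = H.t * g := by
  rw [NZ, Subgroup.mem_inf, mem_cent_singleton]

theorem mem_NZ_of_cent {g : G} (hz : g * H.z = H.z * g) (ht : g * H.t = H.t * g) : g ∈ H.NZ :=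
  H.mem_NZ.2 ⟨H.toLoc.cent_norm hz, ht⟩

theorem NZ_conj_L {g : G} (hg : g ∈ H.NZ) {l : G} (hl : l ∈ H.L) : g * l * g⁻¹ ∈ H.L :=
  H.L_conj g (H.mem_NZ.1 hg).1 l hl

theorem inner1_kernel {g : G} (hz : g * H.z = H.z * g) (ht : g * H.t = H.t * g)
    (h : H.toLoc.Inner1 g) : ∃ i j : ℕ, g = H.z ^ i * H.t ^ j := by
  have hN := H.toLoc.cent_norm hz
  have hpow : ∀ n : ℕ, g ^ n * H.z = H.z * g ^ n ∧ g ^ n * H.t = H.t * g ^ n ∧
      H.toLoc.Inner1 (g ^ n) := fun n =>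
    ⟨(Commute.pow_left hz n).eq, (Commute.pow_left ht n).eq, H.toLoc.inner1_pow hN h n⟩
  have h5 : ∀ n : ℕ, 1 < n → n.Coprime 6 → ∀ m : ℕ, (g ^ m) ^ n = 1 → g ^ m = 1 := by
    intro n
    induction n using Nat.strong_induction_on with
    | _ n ih =>
      intro h1 h6 m hm
      obtain ⟨p, hp, k, rfl⟩ := Nat.exists_prime_and_dvd (show n ≠ 1 by omega)
      have hp6 : p.Coprime 6 := h6.coprime_dvd_left (Dvd.intro k rfl)
      have hp5 : 5 ≤ p := by
        by_contra hlt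
        have hp4 : p < 5 := by omega
        interval_cases p <;> first | (norm_num at hp; done) | (norm_num at hp6)
      obtain ⟨hk1, hk2, hk3⟩ := hpow (m * k)
      have h2 : g ^ (m * k) = 1 := by
        refine H.inner1_prime hk1 hk3 hp hp5 ?_
        rw [← pow_mul, show m * k * p = m * (p * k) by ring, pow_mul]
        exact hm
      rcases Nat.lt_or_ge 1 k with hk | hk
      · refine ih k ?_ hk (h6.coprime_dvd_left (Dvd.intro_left p rfl)) m (by rwa [← pow_mul])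
        have : 2 * k ≤ p * k := Nat.mul_le_mul_right k hp.two_le
        omega
      · have hk' : k = 1 := by
          rcases Nat.eq_zero_or_pos k with rfl | hk0
          · simp at h1
          · omega
        rwa [hk', mul_one] at h2
  obtain ⟨a, n, hn, han⟩ := exists_pow_prime_to 3 Nat.prime_three g
  set x := g ^ 3 ^ a with hx
  have hn0 : n ≠ 0 := by rintro rfl; norm_num at hn
  obtain ⟨b, n', hn', rfl⟩ := Nat.exists_eq_pow_mul_and_not_dvd hn0 2 (by norm_num)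
  have hx2 : x ^ 2 ^ b = 1 := by
    rcases Nat.lt_or_ge 1 n' with h1 | h1
    · have hc6 : n'.Coprime 6 := by
        rw [show (6 : ℕ) = 2 * 3 from rfl]
        exact Nat.Coprime.mul_right ((Nat.prime_two.coprime_iff_not_dvd.2 hn').symm)
          (hn.coprime_dvd_left (Dvd.intro_left _ rfl))
      rw [hx, ← pow_mul]
      refine h5 n' h1 hc6 _ ?_
      rw [← pow_mul, mul_assoc, pow_mul, ← hx]
      exact han
    · have hn1 : n' = 1 := by
        rcases Nat.eq_zero_or_pos n' with rfl | hn0'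
        · simp at hn'
        · omega
      rwa [hn1, mul_one] at han
  have hxt : x = 1 ∨ x = H.t := by
    have key : ∀ b m : ℕ, (g ^ m) ^ 2 ^ b = 1 → g ^ m = 1 ∨ g ^ m = H.t := by
      intro b
      induction b with
      | zero => intro m hm; left; simpa using hm
      | succ b ih =>
        intro m hm
        obtain ⟨h1, h2, h3⟩ := hpow m
        have h4 := ih (m * 2) (by rw [← pow_mul, mul_assoc, ← pow_succ', pow_mul]; exact hm)
        rw [pow_mul, pow_two] at h4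
        rcases h4 with h4 | h4
        · exact H.inner1_involution h1 h2 h3 h4
        · exact (H.inner1_four h1 h3 h4).elim
    exact key b _ hx2
  obtain ⟨e, he⟩ : ∃ e : ℕ, x = H.t ^ e := by
    rcases hxt with h' | h'
    · exact ⟨0, by simpa using h'⟩
    · exact ⟨1, by simpa using h'⟩
  -- the rest is a 3-element
  have hgt : Commute g (H.t ^ e) := Commute.pow_right ht e
  set g' := g * H.t ^ e with hg'
  have hg'3 : g' ^ 3 ^ a = 1 := by
    rw [hg', hgt.mul_pow, ← hx, he, ← pow_mul, ← pow_add]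
    have hdvd : 2 ∣ e + e * 3 ^ a := by
      rw [show e + e * 3 ^ a = e * (1 + 3 ^ a) by ring]
      exact Dvd.dvd.mul_left (Nat.two_dvd_ne_zero.symm.not_left.1 (by
        rw [Nat.add_mod, Nat.pow_mod]; norm_num)) e
    obtain ⟨q, hq⟩ := hdvd
    rw [hq, pow_mul, pow_two, H.t_sq, one_pow]
  have hg'z : g' * H.z = H.z * g' :=
    ((show Commute g H.z from hz).mul_left
      ((show Commute H.t H.z from H.toLocT.t_z).pow_left e)).eq
  have hg'L : g' ∈ H.L := H.L_three g' hg'z a hg'3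
  have hte : (H.t ^ e) ∈ H.L := pow_mem H.t_L e
  have hgL : g ∈ H.L := by
    have := mul_mem hg'L (inv_mem hte)
    rwa [hg', mul_inv_cancel_right] at this
  have hcent : ∀ A : SL25, H.ψ ⟨g, hgL⟩ * A = A * H.ψ ⟨g, hgL⟩ := by
    intro A
    obtain ⟨l, rfl⟩ := H.ψ_surj A
    have hm := mul_mem (mul_mem hgL l.2) (inv_mem hgL)
    have h1 := h l hm
    rw [show (⟨g * (l : G) * g⁻¹, hm⟩ : H.L) = ⟨g, hgL⟩ * l * (⟨g, hgL⟩ : H.L)⁻¹ from rfl, map_mul,
      map_mul, map_inv] at h1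
    exact mul_inv_eq_iff_eq_mul.1 h1
  have hcen : ∀ A : SL25, (∀ B : SL25, A * B = B * A) → A = 1 ∨ A = gensSL 2 := by
    intro A hA
    have hfin : ∀ A : SL25, A * gensSL 0 = gensSL 0 * A → A * gensSL 1 = gensSL 1 * A →
        A = 1 ∨ A = gensSL 2 := by decide +kernel
    exact hfin A (hA _) (hA _)
  have hQ : ∃ j : ℕ, g * H.t ^ j ∈ H.Q := by
    rcases hcen _ hcent with h' | h'
    · exact ⟨0, by simpa using (H.ψ_ker _).1 h'⟩
    · exact ⟨1, by simpa using H.toLocT.mem_coset_t hgL h'⟩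
  obtain ⟨j, hj⟩ := hQ
  have hjt : H.t * (g * H.t ^ j) = (g * H.t ^ j) * H.t :=
    (((show Commute H.t g from ht.symm).mul_right ((Commute.refl H.t).pow_right j))).eq
  obtain ⟨i, hi⟩ := mem_powers_iff_mem_zpowers.2 (H.toLocT.cQ_t hj hjt)
  simp only at hi
  refine ⟨i, j, ?_⟩
  rw [hi, mul_assoc, ← pow_add, ← two_mul, pow_mul, pow_two, H.t_sq, one_pow, mul_one]

end LocH

/-- The configuration with a normalised map of `L` onto the alternating group of degree five. -/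
structure LocC (G : Type*) [Group G] [Finite G] extends LocH G where
  /-- the map onto the alternating group -/
  π : toLocH.L →* Perm (Fin 5)
  π_sign : ∀ l, Perm.sign (π l) = 1
  π_surj : ∀ p : Perm (Fin 5), Perm.sign p = 1 → ∃ l, π l = p
  π_ker : ∀ l, π l = 1 ↔ toLocH.ψ l = 1 ∨ toLocH.ψ l = gensSL 2
  π_zz : π ⟨toLocH.zz, toLocH.zz_L⟩ = c[(0 : Fin 5), 1, 2]

theorem LocH.exists_locC (H : LocH G) : ∃ C : LocC G, C.toLocH = H := by
  obtain ⟨π, hsurj, h2, hker⟩ := exists_sl_to_alt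
  obtain ⟨hX3, hX1⟩ := H.ψ_zz
  set p0 : Perm (Fin 5) := ((π (H.ψ ⟨H.zz, H.zz_L⟩) : alternatingGroup (Fin 5)) : Perm (Fin 5))
    with hp0
  have hp3 : p0 ^ 3 = 1 := by
    rw [hp0, ← SubmonoidClass.coe_pow, ← map_pow, hX3, map_one]; rfl
  have hp1 : p0 ≠ 1 := by
    intro h
    have h' : π (H.ψ ⟨H.zz, H.zz_L⟩) = 1 := Subtype.ext h
    rcases hker _ h' with h'' | h''
    · exact hX1 h''
    · rw [h''] at hX3
      exact absurd hX3 (by decide +kernel)
  obtain ⟨c, hc⟩ := five_three_conj p0 hp3 hp1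
  refine ⟨{
    toLocH := H
    π := (MulAut.conj c).toMonoidHom.comp
      (((alternatingGroup (Fin 5)).subtype).comp (π.comp H.ψ))
    π_sign := ?_
    π_surj := ?_
    π_ker := ?_
    π_zz := hc }, rfl⟩
  · intro l
    show Perm.sign (c * (π (H.ψ l) : Perm (Fin 5)) * c⁻¹) = 1
    rw [Perm.sign_mul, Perm.sign_mul, Perm.sign_inv, mul_right_comm, Int.units_mul_self, one_mul]
    exact Perm.mem_alternatingGroup.1 (π (H.ψ l)).2
  · intro p hp
    have hp' : c⁻¹ * p * c ∈ alternatingGroup (Fin 5) := by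
      rw [Perm.mem_alternatingGroup, Perm.sign_mul, Perm.sign_mul, Perm.sign_inv, mul_right_comm,
        Int.units_mul_self, one_mul, hp]
    obtain ⟨A, hA⟩ := hsurj ⟨_, hp'⟩
    obtain ⟨l, rfl⟩ := H.ψ_surj A
    refine ⟨l, ?_⟩
    show c * (π (H.ψ l) : Perm (Fin 5)) * c⁻¹ = p
    rw [hA]; group
  · intro l
    show c * (π (H.ψ l) : Perm (Fin 5)) * c⁻¹ = 1 ↔ _
    rw [conj_eq_one_iff]
    constructor
    · intro h; exact hker _ (Subtype.ext h)
    · rintro (h | h)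
      · rw [h, map_one]; rfl
      · rw [h, h2]; rfl

namespace LocC

variable (C : LocC G)

theorem π_Q {q : G} (hq : q ∈ C.Q) (h : q ∈ C.L) : C.π ⟨q, h⟩ = 1 :=
  (C.π_ker _).2 (Or.inl (C.toLoc.ψ_of_mem_Q hq h))

theorem π_z (h : C.z ∈ C.L) : C.π ⟨C.z, h⟩ = 1 := C.π_Q C.z_mem h

theorem π_t : C.π ⟨C.t, C.t_L⟩ = 1 := (C.π_ker _).2 (Or.inr C.t_ψ)

/-- The characterisation of the image of `g`. -/
def IsImg (g : G) (p : Perm (Fin 5)) : Prop :=
  ∀ l : C.L, ∀ h : g * (l : G) * g⁻¹ ∈ C.L, C.π ⟨g * (l : G) * g⁻¹, h⟩ = p * C.π l * p⁻¹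

theorem img_unique {g : G} (hg : g ∈ C.NZ) {p p' : Perm (Fin 5)} (h : C.IsImg g p)
    (h' : C.IsImg g p') : p = p' := by
  apply Cfsg.Agent.S4231.conj_inj 5 (by norm_num)
  apply MulEquiv.ext
  intro a
  apply Subtype.ext
  rw [MulAut.conjNormal_apply, MulAut.conjNormal_apply]
  obtain ⟨l, hl⟩ := C.π_surj a (Perm.mem_alternatingGroup.1 a.2)
  rw [← hl, ← h l (C.NZ_conj_L hg l.2), ← h' l (C.NZ_conj_L hg l.2)]

theorem img_mul {g g' : G} (hg' : g' ∈ C.NZ) {p p' : Perm (Fin 5)}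
    (h : C.IsImg g p) (h' : C.IsImg g' p') : C.IsImg (g * g') (p * p') := by
  intro l hl
  have h1 := C.NZ_conj_L hg' l.2
  have h3 : g * (g' * (l : G) * g'⁻¹) * g⁻¹ ∈ C.L := by rw [conj_conj]; exact hl
  have h2 := h ⟨_, h1⟩ h3
  rw [h' l h1] at h2
  calc C.π ⟨g * g' * (l : G) * (g * g')⁻¹, hl⟩ = C.π ⟨g * (g' * (l : G) * g'⁻¹) * g⁻¹, h3⟩ := by
        congr 1; exact Subtype.ext (conj_conj g g' l).symm
    _ = p * (p' * C.π l * p'⁻¹) * p⁻¹ := h2
    _ = _ := conj_conj _ _ _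

theorem img_exists {g : G} (hg : g ∈ C.NZ) : ∃ p, C.IsImg g p := by
  have hgi : g⁻¹ ∈ C.NZ := inv_mem hg
  have hker : ∀ e : G, (he : e ∈ C.NZ) → ∀ l : C.L, C.π l = 1 →
      C.π ⟨e * (l : G) * e⁻¹, C.NZ_conj_L he l.2⟩ = 1 := by
    intro e he l hl
    obtain ⟨hN, het⟩ := C.mem_NZ.1 he
    rcases (C.π_ker l).1 hl with h | h
    · exact C.π_Q (C.Q_norm e hN _ ((C.ψ_ker l).1 h)) _
    · have hlt : (l : G) * C.t ∈ C.Q := C.toLocT.mem_coset_t l.2 h
      have h1 := C.Q_norm e hN _ hlt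
      have e1 : e * (l : G) * e⁻¹ = e * ((l : G) * C.t) * e⁻¹ * C.t := by
        calc e * (l : G) * e⁻¹ = e * ((l : G) * C.t) * (C.t * e⁻¹) := by
              rw [mul_assoc e, mul_assoc e, mul_assoc (l : G) C.t, ← mul_assoc C.t C.t, C.t_sq,
                one_mul]
          _ = e * ((l : G) * C.t) * (e⁻¹ * C.t) := by
              rw [show C.t * e⁻¹ = e⁻¹ * C.t from ((Commute.inv_left het).eq).symm]
          _ = _ := by group
      rw [show (⟨e * (l : G) * e⁻¹, C.NZ_conj_L he l.2⟩ : C.L) =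
        ⟨e * ((l : G) * C.t) * e⁻¹, C.toLoc.Q_le_L h1⟩ * ⟨C.t, C.t_L⟩ from Subtype.ext e1, map_mul,
        C.π_Q h1, C.π_t, one_mul]
  -- the induced map on the alternating group
  choose sec hsec using C.π_surj
  let f : (e : G) → e ∈ C.NZ → alternatingGroup (Fin 5) → alternatingGroup (Fin 5) :=
    fun e he a => ⟨C.π ⟨e * ((sec a (Perm.mem_alternatingGroup.1 a.2) : C.L) : G) * e⁻¹,
      C.NZ_conj_L he (SetLike.coe_mem _)⟩, Perm.mem_alternatingGroup.2 (C.π_sign _)⟩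
  have hf : ∀ e : G, ∀ he : e ∈ C.NZ, ∀ l : C.L, ∀ a : alternatingGroup (Fin 5),
      C.π l = a → (f e he a : Perm (Fin 5)) = C.π ⟨e * (l : G) * e⁻¹, C.NZ_conj_L he l.2⟩ := by
    intro e he l a hla
    set l' := sec a (Perm.mem_alternatingGroup.1 a.2) with hl'
    have h1 : C.π (l'⁻¹ * l) = 1 := by rw [map_mul, map_inv, hsec, hla, inv_mul_cancel]
    have h2 := hker e he _ h1
    rw [show (⟨e * ((l'⁻¹ * l : C.L) : G) * e⁻¹, C.NZ_conj_L he (SetLike.coe_mem _)⟩ : C.L) =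
      (⟨e * (l' : G) * e⁻¹, C.NZ_conj_L he l'.2⟩ : C.L)⁻¹ * ⟨e * (l : G) * e⁻¹, C.NZ_conj_L he l.2⟩
      from Subtype.ext (by push_cast; group), map_mul, map_inv, inv_mul_eq_one] at h2
    exact h2
  have hinv : ∀ a, f g⁻¹ hgi (f g hg a) = a := by
    intro a
    obtain ⟨l, hl⟩ := C.π_surj a (Perm.mem_alternatingGroup.1 a.2)
    apply Subtype.ext
    rw [hf g⁻¹ hgi ⟨g * (l : G) * g⁻¹, C.NZ_conj_L hg l.2⟩ _ (hf g hg l a hl).symm, ← hl]
    congr 1
    exact Subtype.ext (by show g⁻¹ * (g * (l : G) * g⁻¹) * g⁻¹⁻¹ = l; group)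
  have hinv' : ∀ a, f g hg (f g⁻¹ hgi a) = a := by
    intro a
    obtain ⟨l, hl⟩ := C.π_surj a (Perm.mem_alternatingGroup.1 a.2)
    apply Subtype.ext
    rw [hf g hg ⟨g⁻¹ * (l : G) * g⁻¹⁻¹, C.NZ_conj_L hgi l.2⟩ _ (hf g⁻¹ hgi l a hl).symm, ← hl]
    congr 1
    exact Subtype.ext (by show g * (g⁻¹ * (l : G) * g⁻¹⁻¹) * g⁻¹ = l; group)
  let α : MulAut (alternatingGroup (Fin 5)) :=
    { toFun := f g hg
      invFun := f g⁻¹ hgi
      left_inv := hinv
      right_inv := hinv'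
      map_mul' := fun a b => Subtype.ext (by
        obtain ⟨la, hla⟩ := C.π_surj a (Perm.mem_alternatingGroup.1 a.2)
        obtain ⟨lb, hlb⟩ := C.π_surj b (Perm.mem_alternatingGroup.1 b.2)
        push_cast
        rw [hf g hg la a hla, hf g hg lb b hlb,
          hf g hg (la * lb) (a * b) (by rw [map_mul, hla, hlb]; rfl), ← map_mul]
        congr 1
        exact Subtype.ext (by push_cast; group)) }
  obtain ⟨p, hp⟩ := Cfsg.Agent.S4231.mem_range 5 le_rfl α (Or.inl (by norm_num))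
  refine ⟨p, fun l hl => ?_⟩
  have hal : C.π l ∈ alternatingGroup (Fin 5) := Perm.mem_alternatingGroup.2 (C.π_sign l)
  have h1 := congrArg Subtype.val (DFunLike.congr_fun hp ⟨C.π l, hal⟩)
  rw [MulAut.conjNormal_apply] at h1
  exact ((hf g hg l ⟨_, hal⟩ rfl).symm.trans h1.symm)

/-- The map to the symmetric group of degree five. -/
noncomputable def ρ : C.NZ →* Perm (Fin 5) where
  toFun g := Classical.choose (C.img_exists g.2)
  map_one' := C.img_unique (one_mem _) (Classical.choose_spec (C.img_exists (one_mem _)))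
    (fun l hl => by
      simp only [one_mul, inv_one, mul_one])
  map_mul' g g' := C.img_unique (SetLike.coe_mem _)
    (Classical.choose_spec (C.img_exists (g * g').2))
    (C.img_mul g'.2 (Classical.choose_spec (C.img_exists g.2))
      (Classical.choose_spec (C.img_exists g'.2)))

theorem ρ_spec (g : C.NZ) : C.IsImg g (C.ρ g) := Classical.choose_spec (C.img_exists g.2)

theorem ρ_L {g : G} (hg : g ∈ C.NZ) (hgL : g ∈ C.L) : C.ρ ⟨g, hg⟩ = C.π ⟨g, hgL⟩ :=
  C.img_unique hg (C.ρ_spec ⟨g, hg⟩) (fun l hl => by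
    rw [← map_inv, ← map_mul, ← map_mul]
    congr 1)

theorem inner1_of_ρ {g : G} (hgN : g ∈ C.NZ) (h : C.ρ ⟨g, hgN⟩ = 1) : C.toLoc.Inner1 g := by
  have himg := C.ρ_spec ⟨g, hgN⟩
  rw [h] at himg
  -- the discrepancy is a sign
  let χ : C.L → SL25 := fun l =>
    C.ψ ⟨g * (l : G) * g⁻¹, C.NZ_conj_L hgN l.2⟩ * (C.ψ l)⁻¹
  have hpm : ∀ l, χ l = 1 ∨ χ l = gensSL 2 := by
    intro l
    have h1 := himg l (C.NZ_conj_L hgN l.2)
    rw [one_mul, inv_one, mul_one] at h1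
    have h2 : C.π (⟨g * (l : G) * g⁻¹, C.NZ_conj_L hgN l.2⟩ * l⁻¹) = 1 := by
      rw [map_mul, map_inv]; exact mul_inv_eq_one.2 h1
    have h3 := (C.π_ker _).1 h2
    rwa [map_mul, map_inv] at h3
  have hcent : ∀ l, ∀ B : SL25, χ l * B = B * χ l := by
    intro l B
    rcases hpm l with h1 | h1 <;> rw [h1]
    · simp
    · exact (sl_centre.2.2.1 B).symm
  have hχmul : ∀ l l', χ (l * l') = χ l * χ l' := by
    intro l l'
    simp only [χ]
    rw [show (⟨g * ((l * l' : C.L) : G) * g⁻¹, C.NZ_conj_L hgN (SetLike.coe_mem _)⟩ : C.L) =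
      ⟨g * (l : G) * g⁻¹, C.NZ_conj_L hgN l.2⟩ * ⟨g * (l' : G) * g⁻¹, C.NZ_conj_L hgN l'.2⟩ from
      Subtype.ext (by push_cast; group), map_mul, map_mul, mul_inv_rev]
    have hc := hcent l' (C.ψ l)⁻¹
    simp only [χ] at hc
    set P := C.ψ ⟨g * (l : G) * g⁻¹, C.NZ_conj_L hgN l.2⟩
    set P' := C.ψ ⟨g * (l' : G) * g⁻¹, C.NZ_conj_L hgN l'.2⟩
    calc P * P' * ((C.ψ l')⁻¹ * (C.ψ l)⁻¹) = P * (P' * (C.ψ l')⁻¹ * (C.ψ l)⁻¹) := by group
      _ = P * ((C.ψ l)⁻¹ * (P' * (C.ψ l')⁻¹)) := by rw [hc]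
      _ = _ := by group
  have hχQ : ∀ l : C.L, C.ψ l = 1 → χ l = 1 := by
    intro l hl
    simp only [χ]
    rw [hl, inv_one, mul_one]
    exact (C.ψ_ker _).2 (C.Q_norm g (C.mem_NZ.1 hgN).1 _ ((C.ψ_ker l).1 hl))
  let f : C.L →* SL25 := MonoidHom.mk' χ hχmul
  have hodd : ∀ l : C.L, ∀ n : ℕ, n.Coprime 2 → C.ψ l ^ n = 1 → f l = 1 := by
    intro l n hn hl
    refine eq_one_of_pow_coprime (m := n) (n := 2) ?_ ?_ hn
    · rw [← map_pow]; exact hχQ _ (by rw [map_pow, hl])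
    · rw [pow_two]
      rcases hpm l with h1 | h1
      · show χ l * χ l = 1; rw [h1, mul_one]
      · show χ l * χ l = 1; rw [h1, sl_centre.1]
  intro l hl
  suffices hs : f l = 1 from mul_inv_eq_one.1 hs
  -- `L/Q` is generated by elements of odd order
  set K := f.ker.map C.ψ with hK
  have hgen : ∀ i, gensSL i ∈ K := by
    obtain ⟨l0, h0⟩ := C.ψ_surj (gensSL 0)
    obtain ⟨l1, h1⟩ := C.ψ_surj (gensSL 1)
    have m0 : gensSL 0 ∈ K := ⟨l0, hodd l0 3 (by norm_num) (by rw [h0]; exact sl_centre.2.2.2.2.2.1), h0⟩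
    have m1 : gensSL 1 ∈ K := ⟨l1, hodd l1 5 (by norm_num) (by rw [h1]; exact sl_centre.2.2.2.1), h1⟩
    have e2 : gensSL 2 = (gensSL 0 * gensSL 1) * (gensSL 0 * gensSL 1) := by decide +kernel
    intro i
    fin_cases i
    · exact m0
    · exact m1
    · show gensSL 2 ∈ K
      rw [e2]
      exact mul_mem (mul_mem m0 m1) (mul_mem m0 m1)
  obtain ⟨P, hP⟩ := toGroup_surjective (C.ψ l)
  have hPK : C.ψ l ∈ K := by
    rw [← hP]
    have hle : Subgroup.closure (Set.range (PresentedGroup.of (rels := rels120))) ≤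
        K.comap (PresentedGroup.toGroup gensSL_rels) := by
      rw [Subgroup.closure_le]
      rintro _ ⟨i, rfl⟩
      show PresentedGroup.toGroup gensSL_rels (PresentedGroup.of i) ∈ K
      rw [PresentedGroup.toGroup.of]
      exact hgen i
    rw [PresentedGroup.closure_range_of] at hle
    exact hle (Subgroup.mem_top P)
  obtain ⟨m, hm, hml⟩ := hPK
  have h2 : f (m⁻¹ * l) = 1 := hχQ _ (by rw [map_mul, map_inv, hml, inv_mul_cancel])
  rwa [map_mul, map_inv, MonoidHom.mem_ker.1 hm, inv_one, one_mul] at h2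

theorem ρ_kernel {g : G} (hz : g * C.z = C.z * g) (ht : g * C.t = C.t * g)
    (h : C.ρ ⟨g, C.mem_NZ_of_cent hz ht⟩ = 1) : ∃ i j : ℕ, g = C.z ^ i * C.t ^ j :=
  C.toLocH.inner1_kernel hz ht (C.inner1_of_ρ _ h)

end LocC

end Cfsg.Lib.McLThree
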