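import Cfsg.Agent.Lib.McLThree.SmallFive
import Cfsg.Agent.S4231

/-!
The elements of order three of `SL(2,5)` and its automorphisms of 3-power order.
-/

set_option autoImplicit false
set_option linter.style.haveILetI false
set_option linter.unusedSectionVars false

namespace Cfsg.Lib.McLThree

open Cfsg.Lib.Recog.Icosa

theorem sl_five_from_threes : (∃ B C : SL25, B ^ 3 = 1 ∧ C ^ 3 = 1 ∧ ∃ n : Fin 10, gensSL 1 = (B * C) ^ (n : ℕ)) ∧
    ∃ B C : SL25, B ^ 3 = 1 ∧ C ^ 3 = 1 ∧ (B * C) ^ 2 = gensSL 2 := by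
  decide +kernel

theorem sl_neg_cube : ∀ A : SL25, A ^ 3 = 1 → (A * gensSL 2) ^ 3 ≠ 1 := by
  decide +kernel

/-- A subgroup containing every element of order three is everything. -/
theorem sl_closure_three {H : Subgroup SL25} (h : ∀ A : SL25, A ^ 3 = 1 → A ∈ H) : H = ⊤ := by
  obtain ⟨⟨B, C, hB, hC, n, h1⟩, ⟨B', C', hB', hC', h2⟩⟩ := sl_five_from_threes
  have hgen : ∀ i, gensSL i ∈ H := by
    intro i
    fin_cases i
    · exact h _ sl_centre.2.2.2.2.2.1
    · show gensSL 1 ∈ H
      rw [h1]; exact pow_mem (mul_mem (h B hB) (h C hC)) _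
    · show gensSL 2 ∈ H
      rw [← h2]; exact pow_mem (mul_mem (h B' hB') (h C' hC')) 2
  rw [eq_top_iff]
  intro A _
  obtain ⟨x, rfl⟩ := toGroup_surjective A
  have hmem : x ∈ Subgroup.closure (Set.range (PresentedGroup.of : Fin 3 → PresentedGroup rels120)) := by
    rw [PresentedGroup.closure_range_of]; trivial
  have hle : Subgroup.closure (Set.range (PresentedGroup.of : Fin 3 → PresentedGroup rels120)) ≤
      H.comap (PresentedGroup.toGroup gensSL_rels) := by
    rw [Subgroup.closure_le]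
    rintro _ ⟨i, rfl⟩
    show PresentedGroup.toGroup gensSL_rels (PresentedGroup.of i) ∈ H
    rw [PresentedGroup.toGroup.of]
    exact hgen i
  exact hle hmem

/-- An automorphism of 3-power order is inner. -/
theorem sl_three_inner (β : MulAut SL25) {k : ℕ} (hk : β ^ 3 ^ k = 1) :
    ∃ e : SL25, ∀ A : SL25, β A = e * A * e⁻¹ := by
  obtain ⟨π, hsurj, h2, hker⟩ := exists_sl_to_alt
  obtain ⟨hsq, hne, hcent, -⟩ := sl_centre
  have hβ2 : β (gensSL 2) = gensSL 2 := by
    refine (sl_neg_unique _ ?_).resolve_left (fun h => hne (β.map_eq_one_iff.1 h))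
    rw [← map_mul, hsq, map_one]
  have hkle : π.ker ≤ (π.comp β.toMonoidHom).ker := by
    intro A hA
    rw [MonoidHom.mem_ker] at hA ⊢
    show π (β A) = 1
    rcases hker A hA with rfl | rfl
    · rw [map_one, map_one]
    · rw [hβ2, h2]
  let α₀ : alternatingGroup (Fin 5) →* alternatingGroup (Fin 5) :=
    π.liftOfSurjective hsurj ⟨π.comp β.toMonoidHom, hkle⟩
  have hα₀ : ∀ A, α₀ (π A) = π (β A) := fun A =>
    π.liftOfRightInverse_comp_apply _ (Function.rightInverse_surjInv hsurj)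
      ⟨π.comp β.toMonoidHom, hkle⟩ A
  have hα₀surj : Function.Surjective α₀ := fun a => by
    obtain ⟨A, rfl⟩ := hsurj a
    exact ⟨π (β.symm A), by rw [hα₀, β.apply_symm_apply]⟩
  let α : MulAut (alternatingGroup (Fin 5)) :=
    MulEquiv.ofBijective α₀ ⟨Finite.injective_iff_surjective.2 hα₀surj, hα₀surj⟩
  have hα : ∀ n : ℕ, ∀ A, (α ^ n) (π A) = π ((β ^ n) A) := by
    intro n
    induction n with
    | zero => intro A; rfl
    | succ n ih =>
      intro A
      rw [pow_succ, pow_succ]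
      show (α ^ n) (α₀ (π A)) = π ((β ^ n) (β A))
      rw [hα₀, ih]
  obtain ⟨p, hp⟩ := Cfsg.Agent.S4231.mem_range 5 le_rfl α (Or.inl (by norm_num))
  have hp3 : p ^ 3 ^ k = 1 := by
    apply Cfsg.Agent.S4231.conj_inj 5 (by norm_num)
    rw [map_pow, hp, map_one]
    apply MulEquiv.ext
    intro a
    obtain ⟨A, rfl⟩ := hsurj a
    rw [hα, hk]
    rfl
  have hsign : Equiv.Perm.sign p = 1 := by
    have h := congrArg Equiv.Perm.sign hp3
    rw [map_pow, map_one] at h
    rcases Int.units_eq_one_or (Equiv.Perm.sign p) with h' | h'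
    · exact h'
    · rw [h', Odd.neg_one_pow (Odd.pow (by decide))] at h
      exact absurd h (by decide)
  obtain ⟨e, he⟩ := hsurj ⟨p, Equiv.Perm.mem_alternatingGroup.2 hsign⟩
  refine ⟨e, ?_⟩
  have hcases : ∀ A, e⁻¹ * β A * e = A ∨ e⁻¹ * β A * e = A * gensSL 2 := by
    intro A
    have h1 : π (β A) = π (e * A * e⁻¹) := by
      rw [← hα₀, map_mul, map_mul, map_inv, he]
      have h2' := DFunLike.congr_fun hp (π A)
      change (MulAut.conjNormal p) (π A) = α₀ (π A) at h2'
      rw [← h2']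
      apply Subtype.ext
      rw [MulAut.conjNormal_apply]
      rfl
    have h3 : π (A⁻¹ * (e⁻¹ * β A * e)) = 1 := by
      rw [map_mul, map_mul, map_mul, h1, map_mul, map_mul, map_inv, map_inv]; group
    rcases hker _ h3 with h | h
    · exact Or.inl (inv_mul_eq_one.1 h).symm
    · exact Or.inr (by rw [← h, mul_inv_cancel_left])
  have hthree : ∀ A : SL25, A ^ 3 = 1 → e⁻¹ * β A * e = A := by
    intro A hA
    rcases hcases A with h | h
    · exact h
    · exfalso
      apply sl_neg_cube A hA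
      rw [← h]
      calc (e⁻¹ * β A * e) ^ 3 = e⁻¹ * (β A) ^ 3 * e := by simp only [pow_three]; group
        _ = 1 := by rw [← map_pow, hA, map_one]; group
  have htop := sl_closure_three
    (H := MonoidHom.eqLocus ((MulAut.conj e⁻¹).toMonoidHom.comp β.toMonoidHom) (MonoidHom.id SL25))
    (fun A hA => by
      show e⁻¹ * β A * e⁻¹⁻¹ = A
      rw [inv_inv]; exact hthree A hA)
  intro A
  have h : e⁻¹ * β A * e⁻¹⁻¹ = A := (htop ▸ Subgroup.mem_top A :
    A ∈ MonoidHom.eqLocus ((MulAut.conj e⁻¹).toMonoidHom.comp β.toMonoidHom) (MonoidHom.id SL25))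
  rw [inv_inv] at h
  calc β A = e * (e⁻¹ * β A * e) * e⁻¹ := by group
    _ = e * A * e⁻¹ := by rw [h]

end Cfsg.Lib.McLThree
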