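import Mathlib

/-!
Facts about the symmetric group of degree eight used in the 3-local recognition of the
McLaughlin group.
-/

set_option autoImplicit false
set_option linter.style.haveILetI false

namespace Cfsg.Lib.McLThree

open Equiv Equiv.Perm

theorem cycleType_of_prime {α : Type*} [Fintype α] [DecidableEq α] {p : ℕ} (hp : p.Prime)
    {σ : Perm α} (h : σ ^ p = 1) (h1 : σ ≠ 1) :
    ∃ n : ℕ, σ.cycleType = Multiset.replicate (n + 1) p ∧ σ.support.card = (n + 1) * p := by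
  haveI := Fact.mk hp
  have ho : orderOf σ = p := orderOf_eq_prime h h1
  obtain ⟨n, hn⟩ := cycleType_prime_order (ho ▸ hp : (orderOf σ).Prime)
  rw [ho] at hn
  refine ⟨n, hn, ?_⟩
  rw [← σ.sum_cycleType, hn, Multiset.sum_replicate, smul_eq_mul]

theorem conj_of_prime_of_support {α : Type*} [Fintype α] [DecidableEq α] {p : ℕ} (hp : p.Prime)
    {σ τ : Perm α} (h : σ ^ p = 1) (h1 : σ ≠ 1) (h' : τ ^ p = 1) (h1' : τ ≠ 1)
    (hs : σ.support.card = τ.support.card) : ∃ c : Perm α, c * σ * c⁻¹ = τ := by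
  obtain ⟨n, hn, hn'⟩ := cycleType_of_prime hp h h1
  obtain ⟨m, hm, hm'⟩ := cycleType_of_prime hp h' h1'
  have : n + 1 = m + 1 := Nat.eq_of_mul_eq_mul_right hp.pos (by rw [← hn', ← hm', hs])
  exact isConj_iff.1 (isConj_iff_cycleType_eq.2 (by rw [hn, hm, this]))

/-- Representatives of the classes of involutions. -/
def invRep : Fin 4 → Perm (Fin 8) :=
  ![c[(0 : Fin 8), 1], c[(0 : Fin 8), 1] * c[(2 : Fin 8), 3],
    c[(0 : Fin 8), 1] * c[(2 : Fin 8), 3] * c[(4 : Fin 8), 5],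
    c[(0 : Fin 8), 1] * c[(2 : Fin 8), 3] * c[(4 : Fin 8), 5] * c[(6 : Fin 8), 7]]

theorem invRep_spec : ∀ i : Fin 4, invRep i ^ 2 = 1 ∧ invRep i ≠ 1 ∧
    (invRep i).support.card = 2 * ((i : ℕ) + 1) ∧ Perm.sign (invRep i) = (-1) ^ ((i : ℕ) + 1) ∧
    ((∃ k, invRep i k = k) ↔ i ≠ 3) := by
  decide +kernel

theorem involution_class (q : Perm (Fin 8)) (hq : q * q = 1) (hq1 : q ≠ 1) :
    ∃ i : Fin 4, ∃ c : Perm (Fin 8), c * invRep i * c⁻¹ = q := by
  rw [← pow_two] at hq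
  obtain ⟨n, hn, hn'⟩ := cycleType_of_prime Nat.prime_two hq hq1
  have hle : q.support.card ≤ 8 := (Finset.card_le_univ _).trans (by simp)
  have hn4 : n < 4 := by omega
  refine ⟨⟨n, hn4⟩, ?_⟩
  obtain ⟨hi, hi1, his, -⟩ := invRep_spec ⟨n, hn4⟩
  exact conj_of_prime_of_support Nat.prime_two hi hi1 hq hq1 (by rw [his, hn']; simp [mul_comm])

theorem three_cycle_of_five (p q : Perm (Fin 8)) (hp : p ^ 3 = 1) (hp1 : p ≠ 1) (hq : q ^ 5 = 1)
    (hq1 : q ≠ 1) (hpq : q * p = p * q) :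
    ∃ c : Perm (Fin 8), c * c[(0 : Fin 8), 1, 2] * c⁻¹ = p := by
  obtain ⟨n, hn, hn'⟩ := cycleType_of_prime Nat.prime_three hp hp1
  have hle : p.support.card ≤ 8 := (Finset.card_le_univ _).trans (by simp)
  have hn0 : n = 0 := by
    by_contra h0
    have hn1 : n = 1 := by omega
    have hmem : q ∈ Subgroup.centralizer ({p} : Set (Perm (Fin 8))) :=
      Subgroup.mem_centralizer_singleton_iff.2 hpq
    haveI := Fact.mk (by norm_num : Nat.Prime 5)
    have h5 : orderOf q = 5 := orderOf_eq_prime hq hq1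
    have hd := orderOf_dvd_natCard (⟨q, hmem⟩ : Subgroup.centralizer ({p} : Set (Perm (Fin 8))))
    rw [Subgroup.orderOf_mk, h5, nat_card_centralizer, hn, hn1] at hd
    norm_num [Multiset.toFinset_replicate, Nat.factorial] at hd
  have hrep : c[(0 : Fin 8), 1, 2] ^ 3 = 1 ∧ c[(0 : Fin 8), 1, 2] ≠ 1 ∧
      (c[(0 : Fin 8), 1, 2]).support.card = 3 := by decide +kernel
  exact conj_of_prime_of_support Nat.prime_three hrep.1 hrep.2.1 hp hp1
    (by rw [hrep.2.2, hn', hn0])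

/-- An involution inverting a three-cycle fixes a point. -/
theorem fixed_point_of_inverting (p q c : Perm (Fin 8)) (hp : c * c[(0 : Fin 8), 1, 2] * c⁻¹ = p)
    (hqp : q * p * q⁻¹ = p⁻¹) (hq : q * q = 1) : ∃ k, q k = k := by
  set r := c⁻¹ * q * c with hr
  suffices h : ∃ k, r k = k by
    obtain ⟨k, hk⟩ := h
    refine ⟨c k, ?_⟩
    have := congrArg c hk
    simpa [hr] using this
  have hrr : r * r = 1 := by
    calc r * r = c⁻¹ * (q * q) * c := by rw [hr]; group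
      _ = 1 := by rw [hq]; group
  have hrc : r * c[(0 : Fin 8), 1, 2] = (c[(0 : Fin 8), 1, 2])⁻¹ * r := by
    rw [← hp] at hqp
    calc r * c[(0 : Fin 8), 1, 2]
        = c⁻¹ * (q * (c * c[(0 : Fin 8), 1, 2] * c⁻¹) * q⁻¹) * q * c := by rw [hr]; group
      _ = (c[(0 : Fin 8), 1, 2])⁻¹ * r := by rw [hqp, hr]; group
  by_contra hno
  simp only [not_exists] at hno
  have happ : ∀ k, r (c[(0 : Fin 8), 1, 2] k) = (c[(0 : Fin 8), 1, 2])⁻¹ (r k) := fun k =>
    DFunLike.congr_fun hrc k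
  have hinv : ∀ k, r (r k) = k := fun k => DFunLike.congr_fun hrr k
  have hfix : ∀ j : Fin 8, (c[(0 : Fin 8), 1, 2])⁻¹ j ≠ j ↔ (j = 0 ∨ j = 1 ∨ j = 2) := by
    decide +kernel
  have h01 : c[(0 : Fin 8), 1, 2] 0 = 1 ∧ c[(0 : Fin 8), 1, 2] 1 = 2 ∧ c[(0 : Fin 8), 1, 2] 2 = 0 ∧
      (c[(0 : Fin 8), 1, 2])⁻¹ 1 = 0 ∧ (c[(0 : Fin 8), 1, 2])⁻¹ 2 = 1 ∧
      (c[(0 : Fin 8), 1, 2])⁻¹ 0 = 2 := by decide +kernel
  have hr0 : r 0 = 1 ∨ r 0 = 2 := by
    have hne : (c[(0 : Fin 8), 1, 2])⁻¹ (r 0) ≠ r 0 := by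
      rw [← happ 0, h01.1]
      intro e
      exact absurd (r.injective e) (by decide)
    rcases (hfix (r 0)).1 hne with h | h | h
    · exact absurd h (hno 0)
    · exact Or.inl h
    · exact Or.inr h
  rcases hr0 with h | h
  · have hr1 : r 1 = 0 := by rw [← h, hinv]
    have h2 := happ 1
    rw [h01.2.1, hr1, h01.2.2.2.2.2] at h2
    exact hno 2 h2
  · have hr2 : r 2 = 0 := by rw [← h, hinv]
    have h2 := happ 0
    rw [h01.1, h, h01.2.2.2.2.1] at h2
    exact hno 1 h2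

/-- An involution with a fixed point and even sign is a double transposition. -/
theorem double_transposition (q : Perm (Fin 8)) (hq : q * q = 1) (hq1 : q ≠ 1)
    (hs : Perm.sign q = 1) (hfix : ∃ k, q k = k) :
    ∃ c : Perm (Fin 8), c * invRep 1 * c⁻¹ = q := by
  obtain ⟨i, c, hc⟩ := involution_class q hq hq1
  obtain ⟨k, hk⟩ := hfix
  have h3 : i ≠ 3 := (invRep_spec i).2.2.2.2.1 ⟨c⁻¹ k, by
    rw [← hc] at hk
    have := congrArg (⇑c⁻¹) hk
    simpa using this⟩
  have hsi : Perm.sign (invRep i) = 1 := by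
    rw [← hc, Perm.sign_mul, Perm.sign_mul, Perm.sign_inv, mul_right_comm, Int.units_mul_self, one_mul] at hs; exact hs
  rw [(invRep_spec i).2.2.2.1] at hsi
  fin_cases i
  · exact absurd hsi (by decide)
  · exact ⟨c, hc⟩
  · exact absurd hsi (by decide)
  · exact absurd rfl h3

/-- An even involution is fixed-point-free or a double transposition. -/
theorem even_involution (q : Perm (Fin 8)) (hq : q * q = 1) (hq1 : q ≠ 1) (hs : Perm.sign q = 1) :
    (∃ c : Perm (Fin 8), c * invRep 1 * c⁻¹ = q) ∨ ∃ c : Perm (Fin 8), c * invRep 3 * c⁻¹ = q := by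
  by_cases hfix : ∃ k, q k = k
  · exact Or.inl (double_transposition q hq hq1 hs hfix)
  · right
    obtain ⟨i, c, hc⟩ := involution_class q hq hq1
    refine ⟨c, ?_⟩
    by_cases h3 : i = 3
    · rwa [h3] at hc
    · obtain ⟨k, hk⟩ := (invRep_spec i).2.2.2.2.2 h3
      exact absurd ⟨c k, by rw [← hc]; simp [hk]⟩ hfix

/-- An odd involution centralises two conjugate double transpositions whose product is a third. -/
theorem odd_involution_witness (q : Perm (Fin 8)) (hq : q * q = 1) (hs : Perm.sign q = -1) :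
    ∃ x r : Perm (Fin 8), x * q = q * x ∧ r * q = q * r ∧
      (∃ c : Perm (Fin 8), c * invRep 1 * c⁻¹ = x) ∧
      x * (r * x * r⁻¹) = r * r * x * (r * r)⁻¹ := by
  have hq1 : q ≠ 1 := by rintro rfl; simp at hs
  obtain ⟨i, c, hc⟩ := involution_class q hq hq1
  have hsi : Perm.sign (invRep i) = -1 := by
    rw [← hc, Perm.sign_mul, Perm.sign_mul, Perm.sign_inv, mul_right_comm, Int.units_mul_self, one_mul] at hs; exact hs
  rw [(invRep_spec i).2.2.2.1] at hsi
  suffices h : ∃ x r d : Perm (Fin 8), x * invRep i = invRep i * x ∧ r * invRep i = invRep i * r ∧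
      d * invRep 1 * d⁻¹ = x ∧ x * (r * x * r⁻¹) = r * r * x * (r * r)⁻¹ by
    obtain ⟨x, r, d, h1, h2, h3, h4⟩ := h
    refine ⟨c * x * c⁻¹, c * r * c⁻¹, ?_, ?_, ⟨c * d, ?_⟩, ?_⟩
    · rw [← hc]
      calc c * x * c⁻¹ * (c * invRep i * c⁻¹) = c * (x * invRep i) * c⁻¹ := by group
        _ = c * invRep i * c⁻¹ * (c * x * c⁻¹) := by rw [h1]; group
    · rw [← hc]
      calc c * r * c⁻¹ * (c * invRep i * c⁻¹) = c * (r * invRep i) * c⁻¹ := by group
        _ = c * invRep i * c⁻¹ * (c * r * c⁻¹) := by rw [h2]; group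
    · rw [← h3]; group
    · calc c * x * c⁻¹ * (c * r * c⁻¹ * (c * x * c⁻¹) * (c * r * c⁻¹)⁻¹)
          = c * (x * (r * x * r⁻¹)) * c⁻¹ := by group
        _ = _ := by rw [h4]; group
  fin_cases i
  · exact ⟨c[(2 : Fin 8), 3] * c[(4 : Fin 8), 5], c[(2 : Fin 8), 4, 6] * c[(3 : Fin 8), 5, 7],
      c[(0 : Fin 8), 2, 4] * c[(1 : Fin 8), 3, 5], by decide +kernel⟩
  · exact absurd hsi (by decide)
  · exact ⟨c[(0 : Fin 8), 1] * c[(2 : Fin 8), 3], c[(0 : Fin 8), 2, 4] * c[(1 : Fin 8), 3, 5], 1,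
      by decide +kernel⟩
  · exact absurd hsi (by decide)

/-- An involution whose centraliser contains a Sylow 2-subgroup is fixed-point-free. -/
theorem central_involution (q : Perm (Fin 8)) (hq : q * q = 1) (hq1 : q ≠ 1)
    (hC : 128 ∣ Nat.card (Subgroup.centralizer ({q} : Set (Perm (Fin 8))))) :
    ∃ c : Perm (Fin 8), c * invRep 3 * c⁻¹ = q := by
  obtain ⟨n, hn, hn'⟩ := cycleType_of_prime Nat.prime_two (by rwa [pow_two] : q ^ 2 = 1) hq1
  have hle : q.support.card ≤ 8 := (Finset.card_le_univ _).trans (by simp)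
  rw [nat_card_centralizer, hn, Multiset.sum_replicate, Multiset.prod_replicate] at hC
  have hn3 : n = 3 := by
    have hn4 : n < 4 := by omega
    interval_cases n <;> first
      | rfl
      | (norm_num [Multiset.toFinset_replicate, Nat.factorial] at hC)
  obtain ⟨hi, hi1, his, -⟩ := invRep_spec 3
  exact conj_of_prime_of_support Nat.prime_two hi hi1 (by rwa [pow_two]) hq1
    (by rw [his, hn', hn3]; rfl)

end Cfsg.Lib.McLThree
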