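import Cfsg.Agent.Lib.McLThree.Product
import Cfsg.Agent.Lib.McLThree.SmallEight

/-!
The sign character of `C(t)` when `C(t)/⟨t⟩` is the symmetric group of degree eight.
-/

set_option autoImplicit false
set_option linter.style.haveILetI false
set_option linter.unusedSectionVars false

namespace Cfsg.Lib.McLThree

open Equiv Cfsg.Lib.Recog.Icosa
open Cfsg.Lib.AltEightThree (mem_cent_singleton)

universe v

theorem eight_swap : Equiv.swap (3 : Fin 8) 4 * c[(0 : Fin 8), 1, 2] =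
    c[(0 : Fin 8), 1, 2] * Equiv.swap 3 4 ∧ Perm.sign (Equiv.swap (3 : Fin 8) 4) = -1 := by
  decide +kernel

theorem g0_rel : g0⁻¹ * j0 * g0 = j0 * s0 := by decide +kernel

theorem units_mul_self' (x : ℤˣ) : x * x = 1 := Int.units_mul_self x

variable {G : Type v} [Group G] [Finite G]

namespace LocC

variable (C : LocC G) (hdec : C.toLocH.Dec) (e : C.Bar ≃* Perm (Fin 8))

/-- The sign character of `C(t)`. -/
noncomputable def sgn : C.CT →* ℤˣ :=
  Perm.sign.comp (e.toMonoidHom.comp (QuotientGroup.mk' C.Nt))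

theorem sgn_bar {x : G} (hx : x * C.t = C.t * x) :
    C.sgn e ⟨x, mem_cent_singleton.2 hx⟩ = Perm.sign (e (C.bar x hx)) := rfl

theorem sgn_t : C.sgn e ⟨C.t, mem_cent_singleton.2 rfl⟩ = 1 := by
  rw [C.sgn_bar e rfl, (C.bar_eq_one _).2 (Or.inr rfl), map_one, map_one]

theorem sgn_three (x : C.CT) (hx : (x : G) ^ 3 = 1) : C.sgn e x = 1 := by
  have h : C.sgn e x ^ 3 = 1 := by
    rw [← map_pow, show x ^ 3 = 1 from Subtype.ext (by push_cast; exact hx), map_one]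
  rwa [pow_succ, pow_two, units_mul_self', one_mul] at h

theorem sgn_pow_t (j : ℕ) : C.sgn e (⟨C.t, mem_cent_singleton.2 rfl⟩ ^ j) = 1 := by
  rw [map_pow, C.sgn_t e, one_pow]

theorem sgn_even {g : C.CZ} (hg : Perm.sign (C.ρz g) = 1) :
    C.sgn e ⟨g, g.2.2⟩ = 1 := by
  obtain ⟨χ, hχz, hχt⟩ := C.exists_chi
  -- split off the part in `⟨z⟩`
  obtain ⟨m, hm⟩ := mem_powers_iff_mem_zpowers.2 (χ g).2
  simp only at hm
  set zc : C.CZ := ⟨C.z, C.z_CZ⟩
  set g' := (zc ^ m)⁻¹ * g with hg'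
  have h1 : χ g' = 1 := by
    rw [hg', map_mul, map_inv, map_pow, inv_mul_eq_one]
    exact Subtype.ext (by push_cast; rw [hχz]; exact hm)
  have hρz : C.ρz zc = 1 :=
    (C.ρ_L (C.CZ_le C.z_CZ) (C.toLoc.Q_le_L C.z_mem)).trans (C.π_z _)
  have h2 : Perm.sign (C.ρz g') = 1 := by
    rw [hg', map_mul, map_inv, map_pow, hρz, one_pow, inv_one, one_mul, hg]
  obtain ⟨a, b, j, -, -, -, -, he⟩ := C.even_form χ hχz hχt h1 h2
  have e1 : (⟨g, g.2.2⟩ : C.CT) = (⟨C.z, C.z_CZ.2⟩ : C.CT) ^ m * (⟨a, a.2.2⟩ * ⟨a, a.2.2⟩ *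
      (⟨b, b.2.2⟩ * ⟨b, b.2.2⟩) * ⟨C.t, mem_cent_singleton.2 rfl⟩ ^ j) := by
    apply Subtype.ext
    push_cast
    rw [← he, hg']
    push_cast
    simp only [zc]
    group
  rw [e1, map_mul, map_mul, map_mul, map_mul, map_mul, map_pow, C.sgn_pow_t e, units_mul_self',
    units_mul_self', C.sgn_three e ⟨C.z, C.z_CZ.2⟩ C.z_exp, one_pow, one_mul, one_mul, mul_one]

/-- The image of `z` is a three-cycle. -/
theorem z_three_cycle : ∃ c : Perm (Fin 8), c * c[(0 : Fin 8), 1, 2] * c⁻¹ = e (C.pbar 0) := by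
  obtain ⟨d, hdL, hdz, hdt, h5, hne⟩ := C.toLocH.exists_five
  have h15 : d ^ 15 = 1 := C.toLoc.pow_three_Q hdL h5
  have hd3L : d ^ 3 ∈ C.L := pow_mem hdL 3
  have hψ3 : C.ψ ⟨d, hdL⟩ ^ 3 ≠ 1 := fun h => hne (eq_one_of_pow_coprime h5 h (by norm_num))
  have hpb : C.pbar 0 = C.bar C.z C.z_comm_t := rfl
  set q := e (C.bar (d ^ 3) (Commute.pow_left hdt 3).eq) with hq
  refine three_cycle_of_five (e (C.pbar 0)) q ?_ ?_ ?_ ?_ ?_
  · rw [← map_pow, hpb, C.bar_pow, (C.bar_eq_one _).2 (Or.inl C.z_exp), map_one]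
  · intro h
    rcases (C.bar_eq_one _).1 (e.map_eq_one_iff.1 h) with h' | h'
    · exact C.z_ne h'
    · exact C.toLocT.t_ne (eq_one_of_pow_coprime (by rw [pow_two, C.t_sq]) (by rw [← h']; exact C.z_exp)
        (by norm_num))
  · rw [hq, ← map_pow, C.bar_pow, (C.bar_eq_one _).2 (Or.inl (by rw [← pow_mul, h15])), map_one]
  · intro h
    rcases (C.bar_eq_one _).1 (e.map_eq_one_iff.1 h) with h' | h'
    · apply hψ3
      rw [← map_pow, show (⟨d, hdL⟩ : C.L) ^ 3 = 1 from Subtype.ext h', map_one]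
    · have ht5 : C.t ^ 5 = 1 := by rw [← h', ← pow_mul, h15]
      exact C.toLocT.t_ne (eq_one_of_pow_coprime (by rw [pow_two, C.t_sq]) ht5 (by norm_num))
  · rw [hq, ← map_mul, ← map_mul, hpb, C.bar_mul, C.bar_mul]
    exact congrArg e (C.bar_congr ((show Commute d C.z from hdz).pow_left 3).eq _ _)

theorem exists_odd : ∃ g : C.CZ, C.sgn e ⟨g, g.2.2⟩ = -1 := by
  obtain ⟨c, hc⟩ := C.z_three_cycle e
  obtain ⟨x, hx, hxe⟩ := C.exists_bar (e.symm (c * Equiv.swap 3 4 * c⁻¹))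
  have hpb : C.pbar 0 = C.bar C.z C.z_comm_t := rfl
  have hcomm : C.bar x hx * C.bar C.z C.z_comm_t = C.bar C.z C.z_comm_t * C.bar x hx := by
    apply e.injective
    rw [map_mul, map_mul, hxe, e.apply_symm_apply, ← hpb, ← hc, conj_mul, conj_mul,
      eight_swap.1]
  have hxz := C.comm_of_bar hx C.z_comm_t C.z_exp hcomm
  refine ⟨⟨x, C.mem_CZ hxz hx⟩, ?_⟩
  rw [C.sgn_bar e hx, hxe, e.apply_symm_apply, map_mul, map_mul, map_inv, eight_swap.2,
    mul_comm (Perm.sign c), mul_inv_cancel_right]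

theorem sgn_CZ (g : C.CZ) : C.sgn e ⟨g, g.2.2⟩ = Perm.sign (C.ρz g) := by
  rcases units_sign_cases (Perm.sign (C.ρz g)) with h | h
  · rw [h]; exact C.sgn_even e h
  · obtain ⟨x, hx⟩ := C.exists_odd e
    have hxs : Perm.sign (C.ρz x) = -1 := by
      rcases units_sign_cases (Perm.sign (C.ρz x)) with h' | h'
      · rw [C.sgn_even e h'] at hx
        exact absurd hx (by decide)
      · exact h'
    have h1 : C.sgn e ⟨_, (x⁻¹ * g).2.2⟩ = 1 := C.sgn_even e (by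
      rw [map_mul, map_inv, map_mul, map_inv, hxs, h]; decide)
    have e1 : (⟨g, g.2.2⟩ : C.CT) = ⟨x, x.2.2⟩ * ⟨_, (x⁻¹ * g).2.2⟩ :=
      Subtype.ext (by push_cast; group)
    rw [e1, map_mul, hx, h1, h, mul_one]

include hdec

theorem sgn_h : C.sgn e ⟨C.h, mem_cent_singleton.2 C.toLocH.h_t⟩ = 1 := by
  obtain ⟨k, hkN, hkL, hkt, hkk, hkzz, hkρ⟩ := C.exists_k hdec
  have hkz : k * C.z = C.z * k := C.L_cent k hkL
  have hst : C.s * C.t = C.t * C.s := C.s_t
  set kT : C.CT := ⟨k, mem_cent_singleton.2 hkt⟩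
  set sT : C.CT := ⟨C.s, mem_cent_singleton.2 hst⟩
  set hT : C.CT := ⟨C.h, mem_cent_singleton.2 C.toLocH.h_t⟩
  set u := k * C.s * k⁻¹ * C.s⁻¹ with hu
  have hkJ : k ∈ Subgroup.normalizer (C.J : Set G) :=
    C.k_norm_J hkz (by rw [hkzz]; exact inv_mem C.zz_J)
  have huM : u ∈ C.M := mul_mem (C.M_conj k hkJ C.s C.s_M) (inv_mem C.s_M)
  have hut : u * C.t = C.t * u := mem_cent_singleton.1 (kT * sT * kT⁻¹ * sT⁻¹).2
  have huz : u * C.z * u⁻¹ = C.z⁻¹ := by
    calc u * C.z * u⁻¹ = k * (C.s * (k⁻¹ * (C.s⁻¹ * C.z * C.s) * k) * C.s⁻¹) * k⁻¹ := by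
          rw [hu]; group
      _ = k * (C.s * C.zz⁻¹ * C.s⁻¹) * k⁻¹ := by
          have e1 : C.s⁻¹ * C.z * C.s = C.zz := by
            show _ = C.s * C.z * C.s⁻¹
            rw [C.toLocH.s_inv]
          rw [e1]
          have e2 : k⁻¹ * C.zz * k = C.zz⁻¹ := by
            calc k⁻¹ * C.zz * k = (k⁻¹ * (k * C.zz * k⁻¹) * k)⁻¹ := by rw [hkzz]; group
              _ = C.zz⁻¹ := by group
          rw [e2]
      _ = C.z⁻¹ := by
          rw [← conj_inv, C.toLocH.s_zz, ← conj_inv,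
            mul_inv_eq_iff_eq_mul.2 hkz]
  obtain ⟨c, hc, d, hd, hcd⟩ := C.inverting_M huM hut huz
  have h1 : C.sgn e (kT * sT * kT⁻¹ * sT⁻¹) = 1 := by
    rw [map_mul, map_mul, map_mul, map_inv, map_inv, mul_right_comm (C.sgn e kT), mul_inv_cancel,
      one_mul, mul_inv_cancel]
  have e1 : kT * sT * kT⁻¹ * sT⁻¹ = hT ^ c * ⟨d, mem_cent_singleton.2 (C.D_comm_t hd)⟩ :=
    Subtype.ext (by push_cast; exact hcd)
  rw [e1, map_mul, map_pow, C.sgn_three e ⟨d, mem_cent_singleton.2 (C.D_comm_t hd)⟩ (C.D_exp hd), mul_one] at h1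
  obtain ⟨i, rfl⟩ : ∃ i, c = 2 * i + 1 := ⟨c / 2, by omega⟩
  rwa [pow_succ, pow_mul, pow_two, units_mul_self', one_pow, one_mul] at h1

/-- The image of `h` is a double transposition. -/
theorem h_double : ∃ c : Perm (Fin 8),
    c * invRep 1 * c⁻¹ = e (C.bar C.h C.toLocH.h_t) := by
  obtain ⟨c, hc⟩ := C.z_three_cycle e
  set q := e (C.bar C.h C.toLocH.h_t) with hq
  have hqq : q * q = 1 := by
    rw [hq, ← map_mul, C.bar_mul, (C.bar_eq_one _).2 (Or.inr C.h_sq), map_one]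
  have hq1 : q ≠ 1 := by
    intro h
    rcases (C.bar_eq_one _).1 (e.map_eq_one_iff.1 h) with h' | h'
    · have := C.h_sq
      rw [h', mul_one] at this
      exact C.toLocT.t_ne this.symm
    · have := C.h_sq
      rw [h', C.t_sq] at this
      exact C.toLocT.t_ne this.symm
  have hqp : q * e (C.pbar 0) * q⁻¹ = (e (C.pbar 0))⁻¹ := by
    rw [hq, ← map_inv, ← map_mul, ← map_mul, ← map_inv]
    congr 1
    rw [show C.pbar 0 = C.bar C.z C.z_comm_t from rfl, C.bar_conj, C.bar_inv]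
    exact C.bar_congr C.h_z _ _
  exact double_transposition q hqq hq1 (C.sgn_h hdec e) (fixed_point_of_inverting _ q c hc hqp hqq)

/-- Lifts of double transpositions square to `t`. -/
theorem sq_t_of_double {x : G} (hx : x * C.t = C.t * x) {c : Perm (Fin 8)}
    (hc : c * invRep 1 * c⁻¹ = e (C.bar x hx)) : x * x = C.t := by
  obtain ⟨c', hc'⟩ := C.h_double hdec e
  obtain ⟨g, hg, hge⟩ := C.exists_bar (e.symm (c * c'⁻¹))
  have hbar : C.bar g hg * C.bar C.h C.toLocH.h_t * (C.bar g hg)⁻¹ = C.bar x hx := by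
    apply e.injective
    rw [map_mul, map_mul, map_inv, hge, e.apply_symm_apply, ← hc', ← hc]
    group
  rw [C.bar_conj] at hbar
  have hsq : g * C.h * g⁻¹ * (g * C.h * g⁻¹) = C.t := by
    rw [conj_mul, C.h_sq, show g * C.t = C.t * g from hg, mul_inv_cancel_right]
  have hgh : g * C.h * g⁻¹ * C.t = C.t * (g * C.h * g⁻¹) :=
    mem_cent_singleton.1 ((⟨g, mem_cent_singleton.2 hg⟩ : C.CT) *
      ⟨C.h, mem_cent_singleton.2 C.toLocH.h_t⟩ * (⟨g, mem_cent_singleton.2 hg⟩ : C.CT)⁻¹).2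
  rcases C.bar_eq _ _ hbar with h | h
  · rw [h]; exact hsq
  · rw [h, (show Commute (g * C.h * g⁻¹) C.t from hgh).symm.mul_mul_mul_comm, hsq, C.t_sq, mul_one]

omit hdec in
/-- An element of `M` carrying `t` to `s` and back to `t s`. -/
theorem exists_swap : ∃ m ∈ C.M, m * C.t * m⁻¹ = C.s ∧ m⁻¹ * C.t * m = C.t * C.s := by
  obtain ⟨m1, hm1⟩ := C.θ_surj g0
  set tM : C.M := ⟨C.t, C.t_M⟩
  set sM : C.M := ⟨C.s, C.s_M⟩
  have hJ : ((sM⁻¹ * (m1 * tM * m1⁻¹) : C.M) : G) ∈ C.J :=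
    C.toLocJ.θ_eq (m := sM) (m' := m1 * tM * m1⁻¹) (by
      rw [map_mul, map_mul, map_inv, hm1, C.θ_t, g0_spec.2.1, C.θ_s])
  set x := ((sM⁻¹ * (m1 * tM * m1⁻¹) : C.M) : G) with hx
  have hsx : C.s * x = (m1 : G) * C.t * (m1 : G)⁻¹ := by
    rw [hx]; push_cast; show C.s * (C.s⁻¹ * ((m1 : G) * C.t * (m1 : G)⁻¹)) = _
    rw [mul_inv_cancel_left]
  have hsq : (C.s * x) * (C.s * x) = 1 := by
    rw [hsx, conj_mul, C.t_sq]; group
  have hc := conj_involution_coset C.s_sq (C.J_exp x hJ) hsq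
  set m2 := x⁻¹ * (m1 : G) with hm2
  have h2 : m2 * C.t * m2⁻¹ = C.s := by
    calc m2 * C.t * m2⁻¹ = x⁻¹ * ((m1 : G) * C.t * (m1 : G)⁻¹) * x := by rw [hm2]; group
      _ = x⁻¹ * (x * C.s * x⁻¹) * x := by rw [← hsx, hc]
      _ = C.s := by group
  have hm2M : m2 ∈ C.M := mul_mem (inv_mem (C.toLoc.J_le_M hJ)) m1.2
  set M2 : C.M := ⟨m2, hm2M⟩ with hM2
  have hθ2 : C.θ M2 = g0 := by
    rw [show M2 = (⟨x, C.toLoc.J_le_M hJ⟩ : C.M)⁻¹ * m1 from Subtype.ext rfl, map_mul, map_inv,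
      (C.θ_ker _).2 hJ, inv_one, one_mul, hm1]
  -- the coset of `t s`
  have hrel : g0⁻¹ * j0 * g0 = j0 * s0 := g0_rel
  have hJ2 : (((tM * sM)⁻¹ * (M2⁻¹ * tM * M2) : C.M) : G) ∈ C.J :=
    C.toLocJ.θ_eq (m := tM * sM) (m' := M2⁻¹ * tM * M2) (by
      rw [map_mul, map_mul, map_mul, map_inv, hθ2, C.θ_t, C.θ_s, hrel])
  set a := (((tM * sM)⁻¹ * (M2⁻¹ * tM * M2) : C.M) : G) with ha
  have hta : C.t * C.s * a = m2⁻¹ * C.t * m2 := by
    rw [ha]; push_cast
    show C.t * C.s * ((C.t * C.s)⁻¹ * (m2⁻¹ * C.t * m2)) = _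
    rw [mul_inv_cancel_left]
  have hvt : C.t * (m2⁻¹ * C.t * m2) = m2⁻¹ * C.t * m2 * C.t := by
    have e1 : m2⁻¹ * C.s * m2 = C.t := by rw [← h2]; group
    have hst : Commute C.s C.t := C.s_t
    calc C.t * (m2⁻¹ * C.t * m2) = m2⁻¹ * C.s * m2 * (m2⁻¹ * C.t * m2) := by rw [e1]
      _ = m2⁻¹ * (C.s * C.t) * m2 := by group
      _ = m2⁻¹ * (C.t * C.s) * m2 := by rw [hst.eq]
      _ = m2⁻¹ * C.t * m2 * (m2⁻¹ * C.s * m2) := by group
      _ = _ := by rw [e1]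
  have hat : a * C.t = C.t * a := by
    have c1 : Commute C.t (C.t * C.s) := (Commute.refl C.t).mul_right (show Commute C.s C.t from C.s_t).symm
    have e1 : a = (C.t * C.s)⁻¹ * (m2⁻¹ * C.t * m2) := by rw [← hta, inv_mul_cancel_left]
    rw [e1]
    exact (c1.inv_right.mul_right hvt).eq.symm
  have hts : (C.t * C.s) * (C.t * C.s) = 1 := by
    rw [(show Commute C.s C.t from C.s_t).mul_mul_mul_comm, C.t_sq, C.s_sq, mul_one]
  have hc2 := conj_involution_coset hts (C.J_exp a hJ2) (by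
    rw [hta]
    calc m2⁻¹ * C.t * m2 * (m2⁻¹ * C.t * m2) = m2⁻¹ * (C.t * C.t) * m2 := by group
      _ = 1 := by rw [C.t_sq]; group)
  refine ⟨m2 * a, mul_mem hm2M (C.toLoc.J_le_M hJ2), ?_, ?_⟩
  · calc m2 * a * C.t * (m2 * a)⁻¹ = m2 * (a * C.t * a⁻¹) * m2⁻¹ := by group
      _ = C.s := by rw [hat, mul_inv_cancel_right, h2]
  · calc (m2 * a)⁻¹ * C.t * (m2 * a) = a⁻¹ * (m2⁻¹ * C.t * m2) * a := by group
      _ = a⁻¹ * (a * (C.t * C.s) * a⁻¹) * a := by rw [← hta, hc2]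
      _ = C.t * C.s := by group

/-- `x` commutes with `s` up to `v`. -/
def Tw (x v : G) : Prop := x * C.s * x⁻¹ = C.s * v

omit hdec in
theorem tw_mul {x y v w : G} (hx : C.Tw x v) (hy : C.Tw y w) (hw : x * w = w * x) :
    C.Tw (x * y) (v * w) := by
  show x * y * C.s * (x * y)⁻¹ = _
  calc x * y * C.s * (x * y)⁻¹ = x * (y * C.s * y⁻¹) * x⁻¹ := by group
    _ = (x * C.s * x⁻¹) * (x * w * x⁻¹) := by rw [hy]; group
    _ = C.s * (v * w) := by rw [hx, hw, mul_inv_cancel_right, mul_assoc]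

theorem sgn_s : C.sgn e ⟨C.s, mem_cent_singleton.2 C.s_t⟩ = 1 := by
  rcases units_sign_cases (C.sgn e ⟨C.s, mem_cent_singleton.2 C.s_t⟩) with h | h
  · exact h
  exfalso
  have hst : C.s * C.t = C.t * C.s := C.s_t
  set q := e (C.bar C.s hst) with hq
  have hqq : q * q = 1 := by
    rw [hq, ← map_mul, C.bar_mul, (C.bar_eq_one _).2 (Or.inl C.s_sq), map_one]
  obtain ⟨x0, r0, hx0, hr0, ⟨c, hc⟩, hid⟩ := odd_involution_witness q hqq h
  obtain ⟨x, hx, hxe⟩ := C.exists_bar (e.symm x0)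
  obtain ⟨r, hr, hre⟩ := C.exists_bar (e.symm r0)
  have hxe' : e (C.bar x hx) = x0 := by rw [hxe, e.apply_symm_apply]
  have hre' : e (C.bar r hr) = r0 := by rw [hre, e.apply_symm_apply]
  have htw : ∀ (g : G) (hg : g * C.t = C.t * g), e (C.bar g hg) * q = q * e (C.bar g hg) →
      ∃ j, C.Tw g (C.t ^ j) := by
    intro g hg hgq
    rw [hq, ← map_mul, ← map_mul] at hgq
    have h1 : C.bar g hg * C.bar C.s hst * (C.bar g hg)⁻¹ = C.bar C.s hst := by
      rw [e.injective hgq, mul_inv_cancel_right]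
    rw [C.bar_conj] at h1
    rcases C.bar_eq _ _ h1.symm with h2 | h2
    · exact ⟨0, by show _ = _; rw [h2, pow_zero, mul_one]⟩
    · exact ⟨1, by show _ = _; rw [h2, pow_one]⟩
  obtain ⟨α, hα⟩ := htw x hx (by rw [hxe']; exact hx0)
  obtain ⟨β, hβ⟩ := htw r hr (by rw [hre']; exact hr0)
  have hcom : ∀ (g : G) (j : ℕ), g * C.t = C.t * g → g * C.t ^ j = C.t ^ j * g :=
    fun g j hg => ((show Commute g C.t from hg).pow_right j).eq
  -- conjugates of `x` by elements of the centraliser have the same twist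
  have hconj : ∀ (g : G) (j : ℕ), g * C.t = C.t * g → C.Tw g (C.t ^ j) →
      C.Tw (g * x * g⁻¹) (C.t ^ α) := by
    intro g j hg hgj
    have hgi : C.Tw g⁻¹ (C.t ^ j)⁻¹ := by
      show g⁻¹ * C.s * g⁻¹⁻¹ = _
      have e1 : C.s = g * C.s * g⁻¹ * (C.t ^ j)⁻¹ := by rw [hgj, mul_inv_cancel_right]
      conv_lhs => rw [e1]
      calc g⁻¹ * (g * C.s * g⁻¹ * (C.t ^ j)⁻¹) * g⁻¹⁻¹
          = C.s * (g⁻¹ * (C.t ^ j)⁻¹ * g) := by group
        _ = C.s * (C.t ^ j)⁻¹ := by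
          rw [(show Commute g (C.t ^ j) from hcom g j hg).inv_left.inv_right.eq, inv_mul_cancel_right]
    have hgx : g * x * C.t = C.t * (g * x) :=
      ((show Commute g C.t from hg).mul_left hx).eq
    have h1 := C.tw_mul (C.tw_mul hgj hα (hcom g α hg)) hgi
      (show Commute (g * x) (C.t ^ j) from hcom _ j hgx).inv_right.eq
    rwa [← pow_add, add_comm, pow_add, mul_inv_cancel_right] at h1
  have hr2 : C.Tw (r * r) (C.t ^ (β + β)) := by
    rw [pow_add]; exact C.tw_mul hβ hβ (hcom r β hr)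
  have h2 := hconj r β hr hβ
  have h3 := hconj (r * r) (β + β) (((show Commute r C.t from hr).mul_left hr).eq) hr2
  have hX2 : r * x * r⁻¹ * C.t = C.t * (r * x * r⁻¹) :=
    (((show Commute r C.t from hr).mul_left hx).mul_left (show Commute r C.t from hr).inv_left).eq
  have hX3 : r * r * x * (r * r)⁻¹ * C.t = C.t * (r * r * x * (r * r)⁻¹) :=
    ((((show Commute r C.t from hr).mul_left hr).mul_left hx).mul_left
      ((show Commute r C.t from hr).mul_left hr).inv_left).eq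
  have hbar : C.bar x hx * C.bar _ hX2 = C.bar _ hX3 := by
    apply e.injective
    rw [← C.bar_conj hr hx, map_mul, map_mul, map_mul, map_inv, hxe', hre']
    rw [show C.bar (r * r * x * (r * r)⁻¹) hX3 =
      C.bar r hr * C.bar r hr * C.bar x hx * (C.bar r hr * C.bar r hr)⁻¹ by
        rw [C.bar_mul, C.bar_conj], map_mul, map_mul, map_inv, map_mul, hxe', hre']
    exact hid
  rw [C.bar_mul] at hbar
  have h4 := C.tw_mul hα h2 (hcom x α hx)
  have hα0 : C.t ^ α = 1 := by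
    rcases C.bar_eq _ _ hbar.symm with h5 | h5
    · rw [← h5] at h3
      have := h4.symm.trans h3
      rw [mul_right_inj, mul_eq_left] at this
      exact this
    · have h6 : C.Tw C.t 1 := by
        show C.t * C.s * C.t⁻¹ = _
        rw [← hst, mul_inv_cancel_right, mul_one]
      have h7 := C.tw_mul h3 h6 (by rw [mul_one, one_mul])
      rw [mul_one, ← h5] at h7
      have := h4.symm.trans h7
      rw [mul_right_inj, mul_eq_left] at this
      exact this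
  have hxs : x * C.s = C.s * x := by
    have := hα
    rw [Tw, hα0, mul_one] at this
    exact mul_inv_eq_iff_eq_mul.1 this
  have hxx : x * x = C.t := C.sq_t_of_double hdec e hx (c := c) (hc.trans hxe'.symm)
  obtain ⟨m, -, hm1, hm2⟩ := C.exists_swap
  set y := m * x * m⁻¹ with hy
  have hyt : y * C.t = C.t * y := by
    have c1 : Commute x (m⁻¹ * C.t * m) := by
      rw [hm2]; exact (show Commute x C.t from hx).mul_right hxs
    calc y * C.t = m * (x * (m⁻¹ * C.t * m)) * m⁻¹ := by rw [hy]; group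
      _ = m * ((m⁻¹ * C.t * m) * x) * m⁻¹ := by rw [c1.eq]
      _ = C.t * y := by rw [hy]; group
  have hyy : y * y = C.s := by rw [hy, conj_mul, hxx, hm1]
  rw [show (⟨C.s, mem_cent_singleton.2 C.s_t⟩ : C.CT) =
    ⟨y, mem_cent_singleton.2 hyt⟩ * ⟨y, mem_cent_singleton.2 hyt⟩ from Subtype.ext hyy.symm,
    map_mul, units_mul_self'] at h
  exact absurd h (by decide)

/-- Involutions of the kernel other than `t` are conjugate to `t`. -/
theorem inner_conj_t {u : G} (hu : u * C.t = C.t * u) (huu : u * u = 1) (hu1 : u ≠ 1)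
    (hs : C.sgn e ⟨u, mem_cent_singleton.2 hu⟩ = 1) : ∃ g : G, g * C.t * g⁻¹ = u := by
  by_cases hut : u = C.t
  · exact ⟨1, by rw [hut]; group⟩
  have hclass : ∀ (x : G) (hx : x * C.t = C.t * x), x * x = 1 → x ≠ 1 → x ≠ C.t →
      C.sgn e ⟨x, mem_cent_singleton.2 hx⟩ = 1 →
      ∃ c : Perm (Fin 8), c * invRep 3 * c⁻¹ = e (C.bar x hx) := by
    intro x hx hxx hx1 hxt hxs
    rcases even_involution (e (C.bar x hx)) (by
        rw [← map_mul, C.bar_mul, (C.bar_eq_one _).2 (Or.inl hxx), map_one])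
      (fun h => by
        rcases (C.bar_eq_one _).1 (e.map_eq_one_iff.1 h) with h' | h'
        · exact hx1 h'
        · exact hxt h') hxs with ⟨c, hc⟩ | h
    · exfalso
      have := C.sq_t_of_double hdec e hx hc
      rw [hxx] at this
      exact C.toLocT.t_ne this.symm
    · exact h
  have hst : C.s * C.t = C.t * C.s := C.s_t
  have hs1 : C.s ≠ 1 := fun h => by
    have := C.toLocH.s_h
    rw [h, one_mul, inv_one, mul_one, eq_inv_iff_mul_eq_one, C.h_sq] at this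
    exact C.toLocT.t_ne this
  have hs2 : C.s ≠ C.t := fun h => by
    have := C.toLocH.s_h
    rw [h, ← C.toLocH.h_t, mul_inv_cancel_right, eq_inv_iff_mul_eq_one, C.h_sq] at this
    exact C.toLocT.t_ne this
  obtain ⟨c, hc⟩ := hclass u hu huu hu1 hut hs
  obtain ⟨c', hc'⟩ := hclass C.s hst C.s_sq hs1 hs2 (C.sgn_s hdec e)
  obtain ⟨g, hg, hge⟩ := C.exists_bar (e.symm (c * c'⁻¹))
  have hbar : C.bar g hg * C.bar C.s hst * (C.bar g hg)⁻¹ = C.bar u hu := by
    apply e.injective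
    rw [map_mul, map_mul, map_inv, hge, e.apply_symm_apply, ← hc', ← hc]
    group
  rw [C.bar_conj] at hbar
  obtain ⟨m, -, hm1, hm2⟩ := C.exists_swap
  rcases C.bar_eq _ _ hbar with h | h
  · exact ⟨g * m, by rw [h, ← hm1]; group⟩
  · refine ⟨g * m⁻¹, ?_⟩
    rw [h]
    calc g * m⁻¹ * C.t * (g * m⁻¹)⁻¹ = g * (m⁻¹ * C.t * m) * g⁻¹ := by group
      _ = g * (C.t * C.s) * g⁻¹ := by rw [hm2]
      _ = g * C.s * g⁻¹ * C.t := by
        rw [← hst]
        calc g * (C.s * C.t) * g⁻¹ = g * C.s * g⁻¹ * (g * C.t * g⁻¹) := by group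
          _ = g * C.s * g⁻¹ * C.t := by rw [hg, mul_inv_cancel_right]

end LocC

end Cfsg.Lib.McLThree
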