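import Mathlib

/-!
Elementary facts about elements of order three of the symmetric group of degree nine.
-/

set_option autoImplicit false
set_option linter.style.haveILetI false
set_option linter.unusedSectionVars false

namespace Cfsg.Lib.McLThree

open Equiv Equiv.Perm

theorem three_orbit_card {α : Type*} [DecidableEq α] {p : Perm α} (hp : p ^ 3 = 1) {x : α}
    (hx : p x ≠ x) : ({x, p x, p (p x)} : Finset α).card = 3 := by
  refine Finset.card_eq_three.2 ⟨x, p x, p (p x), hx.symm, ?_, ?_, rfl⟩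
  · intro h
    apply hx
    have h2 : p (p (p x)) = x := by
      have := congrArg (fun q : Perm α => q x) hp
      simpa [pow_succ, Perm.mul_apply] using this
    rw [← h] at h2
    exact h2
  · exact fun h => hx (p.injective h).symm

theorem nine_exists_three_cycle (J : Subgroup (Perm (Fin 9)))
    (hc : ∀ a ∈ J, ∀ b ∈ J, a * b = b * a) (he : ∀ a ∈ J, a ^ 3 = 1) (hcard : Nat.card J = 27) :
    ∃ p ∈ J, p.IsThreeCycle := by
  classical
  have hstab : ∀ x : Fin 9, (MulAction.stabilizer J x).index ≤ 3 := by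
    intro x
    set K := MulAction.stabilizer J x with hK
    have hmul := K.card_mul_index
    rw [hcard] at hmul
    have horb : K.index = (MulAction.orbit J x).ncard := MulAction.index_stabilizer J x
    have hle : K.index ≤ 9 := by
      rw [horb]
      exact (Set.ncard_le_card _).trans_eq (by simp)
    obtain ⟨k, hk, hKi⟩ := (Nat.dvd_prime_pow Nat.prime_three (m := 3)).1
      (show K.index ∣ 3 ^ 3 from ⟨Nat.card K, by rw [mul_comm, hmul]; norm_num⟩)
    by_contra hlt
    have h9 : K.index = 9 := by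
      rw [hKi] at hle hlt ⊢
      interval_cases k <;> simp_all
    have huniv : MulAction.orbit J x = Set.univ := by
      refine Set.eq_univ_of_univ_subset (Set.eq_of_subset_of_ncard_le (Set.subset_univ _) ?_).ge
      rw [← horb, h9, Set.ncard_univ, Nat.card_fin]
    have hbot : K = ⊥ := by
      rw [eq_bot_iff]
      intro q hq
      rw [Subgroup.mem_bot]
      apply Subtype.ext
      refine Equiv.ext (fun y => ?_)
      obtain ⟨g, hg⟩ := (huniv ▸ Set.mem_univ y : y ∈ MulAction.orbit J x)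
      have hqx : (q : Perm (Fin 9)) x = x := hq
      have hgy : (g : Perm (Fin 9)) x = y := hg
      show (q : Perm (Fin 9)) y = y
      rw [← hgy, ← Perm.mul_apply, hc _ q.2 _ g.2, Perm.mul_apply, hqx]
    rw [h9, hbot, Subgroup.card_bot] at hmul
    omega
  obtain ⟨p, hp, hp1⟩ := J.bot_or_exists_ne_one.resolve_left (by
    rintro rfl; rw [Subgroup.card_bot] at hcard; omega)
  obtain ⟨x, hx⟩ : ∃ x, p x ≠ x := by
    by_contra h
    push Not at h
    exact hp1 (Equiv.ext h)
  set K := MulAction.stabilizer J x with hK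
  have hK1 : K ≠ ⊥ := by
    intro h
    have hmul := K.card_mul_index
    rw [h, Subgroup.card_bot, one_mul, hcard] at hmul
    have := hstab x
    rw [← hK, h] at this
    omega
  obtain ⟨⟨r, hr⟩, hrK, hr1⟩ := K.bot_or_exists_ne_one.resolve_left hK1
  obtain ⟨y, hy⟩ : ∃ y, r y ≠ y := by
    by_contra h
    push Not at h
    exact hr1 (Subtype.ext (Equiv.ext h))
  set L := K ⊓ MulAction.stabilizer J y with hL
  have hLi : L.index ≤ 9 :=
    (Subgroup.index_inf_le).trans (Nat.mul_le_mul (hstab x) (hstab y))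
  have hL1 : L ≠ ⊥ := by
    intro h
    have hmul := L.card_mul_index
    rw [h, Subgroup.card_bot, one_mul, hcard] at hmul
    rw [h] at hLi
    omega
  obtain ⟨⟨q, hq⟩, ⟨hqx, hqy⟩, hq1⟩ := L.bot_or_exists_ne_one.resolve_left hL1
  have hqx' : q x = x := hqx
  have hqy' : q y = y := hqy
  have hrx : r x = x := hrK
  have hfix : ∀ s ∈ J, ∀ g ∈ J, ∀ w, s w = w → s (g w) = g w := fun s hs g hg w hw => by
    rw [← Perm.mul_apply, hc s hs g hg, Perm.mul_apply, hw]
  set A : Finset (Fin 9) := {x, p x, p (p x)} with hA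
  set B : Finset (Fin 9) := {y, r y, r (r y)} with hB
  have hAB : Disjoint A B := by
    rw [Finset.disjoint_left]
    intro w hwA hwB
    have h1 : r w = w := by
      simp only [hA, Finset.mem_insert, Finset.mem_singleton] at hwA
      rcases hwA with rfl | rfl | rfl
      · exact hrx
      · exact hfix r hr p hp _ hrx
      · exact hfix r hr p hp _ (hfix r hr p hp _ hrx)
    simp only [hB, Finset.mem_insert, Finset.mem_singleton] at hwB
    rcases hwB with rfl | rfl | rfl
    · exact hy h1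
    · exact hy (r.injective h1)
    · exact hy (r.injective (r.injective h1))
  have hsub : A ∪ B ⊆ q.supportᶜ := by
    intro w hw
    rw [Finset.mem_compl, Perm.mem_support, not_not]
    simp only [hA, hB, Finset.mem_union, Finset.mem_insert, Finset.mem_singleton] at hw
    rcases hw with (rfl | rfl | rfl) | (rfl | rfl | rfl)
    · exact hqx'
    · exact hfix q hq p hp _ hqx'
    · exact hfix q hq p hp _ (hfix q hq p hp _ hqx')
    · exact hqy'
    · exact hfix q hq r hr _ hqy'
    · exact hfix q hq r hr _ (hfix q hq r hr _ hqy')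
  have hle := Finset.card_le_card hsub
  rw [Finset.card_union_of_disjoint hAB, three_orbit_card (he p hp) hx,
    three_orbit_card (he r hr) hy, Finset.card_compl, Fintype.card_fin] at hle
  refine ⟨q, hq, card_support_eq_three_iff.1 ?_⟩
  haveI : Fact (Nat.Prime 3) := ⟨Nat.prime_three⟩
  have hord : orderOf q = 3 := orderOf_eq_prime (he q hq) (fun h => hq1 (Subtype.ext h))
  obtain ⟨n, hn⟩ := cycleType_prime_order (σ := q) (by rw [hord]; exact Nat.prime_three)
  have hsum := sum_cycleType q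
  rw [hn, hord, Multiset.sum_replicate, smul_eq_mul] at hsum
  omega

theorem nine_five_base : ∃ d : Perm (Fin 9), d ^ 5 = 1 ∧ d ≠ 1 ∧
    d * c[(0 : Fin 9), 1, 2] = c[(0 : Fin 9), 1, 2] * d :=
  ⟨c[(3 : Fin 9), 4, 5, 6, 7], by decide +kernel⟩

theorem nine_five_cent {p : Perm (Fin 9)} (hp : p.IsThreeCycle) :
    ∃ d : Perm (Fin 9), d ^ 5 = 1 ∧ d ≠ 1 ∧ d * p = p * d := by
  obtain ⟨d, h5, h1, hd⟩ := nine_five_base
  have h0 : (c[(0 : Fin 9), 1, 2] : Perm (Fin 9)).IsThreeCycle :=
    card_support_eq_three_iff.1 (by decide +kernel)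
  obtain ⟨g, hg⟩ := isConj_iff.1 (isConj_iff_cycleType_eq.2
    ((h0 : (c[(0 : Fin 9), 1, 2] : Perm (Fin 9)).cycleType = {3}).trans (hp : p.cycleType = {3}).symm))
  refine ⟨g * d * g⁻¹, by rw [conj_pow, h5, mul_one, mul_inv_cancel],
    fun h => h1 (conj_eq_one_iff.1 h), ?_⟩
  rw [← hg, conj_mul, conj_mul, hd]

theorem three_cycle_disjoint {α : Type*} [Fintype α] [DecidableEq α] {f g : Perm α}
    (hf : f.IsThreeCycle) (hg : g.IsThreeCycle) (hcomm : f * g = g * f) (h1 : g ≠ f)
    (h2 : g ≠ f⁻¹) : _root_.Disjoint f.support g.support := by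
  rw [Finset.disjoint_left]
  intro x hxf hxg
  have key : ∀ f' : Perm α, f'.IsThreeCycle → f' * g = g * f' → x ∈ f'.support → g x = f' x →
      g = f' := by
    intro f' hf' hcomm' hxf' hgx
    have hag : ∀ y ∈ f'.support, g y = f' y := by
      intro y hy
      obtain ⟨n, rfl⟩ := hf'.isCycle.exists_zpow_eq (Perm.mem_support.1 hxf') (Perm.mem_support.1 hy)
      rw [← Perm.mul_apply, ((show Commute f' g from hcomm').zpow_left n).eq.symm, Perm.mul_apply, hgx,
        ← Perm.mul_apply, ((Commute.refl f').zpow_left n).eq, Perm.mul_apply]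
    have hsub : f'.support ⊆ g.support := fun y hy => by
      rw [Perm.mem_support, hag y hy]; exact Perm.mem_support.1 hy
    have heq := Finset.eq_of_subset_of_card_le hsub (by rw [hf'.card_support, hg.card_support])
    ext y
    by_cases hy : y ∈ f'.support
    · exact hag y hy
    · rw [Perm.notMem_support.1 hy, Perm.notMem_support.1 (heq ▸ hy)]
  have hgxmem : g x ∈ f.support := by
    rw [Perm.mem_support, ← Perm.mul_apply, hcomm, Perm.mul_apply]
    exact fun h => Perm.mem_support.1 hxf (g.injective h)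
  have horb : ({x, f x, f (f x)} : Finset α) = f.support := by
    refine Finset.eq_of_subset_of_card_le ?_ ?_
    · intro y hy
      simp only [Finset.mem_insert, Finset.mem_singleton] at hy
      rcases hy with rfl | rfl | rfl
      · exact hxf
      · exact Perm.apply_mem_support.2 hxf
      · exact Perm.apply_mem_support.2 (Perm.apply_mem_support.2 hxf)
    · rw [hf.card_support, three_orbit_card (by rw [← hf.orderOf]; exact pow_orderOf_eq_one f)
        (Perm.mem_support.1 hxf)]
  rw [← horb] at hgxmem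
  simp only [Finset.mem_insert, Finset.mem_singleton] at hgxmem
  rcases hgxmem with h | h | h
  · exact Perm.mem_support.1 hxg h
  · exact h1 (key f hf hcomm hxf h)
  · refine h2 (key f⁻¹ hf.inv ((show Commute f g from hcomm).inv_left).eq
      (by rwa [Perm.support_inv]) ?_)
    rw [h]
    have h3 : f ^ 3 = 1 := by rw [← hf.orderOf]; exact pow_orderOf_eq_one f
    have h4 : f (f (f x)) = x := by
      have := congrArg (fun q : Perm α => q x) h3
      simpa [pow_succ, Perm.mul_apply] using this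
    conv_rhs => rw [← h4]
    simp

/-- Four pairwise commuting and essentially different three-cycles need twelve points. -/
theorem nine_four_cycles {f₁ f₂ f₃ f₄ : Perm (Fin 9)}
    (h₁ : f₁.IsThreeCycle) (h₂ : f₂.IsThreeCycle) (h₃ : f₃.IsThreeCycle) (h₄ : f₄.IsThreeCycle)
    (c₁₂ : f₁ * f₂ = f₂ * f₁) (c₁₃ : f₁ * f₃ = f₃ * f₁) (c₁₄ : f₁ * f₄ = f₄ * f₁)
    (c₂₃ : f₂ * f₃ = f₃ * f₂) (c₂₄ : f₂ * f₄ = f₄ * f₂) (c₃₄ : f₃ * f₄ = f₄ * f₃)
    (n₁₂ : f₂ ≠ f₁ ∧ f₂ ≠ f₁⁻¹) (n₁₃ : f₃ ≠ f₁ ∧ f₃ ≠ f₁⁻¹) (n₁₄ : f₄ ≠ f₁ ∧ f₄ ≠ f₁⁻¹)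
    (n₂₃ : f₃ ≠ f₂ ∧ f₃ ≠ f₂⁻¹) (n₂₄ : f₄ ≠ f₂ ∧ f₄ ≠ f₂⁻¹) (n₃₄ : f₄ ≠ f₃ ∧ f₄ ≠ f₃⁻¹) :
    False := by
  have d12 := three_cycle_disjoint h₁ h₂ c₁₂ n₁₂.1 n₁₂.2
  have d13 := three_cycle_disjoint h₁ h₃ c₁₃ n₁₃.1 n₁₃.2
  have d14 := three_cycle_disjoint h₁ h₄ c₁₄ n₁₄.1 n₁₄.2
  have d23 := three_cycle_disjoint h₂ h₃ c₂₃ n₂₃.1 n₂₃.2
  have d24 := three_cycle_disjoint h₂ h₄ c₂₄ n₂₄.1 n₂₄.2
  have d34 := three_cycle_disjoint h₃ h₄ c₃₄ n₃₄.1 n₃₄.2
  have hle := Finset.card_le_univ (((f₁.support ∪ f₂.support) ∪ f₃.support) ∪ f₄.support)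
  rw [Finset.card_union_of_disjoint (by simp [Finset.disjoint_union_left, d14, d24, d34]),
    Finset.card_union_of_disjoint (by simp [Finset.disjoint_union_left, d13, d23]),
    Finset.card_union_of_disjoint d12, h₁.card_support, h₂.card_support, h₃.card_support,
    h₄.card_support, Fintype.card_fin] at hle
  omega

end Cfsg.Lib.McLThree
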