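import Mathlib
import Cfsg.Agent.Lib.AltEightThree.Setup

/-!
General lemmas for the 3-local recognition of the McLaughlin group.
-/

set_option autoImplicit false
set_option linter.style.haveILetI false

namespace Cfsg.Lib.McLThree

open Cfsg.Lib.AltEightThree (mem_cent_singleton conj_mem_normalizer mem_normalizer_of_forall)

variable {G : Type*} [Group G]

theorem card_mul_relIndex {H K : Subgroup G} (h : H ≤ K) :
    Nat.card H * H.relIndex K = Nat.card K := by
  rw [← Nat.card_congr (Subgroup.subgroupOfEquivOfLe h).toEquiv]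
  exact Subgroup.card_mul_index _

theorem pow_eq_one_of_map_ker {H : Type*} [Group H] (f : G →* H) (K : Subgroup G) {n m : ℕ}
    (hK : ∀ g, f g = 1 → g ∈ K) (hKn : ∀ k ∈ K, k ^ n = 1) {g : G} (hg : f g ^ m = 1) :
    g ^ (m * n) = 1 := by
  rw [pow_mul]
  exact hKn _ (hK _ (by rw [map_pow, hg]))

theorem zpow_mem_of_three {z : G} (hz : z ^ 3 = 1) {x : G} (hx : x ∈ Subgroup.zpowers z) :
    x = 1 ∨ x = z ∨ x = z ^ 2 :=
  Cfsg.Lib.AltEightThree.zpowers_three hz hx

/-- Powers of a coprime exponent are harmless. -/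
theorem eq_one_of_pow_coprime {x : G} {m n : ℕ} (hm : x ^ m = 1) (hn : x ^ n = 1)
    (h : Nat.Coprime m n) : x = 1 := by
  have := Nat.eq_one_of_dvd_coprimes h (orderOf_dvd_of_pow_eq_one hm) (orderOf_dvd_of_pow_eq_one hn)
  exact orderOf_eq_one_iff.1 this

/-- Splitting off the `p`-part: `g ^ (p ^ k)` has order prime to `p` for a suitable `k`. -/
theorem exists_pow_prime_to [Finite G] (p : ℕ) (hp : p.Prime) (g : G) :
    ∃ k n : ℕ, Nat.Coprime n p ∧ (g ^ p ^ k) ^ n = 1 := by
  obtain ⟨k, n, hn, he⟩ := Nat.exists_eq_pow_mul_and_not_dvd (orderOf_pos g).ne' p hp.ne_one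
  refine ⟨k, n, (Nat.Coprime.symm ((hp.coprime_iff_not_dvd).2 hn)), ?_⟩
  rw [← pow_mul, ← he, pow_orderOf_eq_one]

theorem isPGroup_of_forall_pow {p k : ℕ} {H : Subgroup G} (h : ∀ x ∈ H, x ^ p ^ k = 1) :
    IsPGroup p H :=
  fun x => ⟨k, Subtype.ext (by simpa using h x x.2)⟩

/-- An element of order five in a finite group fixing exactly `N` points of a subgroup it
normalises. -/
theorem card_cent_modEq [Finite G] (H : Subgroup G) (d : G) (hd : d ^ 5 = 1)
    (hn : d ∈ Subgroup.normalizer (H : Set G)) :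
    Nat.card H ≡ Nat.card ↥(H ⊓ Subgroup.centralizer ({d} : Set G)) [MOD 5] := by
  haveI : Fact (Nat.Prime 5) := ⟨by norm_num⟩
  let act : MulAction ↥(Subgroup.zpowers d) H :=
    { smul := fun k x => ⟨(k : G) * x * (k : G)⁻¹,
        conj_mem_normalizer ((Subgroup.zpowers_le.2 hn) k.2) x.2⟩
      one_smul := fun x => Subtype.ext (by show (1 : G) * x * (1 : G)⁻¹ = x; group)
      mul_smul := fun a b x => Subtype.ext (by
        show ((a * b : ↥(Subgroup.zpowers d)) : G) * x * ((a * b : ↥(Subgroup.zpowers d)) : G)⁻¹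
          = a * (b * x * (b : G)⁻¹) * (a : G)⁻¹
        push_cast
        group) }
  letI := act
  have hp : IsPGroup 5 ↥(Subgroup.zpowers d) := isPGroup_of_forall_pow (k := 1) (fun x hx => by
    obtain ⟨i, rfl⟩ := hx
    rw [pow_one, ← zpow_natCast, ← zpow_mul, mul_comm, zpow_mul, zpow_natCast, hd, one_zpow])
  refine (hp.card_modEq_card_fixedPoints (α := H)).trans (Eq.subst ?_ (Nat.ModEq.refl _))
  refine Nat.card_congr
    { toFun := fun x => ⟨(x.1 : G), x.1.2, mem_cent_singleton.2 ?_⟩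
      invFun := fun x => ⟨⟨(x : G), x.2.1⟩, fun k => Subtype.ext ?_⟩
      left_inv := fun x => rfl
      right_inv := fun x => rfl }
  · have h := congrArg Subtype.val (x.2 ⟨d, Subgroup.mem_zpowers d⟩)
    change d * (x.1 : G) * d⁻¹ = x.1 at h
    exact (mul_inv_eq_iff_eq_mul.1 h).symm
  · have hc : Commute (x : G) d := mem_cent_singleton.1 x.2.2
    obtain ⟨i, hi⟩ := k.2
    show (k : G) * (x : G) * (k : G)⁻¹ = x
    rw [← hi]
    show d ^ i * (x : G) * (d ^ i)⁻¹ = x
    rw [← (hc.zpow_right i).eq, mul_inv_cancel_right]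

theorem conj_conj (a b x : G) : a * (b * x * b⁻¹) * a⁻¹ = (a * b) * x * (a * b)⁻¹ := by group

/-- Conjugates of an involution in a coset of a group of odd exponent which it normalises. -/
theorem conj_involution_coset {t x : G} (ht : t * t = 1) (hx : x ^ 3 = 1)
    (htx : (t * x) * (t * x) = 1) : x * t * x⁻¹ = t * x := by
  have hti : t⁻¹ = t := inv_eq_of_mul_eq_one_right ht
  have h1 : t * x * t = x⁻¹ := by
    rw [← mul_eq_one_iff_eq_inv]; rw [← mul_assoc] at htx; exact htx
  have hx2 : x⁻¹ * x⁻¹ = x := by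
    have h3 : x⁻¹ = x * x := inv_eq_of_mul_eq_one_right (by rw [← hx, pow_three])
    calc x⁻¹ * x⁻¹ = x ^ 3 * x := by rw [h3]; simp only [pow_succ, pow_zero, one_mul, mul_assoc]
      _ = x := by rw [hx, one_mul]
  calc x * t * x⁻¹ = t * (t * x * t) * x⁻¹ := by rw [← mul_assoc, ← mul_assoc, ht, one_mul]
    _ = t * (x⁻¹ * x⁻¹) := by rw [h1, mul_assoc]
    _ = t * x := by rw [hx2]

end Cfsg.Lib.McLThree
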