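import Cfsg.Agent.Lib.McLThree.UTangent
import Cfsg.Agent.Lib.McLThree.Coord
import Cfsg.Agent.Lib.Coprime.Generation

/-!
Coordinates of `J` relative to a point of the second kind: three singular lines modulo the point.
-/

set_option autoImplicit false
set_option linter.style.haveILetI false
set_option linter.unusedSectionVars false

namespace Cfsg.Lib.McLThree

open Cfsg.Lib.AltEightThree (mem_cent_singleton conj_mem_normalizer mem_normalizer_of_forall)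

/-- Coordinates modulo the point. -/
abbrev K3 := ZMod 3 × ZMod 3 × ZMod 3

/-- Weight one or three. -/
def W13 (q : K3) : Prop :=
  (q.1 ≠ 0 ∧ q.2.1 ≠ 0 ∧ q.2.2 ≠ 0) ∨ (q.1 ≠ 0 ∧ q.2.1 = 0 ∧ q.2.2 = 0) ∨
    (q.1 = 0 ∧ q.2.1 ≠ 0 ∧ q.2.2 = 0) ∨ (q.1 = 0 ∧ q.2.1 = 0 ∧ q.2.2 ≠ 0)

instance (q : K3) : Decidable (W13 q) := by unfold W13; infer_instance

theorem w13_cases : ∀ q : K3, W13 q → ∃ w ∈
    ([(1, 0, 0), (0, 1, 0), (0, 0, 1), (1, 1, 1), (1, 2, 2), (2, 1, 2), (2, 2, 1)] : List K3),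
      q = w ∨ q = -w := by
  decide +kernel

theorem plane_shift : ∀ i j α γ : ZMod 3, i ≠ 0 → j ≠ 0 → ¬(α = 0 ∧ γ = 0) →
    ∃ n : ZMod 3, W13 (α + n * i, n * j, γ) := by
  decide +kernel

theorem plane_kind : ∀ i j : ZMod 3, ¬(i = 0 ∧ j = 0) → W13 (i, j, 0) ∨ (i ≠ 0 ∧ j ≠ 0) := by
  decide +kernel

universe v

variable {G : Type v} [Group G] [Finite G]

theorem not_isCyclic_nine {W : Subgroup G} (hW : ∀ x ∈ W, x ^ 3 = 1) (hc : Nat.card W = 9) :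
    ¬ IsCyclic W := by
  intro h
  obtain ⟨g, hg⟩ := IsCyclic.exists_generator (α := W)
  have h1 := orderOf_eq_card_of_forall_mem_zpowers hg
  have h2 : orderOf g ≤ 3 :=
    orderOf_le_of_pow_eq_one (by norm_num) (Subtype.ext (hW g g.2))
  omega

namespace UFrame

variable {C : LocC G} (Φ : UFrame C)

/-- The first singular line. -/
def e1 : G := Φ.e

/-- The second singular line. -/
def e2 : G := Φ.m * Φ.e * Φ.m⁻¹

/-- The third singular line. -/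
def e3 : G := Φ.m * Φ.e2 * Φ.m⁻¹

theorem e2_J : Φ.e2 ∈ C.J :=
  conj_mem_normalizer (C.toLoc.S_norm Φ.m_S) Φ.e_J

theorem e3_J : Φ.e3 ∈ C.J :=
  conj_mem_normalizer (C.toLoc.S_norm Φ.m_S) Φ.e2_J

theorem m_cube : Φ.m ^ 3 ∈ C.J := by
  have hmM := C.toLocJ.S_M Φ.m_S
  refine (C.θ_ker (⟨Φ.m, hmM⟩ ^ 3)).1 ?_
  rw [map_pow]
  exact inP_three _ ((C.θ_S ⟨Φ.m, hmM⟩).2 Φ.m_S)

theorem a_e2 : Φ.a * Φ.e2 * Φ.a⁻¹ = Φ.e2⁻¹ * Φ.u := by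
  have hai : Φ.a⁻¹ = Φ.a := inv_eq_of_mul_eq_one_right Φ.a_sq
  have h1 : Φ.m⁻¹ * Φ.a * Φ.m = Φ.a * Φ.b := by
    have h : Φ.a = Φ.m * (Φ.a * Φ.b) * Φ.m⁻¹ := by
      rw [← conj_mul, Φ.m_a, Φ.m_b, ← mul_assoc, ← Φ.a_b, mul_assoc, Φ.b_sq, mul_one]
    calc Φ.m⁻¹ * Φ.a * Φ.m = Φ.m⁻¹ * (Φ.m * (Φ.a * Φ.b) * Φ.m⁻¹) * Φ.m := by rw [← h]
      _ = Φ.a * Φ.b := by group
  calc Φ.a * Φ.e2 * Φ.a⁻¹
      = Φ.m * ((Φ.m⁻¹ * Φ.a * Φ.m) * Φ.e * (Φ.m⁻¹ * Φ.a * Φ.m)⁻¹) * Φ.m⁻¹ := by rw [e2]; group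
    _ = Φ.m * (Φ.a * (Φ.b * Φ.e * Φ.b⁻¹) * Φ.a⁻¹) * Φ.m⁻¹ := by rw [h1]; group
    _ = Φ.m * ((Φ.a * Φ.e⁻¹ * Φ.a⁻¹) * (Φ.a * Φ.u * Φ.a⁻¹)) * Φ.m⁻¹ := by rw [Φ.b_e]; group
    _ = Φ.m * (Φ.e⁻¹ * Φ.u) * Φ.m⁻¹ := by
      rw [← conj_inv, Φ.a_e, mul_inv_cancel_right, Φ.a_u, mul_inv_cancel_right]
    _ = _ := by rw [← conj_mul, Φ.m_u, mul_inv_cancel_right, e2, ← conj_inv]

theorem b_e2 : Φ.b * Φ.e2 * Φ.b⁻¹ = Φ.e2 := by
  calc Φ.b * Φ.e2 * Φ.b⁻¹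
      = Φ.m * (Φ.a * Φ.e * Φ.a⁻¹) * Φ.m⁻¹ := by rw [← Φ.m_a, e2]; group
    _ = _ := by rw [Φ.a_e, mul_inv_cancel_right, e2]

theorem a_e3 : Φ.a * Φ.e3 * Φ.a⁻¹ = Φ.e3⁻¹ * Φ.u := by
  have h1 : Φ.m⁻¹ * Φ.a * Φ.m = Φ.a * Φ.b := by
    have h : Φ.a = Φ.m * (Φ.a * Φ.b) * Φ.m⁻¹ := by
      rw [← conj_mul, Φ.m_a, Φ.m_b, ← mul_assoc, ← Φ.a_b, mul_assoc, Φ.b_sq, mul_one]
    calc Φ.m⁻¹ * Φ.a * Φ.m = Φ.m⁻¹ * (Φ.m * (Φ.a * Φ.b) * Φ.m⁻¹) * Φ.m := by rw [← h]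
      _ = Φ.a * Φ.b := by group
  calc Φ.a * Φ.e3 * Φ.a⁻¹
      = Φ.m * ((Φ.m⁻¹ * Φ.a * Φ.m) * Φ.e2 * (Φ.m⁻¹ * Φ.a * Φ.m)⁻¹) * Φ.m⁻¹ := by rw [e3]; group
    _ = Φ.m * (Φ.a * (Φ.b * Φ.e2 * Φ.b⁻¹) * Φ.a⁻¹) * Φ.m⁻¹ := by rw [h1]; group
    _ = Φ.m * (Φ.e2⁻¹ * Φ.u) * Φ.m⁻¹ := by rw [b_e2, a_e2]
    _ = _ := by rw [← conj_mul, Φ.m_u, mul_inv_cancel_right, e3, ← conj_inv]

theorem b_e3 : Φ.b * Φ.e3 * Φ.b⁻¹ = Φ.e3⁻¹ * Φ.u := by
  calc Φ.b * Φ.e3 * Φ.b⁻¹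
      = Φ.m * (Φ.a * Φ.e2 * Φ.a⁻¹) * Φ.m⁻¹ := by rw [← Φ.m_a, e3]; group
    _ = Φ.m * (Φ.e2⁻¹ * Φ.u) * Φ.m⁻¹ := by rw [a_e2]
    _ = _ := by rw [← conj_mul, Φ.m_u, mul_inv_cancel_right, e3, ← conj_inv]

theorem m_e3 : Φ.m * Φ.e3 * Φ.m⁻¹ = Φ.e := by
  calc Φ.m * Φ.e3 * Φ.m⁻¹ = Φ.m ^ 3 * Φ.e * (Φ.m ^ 3)⁻¹ := by rw [e3, e2, pow_three]; group
    _ = Φ.e := by rw [C.J_comm _ Φ.m_cube _ Φ.e_J, mul_inv_cancel_right]

/-- The coordinates. -/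
def c (l : ZMod 3) (q : K3) : G :=
  Φ.u ^ l.val * (Φ.e1 ^ q.1.val * Φ.e2 ^ q.2.1.val * Φ.e3 ^ q.2.2.val)

theorem c_J (l : ZMod 3) (q : K3) : Φ.c l q ∈ C.J :=
  mul_mem (pow_mem Φ.u_J _)
    (mul_mem (mul_mem (pow_mem Φ.e_J _) (pow_mem Φ.e2_J _)) (pow_mem Φ.e3_J _))

theorem c_zero : Φ.c 0 0 = 1 := by simp [c]

theorem c_u (l : ZMod 3) : Φ.c l 0 = Φ.u ^ l.val := by simp [c]

theorem c_add (l l' : ZMod 3) (q q' : K3) : Φ.c (l + l') (q + q') = Φ.c l q * Φ.c l' q' := by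
  have hp : ∀ {x : G}, x ∈ C.J → ∀ a b : ZMod 3, x ^ (a + b).val = x ^ a.val * x ^ b.val :=
    fun hx a b => pow_val_add (C.J_exp _ hx) a b
  have hc : ∀ {x y : G}, x ∈ C.J → y ∈ C.J → Commute x y := fun hx hy => C.J_comm _ hx _ hy
  simp only [c, Prod.fst_add, Prod.snd_add]
  rw [hp Φ.u_J, hp (show Φ.e1 ∈ C.J from Φ.e_J), hp Φ.e2_J, hp Φ.e3_J]
  have he1 : Φ.e1 ∈ C.J := Φ.e_J
  rw [(hc (mul_mem (mul_mem (pow_mem he1 q.1.val) (pow_mem Φ.e2_J q.2.1.val))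
      (pow_mem Φ.e3_J q.2.2.val)) (pow_mem Φ.u_J l'.val)).mul_mul_mul_comm,
    (hc (pow_mem Φ.e3_J q.2.2.val)
      (mul_mem (pow_mem he1 q'.1.val) (pow_mem Φ.e2_J q'.2.1.val))).mul_mul_mul_comm,
    (hc (pow_mem Φ.e2_J q.2.1.val) (pow_mem he1 q'.1.val)).mul_mul_mul_comm]

theorem c_neg (l : ZMod 3) (q : K3) : Φ.c (-l) (-q) = (Φ.c l q)⁻¹ := by
  refine eq_inv_of_mul_eq_one_left ?_
  rw [← c_add, neg_add_cancel, neg_add_cancel, c_zero]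

theorem c_nsmul (l : ZMod 3) (q : K3) : ∀ n : ℕ, Φ.c ((n : ZMod 3) * l) (n • q) = Φ.c l q ^ n := by
  intro n
  induction n with
  | zero => simp [c_zero]
  | succ n ih => rw [pow_succ, ← ih, ← c_add, Nat.cast_succ, add_mul, one_mul, succ_nsmul]

theorem c_pow_val (l : ZMod 3) (q : K3) (i : ZMod 3) :
    Φ.c l q ^ i.val = Φ.c (i * l) (i * q.1, i * q.2.1, i * q.2.2) := by
  rw [← c_nsmul, ZMod.natCast_zmod_val]
  congr 1
  ext <;> simp [nsmul_eq_mul]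

theorem e1_c : Φ.e1 = Φ.c 0 (1, 0, 0) := by simp [c, ZMod.val_one]

theorem e2_c : Φ.e2 = Φ.c 0 (0, 1, 0) := by simp [c, ZMod.val_one]

theorem e3_c : Φ.e3 = Φ.c 0 (0, 0, 1) := by simp [c, ZMod.val_one]

theorem inv_u_c {x : G} {q : K3} (hx : x = Φ.c 0 q) : x⁻¹ * Φ.u = Φ.c 1 (-q) := by
  rw [hx, ← c_neg, neg_zero, show Φ.u = Φ.c 1 0 by simp [c, ZMod.val_one], ← c_add, zero_add,
    add_zero]

theorem conj_c {g : G} (hgu : g * Φ.u = Φ.u * g) {L₁ L₂ L₃ : ZMod 3} {Q₁ Q₂ Q₃ : K3}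
    (h₁ : g * Φ.e1 * g⁻¹ = Φ.c L₁ Q₁) (h₂ : g * Φ.e2 * g⁻¹ = Φ.c L₂ Q₂)
    (h₃ : g * Φ.e3 * g⁻¹ = Φ.c L₃ Q₃) (l i j k : ZMod 3) :
    g * Φ.c l (i, j, k) * g⁻¹ = Φ.c (l + i * L₁ + j * L₂ + k * L₃)
      (i * Q₁.1 + j * Q₂.1 + k * Q₃.1, i * Q₁.2.1 + j * Q₂.2.1 + k * Q₃.2.1,
        i * Q₁.2.2 + j * Q₂.2.2 + k * Q₃.2.2) := by
  conv_lhs => rw [c, ← conj_mul, ← conj_mul, ← conj_mul, ← conj_pow, ← conj_pow, ← conj_pow,
    ← conj_pow, hgu, mul_inv_cancel_right, h₁, h₂, h₃, c_pow_val, c_pow_val, c_pow_val, ← c_u,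
    ← c_add, ← c_add, ← c_add]
  congr 1
  · ring
  · ext <;> simp

theorem conj_a (l i j k : ZMod 3) :
    Φ.a * Φ.c l (i, j, k) * Φ.a⁻¹ = Φ.c (l + j + k) (i, -j, -k) := by
  rw [Φ.conj_c Φ.a_u (show Φ.a * Φ.e1 * Φ.a⁻¹ = Φ.c 0 (1, 0, 0) by
      rw [← e1_c, show Φ.a * Φ.e1 = Φ.e1 * Φ.a from Φ.a_e, mul_inv_cancel_right])
    (Φ.a_e2.trans (Φ.inv_u_c Φ.e2_c)) (Φ.a_e3.trans (Φ.inv_u_c Φ.e3_c))]
  simp

theorem conj_b (l i j k : ZMod 3) :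
    Φ.b * Φ.c l (i, j, k) * Φ.b⁻¹ = Φ.c (l + i + k) (-i, j, -k) := by
  rw [Φ.conj_c Φ.b_u (show Φ.b * Φ.e1 * Φ.b⁻¹ = _ from Φ.b_e.trans (Φ.inv_u_c Φ.e1_c))
    (Φ.b_e2.trans Φ.e2_c) (Φ.b_e3.trans (Φ.inv_u_c Φ.e3_c))]
  simp

theorem conj_m (l i j k : ZMod 3) :
    Φ.m * Φ.c l (i, j, k) * Φ.m⁻¹ = Φ.c l (k, i, j) := by
  rw [Φ.conj_c Φ.m_u (show Φ.m * Φ.e1 * Φ.m⁻¹ = _ from Φ.e2_c)
    (show Φ.m * Φ.e2 * Φ.m⁻¹ = _ from Φ.e3_c) (Φ.m_e3.trans Φ.e1_c)]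
  simp

theorem fst_eq_zero {l : ZMod 3} {q : K3} (h : Φ.c l q = 1) : q.1 = 0 := by
  obtain ⟨i, j, k⟩ := q
  have h1 : Φ.c (l + j + k) (i, -j, -k) = 1 := by
    rw [← conj_a, h, mul_one, mul_inv_cancel]
  have h2 : Φ.c (l + (l + j + k)) ((i, j, k) + (i, -j, -k)) = 1 := by rw [c_add, h, h1, one_mul]
  have e : ((i, j, k) : K3) + (i, -j, -k) = (i + i, 0, 0) := by simp
  rw [e] at h2
  show i = 0
  by_contra hi
  apply Φ.e_ind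
  have hii : (i + i : ZMod 3) ≠ 0 := by
    clear h h1 h2 e
    revert i
    decide
  have h3 : Φ.c ((i + i) * (l + (l + j + k))) ((i + i) * (i + i), 0, 0) = 1 := by
    have h4 := Φ.c_pow_val (l + (l + j + k)) (i + i, 0, 0) (i + i)
    rw [h2, one_pow] at h4
    simpa using h4.symm
  rw [three_sq _ hii] at h3
  have h5 : Φ.c ((i + i) * (l + (l + j + k))) (1, 0, 0) =
      Φ.u ^ ((i + i) * (l + (l + j + k))).val * Φ.e := by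
    simp [c, ZMod.val_one, e1]
  rw [h5, mul_eq_one_iff_inv_eq] at h3
  rw [← h3]
  exact inv_mem (pow_mem (Subgroup.mem_zpowers _) _)

theorem c_eq_one {l : ZMod 3} {q : K3} (h : Φ.c l q = 1) : l = 0 ∧ q = 0 := by
  obtain ⟨i, j, k⟩ := q
  have hi := Φ.fst_eq_zero h
  have h1 : Φ.c l (k, i, j) = 1 := by rw [← conj_m, h, mul_one, mul_inv_cancel]
  have hk := Φ.fst_eq_zero h1
  have h2 : Φ.c l (j, k, i) = 1 := by rw [← conj_m, h1, mul_one, mul_inv_cancel]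
  have hj := Φ.fst_eq_zero h2
  simp only at hi hk hj
  subst hi; subst hj; subst hk
  refine ⟨?_, rfl⟩
  have h3 : Φ.u ^ l.val = 1 := by rw [← c_u]; exact h
  have h4 : orderOf Φ.u = 3 := orderOf_eq_prime Φ.u_exp Φ.u_ne
  have h5 := orderOf_dvd_of_pow_eq_one h3
  rw [h4] at h5
  exact (ZMod.val_eq_zero l).1 (Nat.eq_zero_of_dvd_of_lt h5 (ZMod.val_lt l))

theorem c_inj {l l' : ZMod 3} {q q' : K3} (h : Φ.c l q = Φ.c l' q') : l = l' ∧ q = q' := by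
  have h1 : Φ.c (l + -l') (q + -q') = 1 := by rw [c_add, c_neg, h, mul_inv_cancel]
  obtain ⟨h2, h3⟩ := Φ.c_eq_one h1
  exact ⟨add_neg_eq_zero.1 h2, add_neg_eq_zero.1 h3⟩

theorem exists_c {x : G} (hx : x ∈ C.J) : ∃ l q, x = Φ.c l q := by
  let f : ZMod 3 × K3 → C.J := fun p => ⟨Φ.c p.1 p.2, Φ.c_J _ _⟩
  have hf : Function.Bijective f := by
    refine (Nat.bijective_iff_injective_and_card f).2 ⟨fun p p' h => ?_, ?_⟩
    · obtain ⟨h1, h2⟩ := Φ.c_inj (congrArg Subtype.val h)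
      exact Prod.ext h1 h2
    · rw [C.J_card]; simp [Nat.card_eq_fintype_card]
  obtain ⟨p, hp⟩ := hf.2 ⟨x, hx⟩
  exact ⟨p.1, p.2, (congrArg Subtype.val hp).symm⟩

theorem mem_zpowers_iff_c {l : ZMod 3} {q : K3} :
    Φ.c l q ∈ Subgroup.zpowers Φ.u ↔ q = 0 := by
  constructor
  · intro h
    rcases zpow_mem_of_three Φ.u_exp h with h | h | h
    · exact (Φ.c_eq_one h).2
    · exact (Φ.c_inj (h.trans (show Φ.u = Φ.c 1 0 by simp [c, ZMod.val_one]))).2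
    · exact (Φ.c_inj (h.trans (show Φ.u ^ 2 = Φ.c 2 0 by rw [c_u]; rfl))).2
  · rintro rfl
    rw [c_u]
    exact pow_mem (Subgroup.mem_zpowers _) _

theorem z_coord : ∃ l i : ZMod 3, i ≠ 0 ∧ C.z = Φ.c l (i, i, i) := by
  obtain ⟨l, ⟨i, j, k⟩, hz⟩ := Φ.exists_c C.toLoc.z_J
  have hm : Φ.m * C.z * Φ.m⁻¹ = C.z := by rw [C.z_S _ Φ.m_S, mul_inv_cancel_right]
  rw [hz, conj_m] at hm
  obtain ⟨-, h⟩ := Φ.c_inj hm
  simp only [Prod.mk.injEq] at h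
  obtain ⟨rfl, rfl, -⟩ := h
  refine ⟨l, _, fun h0 => Φ.z_not_u ?_, hz⟩
  rw [hz, h0]
  exact Φ.mem_zpowers_iff_c.2 rfl

/-- A property stable under the four group and the element of order three, inversion and
multiplication by the point, which holds at both kinds of singular lines. -/
theorem of_w13 (P : G → Prop) (hshift : ∀ x ∈ C.J, ∀ l : ZMod 3, P x → P (x * Φ.u ^ l.val))
    (hinv : ∀ x ∈ C.J, P x → P x⁻¹)
    (hconj : ∀ g, (g = Φ.a ∨ g = Φ.b ∨ g = Φ.m) → ∀ x ∈ C.J, P x → P (g * x * g⁻¹))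
    (he : P Φ.e) (hz : P C.z) (l : ZMod 3) {q : K3} (hq : W13 q) : P (Φ.c l q) := by
  have shift : ∀ l l' w, P (Φ.c l w) → P (Φ.c l' w) := by
    intro l l' w h
    have h2 := hshift _ (Φ.c_J l w) (l' - l) h
    rwa [← c_u, ← c_add, add_sub_cancel, add_zero] at h2
  have neg : ∀ l w, P (Φ.c l w) → P (Φ.c (-l) (-w)) := fun l w h => by
    rw [c_neg]; exact hinv _ (Φ.c_J _ _) h
  have h1 : P (Φ.c 0 (1, 0, 0)) := by rw [← e1_c]; exact he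
  have h2 : P (Φ.c 0 (0, 1, 0)) := by
    have h := hconj _ (Or.inr (Or.inr rfl)) _ (Φ.c_J _ _) h1
    rwa [conj_m] at h
  have h3 : P (Φ.c 0 (0, 0, 1)) := by
    have h := hconj _ (Or.inr (Or.inr rfl)) _ (Φ.c_J _ _) h2
    rwa [conj_m] at h
  obtain ⟨lz, iz, hiz, hzc⟩ := Φ.z_coord
  have h4 : P (Φ.c 0 (1, 1, 1)) := by
    rw [hzc] at hz
    have : iz = 1 ∨ iz = -1 := by
      clear hz hzc
      revert iz
      decide
    rcases this with rfl | rfl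
    · exact shift _ _ _ hz
    · have h := neg _ _ hz
      simp only [Prod.neg_mk, neg_neg] at h
      exact shift _ _ _ h
  have h5 : P (Φ.c 0 (1, 2, 2)) := by
    have h := hconj _ (Or.inl rfl) _ (Φ.c_J _ _) h4
    rw [conj_a] at h
    exact shift _ _ _ h
  have h6 : P (Φ.c 0 (2, 1, 2)) := by
    have h := hconj _ (Or.inr (Or.inl rfl)) _ (Φ.c_J _ _) h4
    rw [conj_b] at h
    exact shift _ _ _ h
  have h7 : P (Φ.c 0 (2, 2, 1)) := by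
    have h := hconj _ (Or.inl rfl) _ (Φ.c_J _ _) h6
    rw [conj_a] at h
    exact shift _ _ _ h
  obtain ⟨w, hw, hqw⟩ := w13_cases q hq
  have hPw : P (Φ.c 0 w) := by
    simp only [List.mem_cons, List.not_mem_nil, or_false] at hw
    rcases hw with rfl | rfl | rfl | rfl | rfl | rfl | rfl <;> assumption
  rcases hqw with rfl | rfl
  · exact shift _ _ _ hPw
  · exact shift _ _ _ (neg _ _ hPw)

/-- A point of `J` fixed by no invariant 3'-subgroup centralising the point. -/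
def Good (x : G) : Prop :=
  ∀ H : Subgroup G, (Nat.card H).Coprime 3 → (∀ j ∈ C.J, ∀ r ∈ H, j * r * j⁻¹ ∈ H) →
    (∀ r ∈ H, r * Φ.u = Φ.u * r) → ∀ r ∈ H, r * x = x * r → r = 1

theorem good_w13 (l : ZMod 3) {q : K3} (hq : W13 q) : Φ.Good (Φ.c l q) := by
  refine Φ.of_w13 Φ.Good ?_ ?_ ?_ ?_ ?_ l hq
  · intro x hx k h H hH hJ hu r hr hrx
    refine h H hH hJ hu r hr ?_
    have h1 : Commute r (x * Φ.u ^ k.val * (Φ.u ^ k.val)⁻¹) :=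
      (show Commute r (x * Φ.u ^ k.val) from hrx).mul_right
        ((show Commute r Φ.u from hu r hr).pow_right _).inv_right
    rwa [mul_inv_cancel_right] at h1
  · intro x hx h H hH hJ hu r hr hrx
    exact h H hH hJ hu r hr (by simpa using (show Commute r x⁻¹ from hrx).inv_right.eq)
  · intro g hg x hx h H hH hJ hu r hr hrx
    have hgu : Commute g Φ.u := by
      rcases hg with rfl | rfl | rfl
      exacts [Φ.a_u, Φ.b_u, Φ.m_u]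
    have hgJ : g ∈ Subgroup.normalizer (C.J : Set G) := by
      rcases hg with rfl | rfl | rfl
      exacts [C.M_norm Φ.a_M, C.M_norm Φ.b_M, C.toLoc.S_norm Φ.m_S]
    have h1 : g⁻¹ * r * g⁻¹⁻¹ = 1 := by
      refine h (H.map (MulAut.conj g⁻¹).toMonoidHom) ?_ ?_ ?_ _ ⟨r, hr, rfl⟩ ?_
      · rw [Subgroup.card_map_of_injective (MulAut.conj g⁻¹).injective]; exact hH
      · rintro j hj _ ⟨w, hw, rfl⟩
        refine ⟨(g * j * g⁻¹) * w * (g * j * g⁻¹)⁻¹, hJ _ (conj_mem_normalizer hgJ hj) w hw, ?_⟩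
        show g⁻¹ * ((g * j * g⁻¹) * w * (g * j * g⁻¹)⁻¹) * g⁻¹⁻¹ = j * (g⁻¹ * w * g⁻¹⁻¹) * j⁻¹
        group
      · rintro _ ⟨w, hw, rfl⟩
        exact ((hgu.inv_left.mul_left (show Commute w Φ.u from hu w hw)).mul_left
          hgu.inv_left.inv_left).eq
      · calc g⁻¹ * r * g⁻¹⁻¹ * x = g⁻¹ * (r * (g * x * g⁻¹)) * g := by group
          _ = g⁻¹ * (g * x * g⁻¹ * r) * g := by rw [hrx]
          _ = x * (g⁻¹ * r * g⁻¹⁻¹) := by group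
    exact conj_eq_one_iff.1 h1
  · intro H hH hJ hu r hr hrx
    obtain ⟨n, hn, hne⟩ := Φ.e_sing
    rw [← hne] at hrx
    exact C.toLoc.invariant_cent_singular hH hJ hn hr hrx
  · intro H hH hJ hu r hr hrx
    exact C.toLoc.invariant_cent_z hH hJ hr hrx

theorem plane_step {H : Subgroup G} (hH : (Nat.card H).Coprime 3)
    (hJ : ∀ j ∈ C.J, ∀ r ∈ H, j * r * j⁻¹ ∈ H) (p p' : K3)
    (hind : ∀ α γ : ZMod 3,
      (α * p.1 + γ * p'.1, α * p.2.1 + γ * p'.2.1, α * p.2.2 + γ * p'.2.2) = (0 : K3) →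
        α = 0 ∧ γ = 0)
    (hfix : ∀ α γ : ZMod 3, ¬(α = 0 ∧ γ = 0) → ∀ r ∈ H,
      r * Φ.c 0 (α * p.1 + γ * p'.1, α * p.2.1 + γ * p'.2.1, α * p.2.2 + γ * p'.2.2) =
        Φ.c 0 (α * p.1 + γ * p'.1, α * p.2.1 + γ * p'.2.1, α * p.2.2 + γ * p'.2.2) * r → r = 1) :
    H = ⊥ := by
  let f : Multiplicative (ZMod 3 × ZMod 3) →* G := MonoidHom.mk'
    (fun w => Φ.c 0 (w.toAdd.1 * p.1 + w.toAdd.2 * p'.1, w.toAdd.1 * p.2.1 + w.toAdd.2 * p'.2.1,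
      w.toAdd.1 * p.2.2 + w.toAdd.2 * p'.2.2))
    (fun w w' => by
      rw [← c_add, add_zero]
      congr 1
      ext <;> simp only [toAdd_mul, Prod.fst_add, Prod.snd_add] <;> ring)
  have hinj : Function.Injective f := by
    rw [injective_iff_map_eq_one]
    intro w hw
    obtain ⟨h1, h2⟩ := hind _ _ (Φ.c_eq_one hw).2
    exact toAdd_eq_zero.1 (Prod.ext h1 h2)
  have hfJ : f.range ≤ C.J := by
    rintro _ ⟨w, rfl⟩; exact Φ.c_J _ _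
  have hcard : Nat.card f.range = 9 := by
    rw [← Nat.card_congr (MonoidHom.ofInjective hinj).toEquiv]
    simp [Nat.card_eq_fintype_card]
  haveI : IsMulCommutative f.range :=
    ⟨⟨fun a b => Subtype.ext (C.J_comm _ (hfJ a.2) _ (hfJ b.2))⟩⟩
  have hle := Cfsg.Lib.Coprime.le_iSup_centralizer_of_not_isCyclic
    (not_isCyclic_nine (fun x hx => C.J_exp x (hfJ hx)) hcard)
    (G := H) (fun x hx => mem_normalizer_of_forall (hJ x (hfJ hx)))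
    (by
      rw [hcard, show (9 : ℕ) = 3 ^ 2 by norm_num]
      exact (Nat.Coprime.pow_left 2 hH.symm))
  rw [eq_bot_iff]
  refine hle.trans (iSup_le fun x => ?_)
  intro r hr
  obtain ⟨w, hw⟩ := x.2.1
  rw [Subgroup.mem_bot]
  refine hfix w.toAdd.1 w.toAdd.2 ?_ r hr.1 ?_
  · rintro ⟨h1, h2⟩
    apply x.2.2
    rw [← hw, show w = 1 from toAdd_eq_zero.1 (Prod.ext h1 h2), map_one]
  · have h := mem_cent_singleton.1 hr.2
    rw [← hw] at h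
    exact h

/-- A 3'-subgroup normalised by `J` and centralised by the point is trivial. -/
theorem invariant_trivial {H : Subgroup G} (hH : (Nat.card H).Coprime 3)
    (hJ : ∀ j ∈ C.J, ∀ r ∈ H, j * r * j⁻¹ ∈ H) (hu : ∀ r ∈ H, r * Φ.u = Φ.u * r) : H = ⊥ := by
  refine Φ.plane_step hH hJ (1, 0, 0) (0, 1, 0) (fun α γ h => ?_) ?_
  · simpa using h
  intro i j hij r hr hrc
  simp only [mul_one, mul_zero, add_zero, zero_add] at hrc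
  rcases plane_kind i j hij with h | ⟨hi, hj⟩
  · exact Φ.good_w13 0 h H hH hJ hu r hr hrc
  set v := Φ.c 0 (i, j, 0) with hv
  set H' := H ⊓ Subgroup.centralizer ({v} : Set G) with hH'
  have hH'c : (Nat.card H').Coprime 3 := hH.coprime_dvd_left (Subgroup.card_dvd_of_le inf_le_left)
  have hH'J : ∀ x ∈ C.J, ∀ w ∈ H', x * w * x⁻¹ ∈ H' := by
    intro x hx w hw
    refine ⟨hJ x hx w hw.1, mem_cent_singleton.2 ?_⟩
    have hc : Commute x v := C.J_comm _ hx _ (Φ.c_J _ _)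
    exact ((hc.mul_left (show Commute w v from mem_cent_singleton.1 hw.2)).mul_left hc.inv_left).eq
  have hbot : H' = ⊥ := by
    refine Φ.plane_step hH'c hH'J (1, 0, 0) (0, 0, 1) (fun α γ h => by simpa using h) ?_
    intro α γ hαγ w hw hwc
    simp only [mul_one, mul_zero, add_zero, zero_add] at hwc
    obtain ⟨n, hn⟩ := plane_shift i j α γ hi hj hαγ
    refine Φ.good_w13 0 hn H' hH'c hH'J (fun s hs => hu s hs.1) w hw ?_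
    have hwv : Commute w (v ^ n.val) :=
      (show Commute w v from mem_cent_singleton.1 hw.2).pow_right _
    have h2 : Commute w (Φ.c 0 (α, 0, γ) * v ^ n.val) :=
      (show Commute w (Φ.c 0 (α, 0, γ)) from hwc).mul_right hwv
    rw [hv, c_pow_val, ← c_add] at h2
    simpa using h2.eq
  have hmem : r ∈ H' := ⟨hr, mem_cent_singleton.2 hrc⟩
  rw [hbot] at hmem
  exact Subgroup.mem_bot.1 hmem

theorem card_T : Nat.card Φ.T = 243 := by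
  obtain ⟨k, hk6, hk⟩ := (Nat.dvd_prime_pow Nat.prime_three (m := 6)).1
    (show Nat.card Φ.T ∣ 3 ^ 6 by
      have := Subgroup.card_dvd_of_le (inf_le_left : Φ.T ≤ (C.S : Subgroup G))
      rwa [C.S_card] at this)
  have hlow : 81 < Nat.card Φ.T := by
    rw [← C.J_card]
    refine lt_of_le_of_ne (Subgroup.card_le_of_le Φ.J_le_T) (fun h => Φ.m_notJ ?_)
    rw [Subgroup.eq_of_le_of_card_ge Φ.J_le_T h.ge]
    exact Φ.m_T
  have hhigh : Nat.card Φ.T ≠ 729 := by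
    intro h
    apply Φ.u_not_z
    have heq := Subgroup.eq_of_le_of_card_ge (inf_le_left : Φ.T ≤ (C.S : Subgroup G))
      (show Nat.card (C.S : Subgroup G) ≤ Nat.card Φ.T by rw [C.S_card, h])
    refine C.S_centre _ (C.J_le Φ.u_J) (fun r hr => ?_)
    rw [← heq] at hr
    exact (Φ.mem_T.1 hr).2.symm
  rw [hk] at hlow hhigh ⊢
  interval_cases k <;> simp_all

theorem T_form {x : G} (hx : x ∈ Φ.T) : ∃ j ∈ C.J, ∃ n : ℕ, x = j * Φ.m ^ n := by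
  have hle : Subgroup.zpowers Φ.m ≤ Subgroup.normalizer (C.J : Set G) :=
    Subgroup.zpowers_le.2 (C.toLoc.S_norm Φ.m_S)
  set T' := C.J ⊔ Subgroup.zpowers Φ.m with hT'
  have hsub : T' ≤ Φ.T := sup_le Φ.J_le_T (Subgroup.zpowers_le.2 Φ.m_T)
  have heq : T' = Φ.T := by
    refine Subgroup.eq_of_le_of_card_ge hsub ?_
    rw [Φ.card_T]
    obtain ⟨k, hk6, hk⟩ := (Nat.dvd_prime_pow Nat.prime_three (m := 5)).1
      (show Nat.card T' ∣ 3 ^ 5 by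
        have := Subgroup.card_dvd_of_le hsub
        rwa [Φ.card_T] at this)
    have hlow : 81 < Nat.card T' := by
      rw [← C.J_card]
      refine lt_of_le_of_ne (Subgroup.card_le_of_le le_sup_left) (fun h => Φ.m_notJ ?_)
      rw [Subgroup.eq_of_le_of_card_ge (le_sup_left : C.J ≤ T') h.ge]
      exact (le_sup_right : Subgroup.zpowers Φ.m ≤ T') (Subgroup.mem_zpowers _)
    rw [hk] at hlow ⊢
    interval_cases k <;> simp_all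
  rw [← heq] at hx
  obtain ⟨j, hj, w, hw, rfl⟩ := Cfsg.Lib.Coprime.exists_mul_of_mem_sup hle hx
  obtain ⟨n, rfl⟩ := (isOfFinOrder_of_finite Φ.m).mem_powers_iff_mem_zpowers.mpr hw
  exact ⟨j, hj, n, rfl⟩

/-- The centre of `T` modulo the point. -/
theorem T_centre {x : G} (hx : x ∈ Φ.T)
    (h : ∀ y ∈ Φ.T, x * y * x⁻¹ * y⁻¹ ∈ Subgroup.zpowers Φ.u) :
    x ∈ Subgroup.zpowers C.z ⊔ Subgroup.zpowers Φ.u := by
  have hxJ : x ∈ C.J := by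
    obtain ⟨j, hj, n, rfl⟩ := Φ.T_form hx
    refine mul_mem hj ?_
    have hd : 3 ∣ n := by
      by_contra hd
      have hmod := Nat.mod_add_div n 3
      have hn : (Φ.m ^ n) * Φ.e * (Φ.m ^ n)⁻¹ = Φ.m ^ (n % 3) * Φ.e * (Φ.m ^ (n % 3))⁻¹ := by
        have e : (Φ.m ^ 3) ^ (n / 3) * Φ.e * ((Φ.m ^ 3) ^ (n / 3))⁻¹ = Φ.e := by
          rw [C.J_comm _ (pow_mem Φ.m_cube _) _ Φ.e_J, mul_inv_cancel_right]
        conv_lhs => rw [← hmod, pow_add, pow_mul, ← conj_conj, e]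
      have hh := h Φ.e (Φ.J_le_T Φ.e_J)
      have hmn : Φ.m ^ n * Φ.e * (Φ.m ^ n)⁻¹ ∈ C.J :=
        conj_mem_normalizer (pow_mem (C.toLoc.S_norm Φ.m_S) n) Φ.e_J
      have e1 : j * Φ.m ^ n * Φ.e * (j * Φ.m ^ n)⁻¹ = Φ.m ^ n * Φ.e * (Φ.m ^ n)⁻¹ := by
        rw [← conj_conj, C.J_comm _ hj _ hmn, mul_inv_cancel_right]
      rw [e1, hn] at hh
      have he : Φ.e⁻¹ = Φ.c 0 (-1, 0, 0) := by
        rw [show Φ.e = Φ.e1 from rfl, e1_c, ← c_neg, neg_zero]; simp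
      have hcases : n % 3 = 1 ∨ n % 3 = 2 := by omega
      rcases hcases with h' | h' <;> rw [h'] at hh
      · rw [pow_one, show Φ.m * Φ.e * Φ.m⁻¹ = Φ.c 0 (0, 1, 0) from Φ.e2_c, he, ← c_add] at hh
        exact absurd (Φ.mem_zpowers_iff_c.1 hh) (by decide)
      · rw [pow_two, ← conj_conj, show Φ.m * (Φ.m * Φ.e * Φ.m⁻¹) * Φ.m⁻¹ = Φ.c 0 (0, 0, 1) from Φ.e3_c,
          he, ← c_add] at hh
        exact absurd (Φ.mem_zpowers_iff_c.1 hh) (by decide)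
    obtain ⟨k, rfl⟩ := hd
    rw [pow_mul]
    exact pow_mem Φ.m_cube k
  obtain ⟨l, ⟨i, j, k⟩, rfl⟩ := Φ.exists_c hxJ
  have hh := h Φ.m Φ.m_T
  have e : Φ.c l (i, j, k) * Φ.m * (Φ.c l (i, j, k))⁻¹ * Φ.m⁻¹ =
      Φ.c l (i, j, k) * (Φ.m * Φ.c l (i, j, k) * Φ.m⁻¹)⁻¹ := by group
  rw [e, conj_m, ← c_neg, ← c_add, mem_zpowers_iff_c] at hh
  obtain ⟨lz, iz, hiz, hz⟩ := Φ.z_coord
  have h3 : i = j ∧ j = k := by
    simp only [Prod.neg_mk, Prod.mk_add_mk, Prod.mk_eq_zero, add_neg_eq_zero] at hh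
    exact ⟨hh.2.1.symm, hh.2.2.symm⟩
  obtain ⟨rfl, rfl⟩ := h3
  set n := i * iz with hn
  have hni : n * iz = i := by rw [hn, mul_assoc, three_sq iz hiz, mul_one]
  have hzn : C.z ^ n.val = Φ.c (n * lz) (i, i, i) := by
    rw [hz, c_pow_val]; simp only [hni]
  have e2 : Φ.c l (i, i, i) = C.z ^ n.val * Φ.u ^ (l - n * lz).val := by
    rw [hzn, ← c_u, ← c_add, add_sub_cancel, add_zero]
  rw [e2]
  exact Subgroup.mul_mem_sup (pow_mem (Subgroup.mem_zpowers _) _) (pow_mem (Subgroup.mem_zpowers _) _)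

end UFrame

end Cfsg.Lib.McLThree
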