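import Cfsg.Agent.Lib.McLThree.NonSingular
import Cfsg.Agent.Lib.McLThree.CaseB

/-!
Frames at the two points of the second kind: such a point is conjugate into `Q ∩ J` and is not
conjugate to `z`.
-/

set_option autoImplicit false
set_option linter.style.haveILetI false
set_option linter.unusedSectionVars false

namespace Cfsg.Lib.McLThree

open Cfsg.Lib.AltEightThree (mem_cent_singleton conj_mem_normalizer mem_normalizer_of_forall)

universe v

theorem exists_g1 : ∃ g : ASix, g ^ 3 = 1 ∧ g * j0 * g⁻¹ = s0 * h0 ∧ g⁻¹ * j0 * g = j0 * (s0 * h0) := by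
  decide +kernel

theorem g0_frame : g0 ^ 3 = 1 ∧ g0 * j0 * g0⁻¹ = s0 ∧ g0⁻¹ * j0 * g0 = j0 * s0 := by
  decide +kernel

variable {G : Type v} [Group G] [Finite G]

/-- A point of the second kind with a four group, an element of order three permuting its involutions
inside `S`, and a singular point. -/
structure UFrame (C : LocC G) where
  /-- the point -/
  u : G
  /-- the first involution -/
  a : G
  /-- the second involution -/
  b : G
  /-- a singular point fixed by `a` -/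
  e : G
  /-- the element permuting the involutions -/
  m : G
  /-- an element inverting both points -/
  k : G
  u_J : u ∈ C.J
  u_ne : u ≠ 1
  a_M : a ∈ C.M
  b_M : b ∈ C.M
  a_sq : a * a = 1
  b_sq : b * b = 1
  a_b : a * b = b * a
  m_S : m ∈ (C.S : Subgroup G)
  m_a : m * a * m⁻¹ = b
  m_b : m * b * m⁻¹ = a * b
  a_u : a * u = u * a
  b_u : b * u = u * b
  m_u : m * u = u * m
  a_e : a * e = e * a
  b_e : b * e * b⁻¹ = e⁻¹ * u
  e_sing : ∃ n ∈ Subgroup.normalizer (C.J : Set G), n * C.z * n⁻¹ = e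
  e_ind : e ∉ Subgroup.zpowers u
  k_N : k ∈ Subgroup.normalizer (C.J : Set G)
  k_e : k * e * k⁻¹ = e⁻¹
  k_u : k * u * k⁻¹ = u⁻¹
  cent_e : ∀ g : G, g * e = e * g → (g * u * g⁻¹ = u ∨ g * u * g⁻¹ = u⁻¹) →
    g ∈ Subgroup.normalizer (C.J : Set G)

namespace UFrame

variable {C : LocC G} (Φ : UFrame C)

theorem e_J : Φ.e ∈ C.J := by
  obtain ⟨n, hn, hne⟩ := Φ.e_sing
  rw [← hne]; exact conj_mem_normalizer hn C.toLoc.z_J

theorem m_notJ : Φ.m ∉ C.J := by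
  intro hm
  apply Φ.e_ind
  have hme : Φ.m * Φ.e = Φ.e * Φ.m := C.J_comm _ hm _ Φ.e_J
  have hbe : Φ.b * Φ.e * Φ.b⁻¹ = Φ.e := by
    rw [← Φ.m_a]
    calc Φ.m * Φ.a * Φ.m⁻¹ * Φ.e * (Φ.m * Φ.a * Φ.m⁻¹)⁻¹
        = Φ.m * (Φ.a * (Φ.m⁻¹ * Φ.e * Φ.m) * Φ.a⁻¹) * Φ.m⁻¹ := by group
      _ = Φ.m * (Φ.a * Φ.e * Φ.a⁻¹) * Φ.m⁻¹ := by rw [mul_assoc Φ.m⁻¹, ← hme, inv_mul_cancel_left]
      _ = Φ.e := by rw [Φ.a_e, mul_inv_cancel_right, hme, mul_inv_cancel_right]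
  rw [Φ.b_e, inv_mul_eq_iff_eq_mul, ← pow_two] at hbe
  have h4 : Φ.e = (Φ.e ^ 2) ^ 2 := by
    rw [← pow_mul, show 2 * 2 = 3 + 1 from rfl, pow_succ, C.J_exp _ Φ.e_J, one_mul]
  rw [h4, ← hbe]
  exact pow_mem (Subgroup.mem_zpowers _) 2

theorem a_ne : Φ.a ≠ 1 := by
  intro h
  have hb : Φ.b = 1 := by rw [← Φ.m_a, h, mul_one, mul_inv_cancel]
  have := Φ.b_e
  rw [hb, one_mul, inv_one, mul_one, eq_inv_mul_iff_mul_eq, ← pow_two] at this
  apply Φ.e_ind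
  have h4 : Φ.e = (Φ.e ^ 2) ^ 2 := by
    rw [← pow_mul, show 2 * 2 = 3 + 1 from rfl, pow_succ, C.J_exp _ Φ.e_J, one_mul]
  rw [h4, this]
  exact pow_mem (Subgroup.mem_zpowers _) 2

theorem a_ne_b : Φ.a ≠ Φ.b := by
  intro h
  have := Φ.b_e
  rw [← h, Φ.a_e, mul_inv_cancel_right, eq_inv_mul_iff_mul_eq, ← pow_two] at this
  apply Φ.e_ind
  have h4 : Φ.e = (Φ.e ^ 2) ^ 2 := by
    rw [← pow_mul, show 2 * 2 = 3 + 1 from rfl, pow_succ, C.J_exp _ Φ.e_J, one_mul]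
  rw [h4, this]
  exact pow_mem (Subgroup.mem_zpowers _) 2

theorem b_ne : Φ.b ≠ 1 := by
  intro h
  have := Φ.m_a
  rw [h, conj_eq_one_iff] at this
  exact Φ.a_ne this

theorem u_A : Φ.u ∈ C.toLoc.A := by
  refine ⟨?_, Φ.u_J⟩
  by_contra huQ
  apply Φ.m_notJ
  obtain ⟨i, -, c, hc, hm⟩ := C.toLoc.S_decomp Φ.m_S (C.J_le Φ.u_J) huQ
  rw [hm]
  refine mul_mem (pow_mem Φ.u_J i) ?_
  have hcu : c * Φ.u = Φ.u * c := by
    have h : Commute (Φ.u ^ i * c) Φ.u := by rw [← hm]; exact Φ.m_u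
    have h2 := (Commute.inv_left ((Commute.refl Φ.u).pow_left i)).mul_left h
    rwa [inv_mul_cancel_left] at h2
  have hfix : c ∈ C.toLoc.fixQ Φ.u (C.z_S _ (C.J_le Φ.u_J)) :=
    ⟨hc, by simp [Loc.Triv, ← hcu]⟩
  rw [C.toLoc.fix_eq_A (C.J_le Φ.u_J) huQ] at hfix
  exact hfix.2

theorem u_not_z : Φ.u ∉ Subgroup.zpowers C.z := by
  intro hu
  have hfix : ∀ g : G, g * Φ.u = Φ.u * g → g * C.z = C.z * g := by
    intro g hg
    rcases zpow_mem_of_three C.z_exp hu with h | h | h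
    · exact absurd h Φ.u_ne
    · rwa [h] at hg
    · have e : C.z = Φ.u ^ 2 := by
        rw [h, ← pow_mul, show 2 * 2 = 3 + 1 from rfl, pow_succ, C.z_exp, one_mul]
      rw [e]
      exact (Commute.pow_right hg 2).eq
  have hnorm : ∀ g : G, ∀ hg : g ∈ C.M, g * Φ.u = Φ.u * g → NormP (C.θ ⟨g, hg⟩) := by
    intro g hg hgu
    have key : ∀ p : ASix, InP p → InP (C.θ ⟨g, hg⟩ * p * (C.θ ⟨g, hg⟩)⁻¹) := by
      intro p hp
      obtain ⟨s', rfl⟩ := C.θ_surj p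
      have hs : (s' : G) ∈ (C.S : Subgroup G) := (C.θ_S s').1 hp
      rw [← map_inv, ← map_mul, ← map_mul]
      exact (C.θ_S _).2 (C.toLoc.cent_norm_S (C.M_norm hg) (hfix g hgu) hs)
    exact ⟨key x0 ⟨1, 0, by simp⟩, key y0 ⟨0, 1, by simp⟩⟩
  set am : C.M := ⟨Φ.a, Φ.a_M⟩ with ham
  set bm : C.M := ⟨Φ.b, Φ.b_M⟩ with hbm
  have hne : ∀ x : C.M, (x : G) * x = 1 → (x : G) ≠ 1 → C.θ x ≠ 1 := by
    intro x hxx hx1 h
    exact hx1 (eq_one_of_pow_coprime (by rw [pow_two]; exact hxx)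
      (C.J_exp _ ((C.θ_ker x).1 h)) (by norm_num))
  have heq := normP_involution (C.θ am) (C.θ bm)
    ⟨⟨hnorm _ Φ.a_M Φ.a_u, by rw [← map_mul, show am * am = 1 from Subtype.ext Φ.a_sq, map_one],
      hne am Φ.a_sq Φ.a_ne⟩,
     ⟨hnorm _ Φ.b_M Φ.b_u, by rw [← map_mul, show bm * bm = 1 from Subtype.ext Φ.b_sq, map_one],
      hne bm Φ.b_sq Φ.b_ne⟩,
     by rw [← map_mul, ← map_mul, show am * bm = bm * am from Subtype.ext Φ.a_b]⟩
  have hJ : Φ.a⁻¹ * Φ.b ∈ C.J := C.toLocJ.θ_eq heq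
  have hai : Φ.a⁻¹ = Φ.a := inv_eq_of_mul_eq_one_right Φ.a_sq
  rw [hai] at hJ
  have h2 : (Φ.a * Φ.b) ^ 2 = 1 := by
    rw [(show Commute Φ.a Φ.b from Φ.a_b).mul_pow, pow_two, pow_two, Φ.a_sq, Φ.b_sq, one_mul]
  have h1 := eq_one_of_pow_coprime h2 (C.J_exp _ hJ) (by norm_num)
  exact Φ.a_ne_b (by rw [mul_eq_one_iff_eq_inv] at h1; rw [h1]; exact inv_eq_of_mul_eq_one_right Φ.b_sq)

theorem u_nonsingular (g : G) : g * C.z * g⁻¹ ≠ Φ.u :=
  C.toLocJ.not_singular Φ.u_A Φ.u_not_z g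

theorem u_inv_nonsingular (g : G) : g * C.z * g⁻¹ ≠ Φ.u⁻¹ := by
  refine C.toLocJ.not_singular (inv_mem Φ.u_A) ?_ g
  intro h
  exact Φ.u_not_z (by simpa using inv_mem h)

end UFrame

namespace LocC

variable (C : LocC G)

/-- An element of `M` over `g1` carrying `t` to `σ` and back to `t σ`. -/
theorem exists_swap_gen {σ : G} (hσM : σ ∈ C.M) (hσσ : σ * σ = 1) (hσt : σ * C.t = C.t * σ)
    {g1 : ASix} (h3 : g1 ^ 3 = 1) (h1 : g1 * j0 * g1⁻¹ = C.θ ⟨σ, hσM⟩)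
    (h2 : g1⁻¹ * j0 * g1 = j0 * C.θ ⟨σ, hσM⟩) :
    ∃ m ∈ C.M, m * C.t * m⁻¹ = σ ∧ m * σ * m⁻¹ = C.t * σ ∧ m ^ 3 ^ 2 = 1 := by
  obtain ⟨m1, hm1⟩ := C.θ_surj g1
  set tM : C.M := ⟨C.t, C.t_M⟩
  set sM : C.M := ⟨σ, hσM⟩
  have hJ : ((sM⁻¹ * (m1 * tM * m1⁻¹) : C.M) : G) ∈ C.J :=
    C.toLocJ.θ_eq (m := sM) (m' := m1 * tM * m1⁻¹) (by
      rw [map_mul, map_mul, map_inv, hm1, C.θ_t, h1])
  set x := ((sM⁻¹ * (m1 * tM * m1⁻¹) : C.M) : G) with hx
  have hsx : σ * x = (m1 : G) * C.t * (m1 : G)⁻¹ := by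
    rw [hx]; push_cast; show σ * (σ⁻¹ * ((m1 : G) * C.t * (m1 : G)⁻¹)) = _
    rw [mul_inv_cancel_left]
  have hc := conj_involution_coset hσσ (C.J_exp x hJ) (by rw [hsx, conj_mul, C.t_sq]; group)
  set m2 := x⁻¹ * (m1 : G) with hm2
  have h2' : m2 * C.t * m2⁻¹ = σ := by
    calc m2 * C.t * m2⁻¹ = x⁻¹ * ((m1 : G) * C.t * (m1 : G)⁻¹) * x := by rw [hm2]; group
      _ = x⁻¹ * (x * σ * x⁻¹) * x := by rw [← hsx, hc]
      _ = σ := by group
  have hm2M : m2 ∈ C.M := mul_mem (inv_mem (C.toLoc.J_le_M hJ)) m1.2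
  set M2 : C.M := ⟨m2, hm2M⟩ with hM2
  have hθ2 : C.θ M2 = g1 := by
    rw [show M2 = (⟨x, C.toLoc.J_le_M hJ⟩ : C.M)⁻¹ * m1 from Subtype.ext rfl, map_mul, map_inv,
      (C.θ_ker _).2 hJ, inv_one, one_mul, hm1]
  have hJ2 : (((tM * sM)⁻¹ * (M2⁻¹ * tM * M2) : C.M) : G) ∈ C.J :=
    C.toLocJ.θ_eq (m := tM * sM) (m' := M2⁻¹ * tM * M2) (by
      rw [map_mul, map_mul, map_mul, map_inv, hθ2, C.θ_t, h2])
  set a := (((tM * sM)⁻¹ * (M2⁻¹ * tM * M2) : C.M) : G) with ha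
  have hta : C.t * σ * a = m2⁻¹ * C.t * m2 := by
    rw [ha]; push_cast
    show C.t * σ * ((C.t * σ)⁻¹ * (m2⁻¹ * C.t * m2)) = _
    rw [mul_inv_cancel_left]
  have hst : Commute σ C.t := hσt
  have hvt : C.t * (m2⁻¹ * C.t * m2) = m2⁻¹ * C.t * m2 * C.t := by
    have e1 : m2⁻¹ * σ * m2 = C.t := by rw [← h2']; group
    calc C.t * (m2⁻¹ * C.t * m2) = m2⁻¹ * σ * m2 * (m2⁻¹ * C.t * m2) := by rw [e1]
      _ = m2⁻¹ * (σ * C.t) * m2 := by group
      _ = m2⁻¹ * (C.t * σ) * m2 := by rw [hst.eq]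
      _ = m2⁻¹ * C.t * m2 * (m2⁻¹ * σ * m2) := by group
      _ = _ := by rw [e1]
  have hat : a * C.t = C.t * a := by
    have c1 : Commute C.t (C.t * σ) := (Commute.refl C.t).mul_right hst.symm
    have e1 : a = (C.t * σ)⁻¹ * (m2⁻¹ * C.t * m2) := by rw [← hta, inv_mul_cancel_left]
    rw [e1]
    exact (c1.inv_right.mul_right hvt).eq.symm
  have hts : (C.t * σ) * (C.t * σ) = 1 := by
    rw [hst.mul_mul_mul_comm, C.t_sq, hσσ, mul_one]
  have hc2 := conj_involution_coset hts (C.J_exp a hJ2) (by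
    rw [hta]
    calc m2⁻¹ * C.t * m2 * (m2⁻¹ * C.t * m2) = m2⁻¹ * (C.t * C.t) * m2 := by group
      _ = 1 := by rw [C.t_sq]; group)
  have e1 : m2 * a * C.t * (m2 * a)⁻¹ = σ := by
    calc m2 * a * C.t * (m2 * a)⁻¹ = m2 * (a * C.t * a⁻¹) * m2⁻¹ := by group
      _ = σ := by rw [hat, mul_inv_cancel_right, h2']
  have e2 : (m2 * a)⁻¹ * C.t * (m2 * a) = C.t * σ := by
    calc (m2 * a)⁻¹ * C.t * (m2 * a) = a⁻¹ * (m2⁻¹ * C.t * m2) * a := by group
      _ = a⁻¹ * (a * (C.t * σ) * a⁻¹) * a := by rw [← hta, hc2]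
      _ = C.t * σ := by group
  refine ⟨m2 * a, mul_mem hm2M (C.toLoc.J_le_M hJ2), e1, ?_, ?_⟩
  · have e3 : C.t = σ * (m2 * a * σ * (m2 * a)⁻¹) := by
      calc C.t = (m2 * a) * ((m2 * a)⁻¹ * C.t * (m2 * a)) * (m2 * a)⁻¹ := by group
        _ = (m2 * a) * (C.t * σ) * (m2 * a)⁻¹ := by rw [e2]
        _ = (m2 * a * C.t * (m2 * a)⁻¹) * (m2 * a * σ * (m2 * a)⁻¹) := by group
        _ = _ := by rw [e1]
    calc m2 * a * σ * (m2 * a)⁻¹ = σ * (σ * (m2 * a * σ * (m2 * a)⁻¹)) := by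
          rw [← mul_assoc σ σ, hσσ, one_mul]
      _ = σ * C.t := by rw [← e3]
      _ = C.t * σ := hst.eq
  · have hJ3 : ((m2 * a) ^ 3) ∈ C.J := by
      refine (C.θ_ker ((M2 * ⟨a, C.toLoc.J_le_M hJ2⟩) ^ 3)).1 ?_
      rw [map_pow, map_mul, hθ2, (C.θ_ker _).2 hJ2, mul_one, h3]
    rw [show 3 ^ 2 = 3 * 3 from rfl, pow_mul]
    exact C.J_exp _ hJ3

/-- Transport a frame so that the element of order three lies in `S`. -/
theorem exists_frame_conj {w σ : G} (hw : w = C.zz ∨ w = C.zz⁻¹) (hσM : σ ∈ C.M) (hσσ : σ * σ = 1)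
    (hσt : σ * C.t = C.t * σ) (hσz : σ * C.z * σ⁻¹ = w)
    {g1 : ASix} (h3 : g1 ^ 3 = 1) (h1 : g1 * j0 * g1⁻¹ = C.θ ⟨σ, hσM⟩)
    (h2 : g1⁻¹ * j0 * g1 = j0 * C.θ ⟨σ, hσM⟩) :
    ∃ Φ : UFrame C, ∃ n ∈ Subgroup.normalizer (C.J : Set G), n * Φ.u * n⁻¹ = C.z * w := by
  obtain ⟨m, hmM, hma, hmb, hm9⟩ := C.exists_swap_gen hσM hσσ hσt h3 h1 h2
  set u := C.z * w with hu
  have hwD : w ∈ C.FixD := by
    rcases hw with rfl | rfl
    · exact C.zz_D
    · exact inv_mem C.zz_D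
  have hwJ : w ∈ C.J := (C.mem_FixD.1 hwD).1
  have huJ : u ∈ C.J := mul_mem C.toLoc.z_J hwJ
  have hw3 : w ^ 3 = 1 := C.J_exp w hwJ
  have hwz : w ∉ Subgroup.zpowers C.z := by
    intro h
    rcases hw with rfl | rfl
    · exact C.zz_not_z h
    · exact C.zz_not_z (by simpa using inv_mem h)
  have hu1 : u ≠ 1 := fun h => hwz (by
    rw [show w = C.z⁻¹ from eq_inv_of_mul_eq_one_right h]
    exact inv_mem (Subgroup.mem_zpowers _))
  have hti : C.t⁻¹ = C.t := C.toLocT.t_inv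
  have hσi : σ⁻¹ = σ := inv_eq_of_mul_eq_one_right hσσ
  have hσw : σ * w * σ⁻¹ = C.z := by
    rw [← hσz, conj_conj, hσσ]; group
  have hau : C.t * u = u * C.t :=
    ((show Commute C.t C.z from C.toLocT.t_z).mul_right (C.D_comm_t hwD).symm).eq
  have hbu : σ * u = u * σ := by
    apply mul_inv_eq_iff_eq_mul.1
    rw [hu, ← conj_mul, hσz, hσw, C.J_comm _ hwJ _ C.toLoc.z_J]
  have heind : C.z ∉ Subgroup.zpowers u := by
    intro hz
    have hfix : σ * C.z * σ⁻¹ = C.z := by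
      obtain ⟨i, hi⟩ := hz
      simp only at hi
      rw [← hi, (show Commute σ u from hbu).zpow_right i, mul_inv_cancel_right]
    rw [hσz] at hfix
    exact hwz (hfix ▸ Subgroup.mem_zpowers _)
  -- `m` fixes `u`
  have hmu : m * u = u * m := by
    have hmN := C.M_norm hmM
    set x := m * u * m⁻¹ with hx
    have hxJ : x ∈ C.J := conj_mem_normalizer hmN huJ
    have hxb : σ * x * σ⁻¹ = x := by
      rw [hx, ← hma]
      calc m * C.t * m⁻¹ * (m * u * m⁻¹) * (m * C.t * m⁻¹)⁻¹ = m * (C.t * u * C.t⁻¹) * m⁻¹ := by group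
        _ = _ := by rw [hau, mul_inv_cancel_right]
    have hxts : (C.t * σ) * x * (C.t * σ)⁻¹ = x := by
      rw [hx, ← hmb]
      calc m * σ * m⁻¹ * (m * u * m⁻¹) * (m * σ * m⁻¹)⁻¹ = m * (σ * u * σ⁻¹) * m⁻¹ := by group
        _ = _ := by rw [hbu, mul_inv_cancel_right]
    have hxt : C.t * x * C.t⁻¹ = x := by
      rw [← conj_conj, hxb] at hxts; exact hxts
    obtain ⟨i, j, hij⟩ := C.D_form (C.mem_FixD.2 ⟨hxJ, mul_inv_eq_iff_eq_mul.1 hxt⟩)
    have hz : x ∈ Subgroup.zpowers u := by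
      have hzw : Commute C.z w := C.J_comm _ C.toLoc.z_J _ hwJ
      obtain ⟨j', hj'⟩ : ∃ j' : Fin 3, C.zz ^ (j : ℕ) = w ^ (j' : ℕ) := by
        rcases hw with rfl | rfl
        · exact ⟨j, rfl⟩
        · refine ⟨⟨2 * (j : ℕ) % 3, Nat.mod_lt _ (by norm_num)⟩, ?_⟩
          show C.zz ^ (j : ℕ) = C.zz⁻¹ ^ (2 * (j : ℕ) % 3)
          have h3z : C.zz ^ 3 = 1 := C.toLocH.zz_exp
          fin_cases j
          · simp
          · show C.zz ^ 1 = C.zz⁻¹ ^ 2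
            rw [pow_one, inv_pow, eq_comm, inv_eq_iff_mul_eq_one, ← pow_succ, h3z]
          · show C.zz ^ 2 = C.zz⁻¹ ^ 1
            rw [pow_one, eq_comm, inv_eq_iff_mul_eq_one, ← pow_succ', h3z]
      rw [hj'] at hij
      rw [hij, ← conj_mul, ← conj_pow, ← conj_pow, hσz, hσw, (hzw.pow_pow (j' : ℕ) (i : ℕ)).symm.eq] at hxb
      have hii : C.z ^ (i : ℕ) = C.z ^ (j' : ℕ) := by
        -- the two coordinates agree
        by_contra hne
        apply hwz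
        have h5 : w ^ (i : ℕ) * (w ^ (j' : ℕ))⁻¹ = (C.z ^ (j' : ℕ))⁻¹ * C.z ^ (i : ℕ) := by
          rw [eq_inv_mul_iff_mul_eq, ← mul_assoc, hxb, mul_inv_cancel_right]
        have hmem : w ^ (i : ℕ) * (w ^ (j' : ℕ))⁻¹ ∈ Subgroup.zpowers C.z := by
          rw [h5]; exact mul_mem (inv_mem (pow_mem (Subgroup.mem_zpowers _) _))
            (pow_mem (Subgroup.mem_zpowers _) _)
        have hne' : (i : ℕ) ≠ (j' : ℕ) := fun h => hne (by rw [h])
        fin_cases i <;> fin_cases j'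
        all_goals simp only [pow_zero, pow_one, inv_one, mul_one, one_mul] at hmem hne'
        · exact absurd rfl hne'
        · simpa using inv_mem hmem
        · rw [show (w ^ 2)⁻¹ = w from inv_eq_of_mul_eq_one_right (by rw [← pow_succ, hw3])] at hmem
          exact hmem
        · exact hmem
        · exact absurd rfl hne'
        · rw [show w * (w ^ 2)⁻¹ = w⁻¹ by group] at hmem
          simpa using inv_mem hmem
        · rw [show w ^ 2 = w⁻¹ from eq_inv_of_mul_eq_one_left (by rw [← pow_succ, hw3])] at hmem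
          simpa using inv_mem hmem
        · rw [show w ^ 2 * w⁻¹ = w by group] at hmem
          exact hmem
        · exact absurd rfl hne'
      rw [hij, hii, ← hzw.mul_pow, ← hu]
      exact pow_mem (Subgroup.mem_zpowers _) _
    exact zpowers_fix_three' (C.J_exp u huJ) hz hm9
  -- move `m` into `S`
  haveI : Fact (Nat.Prime 3) := ⟨Nat.prime_three⟩
  have hJp : IsPGroup 3 C.J := isPGroup_of_forall_pow (k := 1) (fun x hx => C.toLoc.three_pow_J hx)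
  have hmp : IsPGroup 3 (Subgroup.zpowers m) := isPGroup_of_forall_pow (k := 2) (fun x hx => by
    obtain ⟨i, rfl⟩ := hx
    rw [← zpow_natCast, ← zpow_mul, mul_comm, zpow_mul, zpow_natCast, hm9, one_zpow])
  obtain ⟨T, hT⟩ := (hmp.to_sup_of_normal_right' hJp
    (Subgroup.zpowers_le.2 (C.M_norm hmM))).exists_le_sylow
  obtain ⟨g, hg⟩ := MulAction.exists_smul_eq G C.S T
  have hTconj : ∀ x : G, x ∈ (T : Subgroup G) ↔ g⁻¹ * x * g ∈ (C.S : Subgroup G) := by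
    intro x
    rw [← hg, Sylow.coe_subgroup_smul, Subgroup.mem_pointwise_smul_iff_inv_smul_mem]
    simp [MulAut.smul_def]
  have hgN : g⁻¹ ∈ Subgroup.normalizer (C.J : Set G) := C.toLoc.norm_J_of_conj (fun a ha => by
    rw [inv_inv]
    exact (hTconj a).1 (hT (le_sup_right (a := Subgroup.zpowers m) ha)))
  have hgN' : g ∈ Subgroup.normalizer (C.J : Set G) := by simpa using inv_mem hgN
  let f : G ≃* G := MulAut.conj g⁻¹
  have hfM : ∀ x ∈ C.M, f x ∈ C.M := fun x hx => C.M_conj g⁻¹ hgN x hx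
  have hfJ : ∀ x ∈ C.J, f x ∈ C.J := fun x hx => conj_mem_normalizer hgN hx
  have hfN : ∀ x ∈ Subgroup.normalizer (C.J : Set G), f x ∈ Subgroup.normalizer (C.J : Set G) :=
    fun x hx => mul_mem (mul_mem hgN hx) (inv_mem hgN)
  have hfcomm : ∀ x y, x * y = y * x → f x * f y = f y * f x := fun x y h => by
    rw [← map_mul, ← map_mul, h]
  have hfconj : ∀ x y r, x * y * x⁻¹ = r → f x * f y * (f x)⁻¹ = f r := fun x y r h => by
    rw [← map_inv, ← map_mul, ← map_mul, h]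
  refine ⟨{
    u := f u, a := f C.t, b := f σ, e := f C.z, m := f m, k := f C.h
    u_J := hfJ u huJ
    u_ne := fun h => hu1 (f.map_eq_one_iff.1 h)
    a_M := hfM _ C.t_M
    b_M := hfM _ hσM
    a_sq := by rw [← map_mul, C.t_sq, map_one]
    b_sq := by rw [← map_mul, hσσ, map_one]
    a_b := hfcomm _ _ hσt.symm
    m_S := ?_
    m_a := hfconj _ _ _ hma
    m_b := (hfconj _ _ _ hmb).trans (map_mul f _ _)
    a_u := hfcomm _ _ hau
    b_u := hfcomm _ _ hbu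
    m_u := hfcomm _ _ hmu
    a_e := hfcomm _ _ C.toLocT.t_z
    b_e := ?_
    e_sing := ⟨g⁻¹, hgN, rfl⟩
    e_ind := ?_
    k_N := hfN _ (C.M_norm C.h_M)
    k_e := (hfconj _ _ _ C.h_z).trans (map_inv f _)
    k_u := ?_
    cent_e := ?_ }, g, hgN', ?_⟩
  · show g⁻¹ * m * g⁻¹⁻¹ ∈ (C.S : Subgroup G)
    rw [inv_inv]
    exact (hTconj m).1 (hT (le_sup_left (b := C.J) (Subgroup.mem_zpowers m)))
  · rw [hfconj _ _ _ hσz, ← map_inv, ← map_mul]
    congr 1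
    rw [hu, inv_mul_cancel_left]
  · intro h
    apply heind
    obtain ⟨i, hi⟩ := h
    simp only at hi
    rw [← map_zpow] at hi
    exact ⟨i, f.injective hi⟩
  · refine (hfconj _ _ (u⁻¹) ?_).trans (map_inv f _)
    rw [hu, ← conj_mul, C.h_z]
    have hhw : C.h * w * C.h⁻¹ = w⁻¹ := by
      rcases hw with rfl | rfl
      · exact C.h_zz
      · rw [← conj_inv, C.h_zz]
    rw [hhw, mul_inv_rev]
    exact C.J_comm _ (inv_mem C.toLoc.z_J) _ (inv_mem hwJ)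
  · intro x hx hxu
    set x' := f.symm x with hx'
    have hxx : x = f x' := (f.apply_symm_apply x).symm
    have hxz : x' * C.z = C.z * x' := by
      apply f.injective
      rw [map_mul, map_mul, ← hxx]; exact hx
    have hxu' : x' * u * x'⁻¹ = u ∨ x' * u * x'⁻¹ = u⁻¹ := by
      rcases hxu with h | h
      · left; apply f.injective; rw [map_mul, map_mul, map_inv, ← hxx]; exact h
      · right; apply f.injective; rw [map_mul, map_mul, map_inv, map_inv, ← hxx]; exact h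
    have hzz : x' * C.zz * x'⁻¹ ∈ C.J := by
      have hxw : x' * w * x'⁻¹ ∈ C.J := by
        have e : x' * w * x'⁻¹ = C.z⁻¹ * (x' * u * x'⁻¹) := by
          rw [hu, ← conj_mul, hxz, mul_inv_cancel_right, inv_mul_cancel_left]
        rw [e]
        rcases hxu' with h | h <;> rw [h]
        · exact mul_mem (inv_mem C.toLoc.z_J) huJ
        · exact mul_mem (inv_mem C.toLoc.z_J) (inv_mem huJ)
      rcases hw with rfl | rfl
      · exact hxw
      · rw [← inv_inv (x' * C.zz * x'⁻¹), conj_inv]; exact inv_mem hxw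
    rw [hxx]
    exact hfN x' (C.k_norm_J hxz hzz)
  · show g * (g⁻¹ * u * g⁻¹⁻¹) * g⁻¹ = u
    group
where
  zpowers_fix_three' {u g : G} (hu : u ^ 3 = 1) (hg : g * u * g⁻¹ ∈ Subgroup.zpowers u)
      {k : ℕ} (hk : g ^ 3 ^ k = 1) : g * u = u * g := by
    rcases zpow_mem_of_three hu hg with h | h | h
    · have : u = 1 := conj_eq_one_iff.1 h
      rw [this, mul_one, one_mul]
    · exact mul_inv_eq_iff_eq_mul.1 h
    · have hinv : g * u * g⁻¹ = u⁻¹ := by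
        rw [h]; exact eq_inv_of_mul_eq_one_left (by rw [← pow_succ, hu])
      have hiter : ∀ n : ℕ, g ^ n * u * (g ^ n)⁻¹ = if n % 2 = 0 then u else u⁻¹ := by
        intro n
        induction n with
        | zero => simp
        | succ n ih =>
          rw [pow_succ', ← conj_conj, ih]
          rcases Nat.mod_two_eq_zero_or_one n with h' | h'
          · rw [if_pos h', if_neg (by omega), hinv]
          · rw [if_neg (by omega), if_pos (by omega), ← conj_inv, hinv, inv_inv]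
      have h3 := hiter (3 ^ k)
      have hodd : (3 : ℕ) ^ k % 2 = 1 := Nat.odd_iff.1 (Odd.pow (by decide))
      rw [hk, if_neg (by omega), one_mul, inv_one, mul_one] at h3
      have hu1 : u = 1 := eq_one_of_pow_coprime
        (by rw [pow_two]; exact mul_eq_one_iff_eq_inv.2 h3) hu (by norm_num)
      rw [hu1, mul_one, one_mul]

/-- Frames at `y` and at `y'`. -/
theorem exists_frames :
    (∃ Φ : UFrame C, ∃ n ∈ Subgroup.normalizer (C.J : Set G), n * Φ.u * n⁻¹ = C.y) ∧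
      ∃ Φ : UFrame C, ∃ n ∈ Subgroup.normalizer (C.J : Set G), n * Φ.u * n⁻¹ = C.y' := by
  constructor
  · exact C.exists_frame_conj (w := C.zz) (σ := C.s) (Or.inl rfl) C.s_M C.s_sq C.s_t rfl g0_frame.1
      (by rw [C.θ_s]; exact g0_frame.2.1) (by rw [C.θ_s]; exact g0_frame.2.2)
  · obtain ⟨g1, h3, h1, h2⟩ := exists_g1
    have hθ : C.θ ⟨C.s * C.h, mul_mem C.s_M C.h_M⟩ = s0 * h0 := by
      rw [← C.θ_s, ← C.θ_h, ← map_mul]; rfl
    refine C.exists_frame_conj (w := C.zz⁻¹) (σ := C.s * C.h) (Or.inr rfl) (mul_mem C.s_M C.h_M)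
      ?_ ?_ ?_ h3 (by rw [hθ]; exact h1) (by rw [hθ]; exact h2)
    · have e : C.s * C.h * (C.s * C.h) = (C.s * C.h * C.s⁻¹) * (C.s * C.s) * C.h := by group
      rw [e, C.s_h, C.s_sq, mul_one, inv_mul_cancel]
    · exact ((show Commute C.s C.t from C.s_t).mul_left C.toLocH.h_t).eq
    · rw [← conj_conj, C.h_z, ← conj_inv]
      rfl

end LocC

end Cfsg.Lib.McLThree
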