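import Cfsg.Agent.Lib.McLThree.UCoord
import Cfsg.Agent.Lib.McLThree.SmallNine
import Cfsg.Agent.S3343
import Cfsg.Agent.S3376

/-!
The centraliser of a point of the second kind normalises `J`.
-/

set_option autoImplicit false
set_option linter.style.haveILetI false
set_option linter.unusedSectionVars false

namespace Cfsg.Lib.McLThree

open Cfsg.Lib.AltEightThree (mem_cent_singleton conj_mem_normalizer mem_normalizer_of_forall)

universe v

variable {G : Type v} [Group G] [Finite G]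

namespace UFrame

variable {C : LocC G} {Φ : UFrame C}

namespace Top

variable (W : Φ.Top)

theorem u_R : Φ.u ∈ W.R := W.cent_le _ rfl

theorem T_R {x : G} (hx : x ∈ Φ.T) : x ∈ W.R := W.cent_le x (Φ.mem_T.1 hx).2

theorem J_R {x : G} (hx : x ∈ C.J) : x ∈ W.R := W.T_R (Φ.J_le_T hx)

theorem a_R : Φ.a ∈ W.R := W.cent_le _ Φ.a_u

theorem b_R : Φ.b ∈ W.R := W.cent_le _ Φ.b_u

theorem m_R : Φ.m ∈ W.R := W.cent_le _ Φ.m_u

theorem z_R : C.z ∈ W.R := W.T_R Φ.z_T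

/-- The point inside the group. -/
abbrev Nu : Subgroup W.R := (Subgroup.zpowers Φ.u).subgroupOf W.R

instance : W.Nu.Normal := by
  refine ⟨fun x hx g => ?_⟩
  rw [Subgroup.mem_subgroupOf] at hx ⊢
  obtain ⟨i, hi⟩ := hx
  simp only at hi
  push_cast
  rw [← hi, ← conj_zpow]
  rcases W.R_pm g g.2 with h | h <;> rw [h]
  · exact zpow_mem (Subgroup.mem_zpowers _) i
  · exact zpow_mem (inv_mem (Subgroup.mem_zpowers _)) i

/-- The quotient by the point. -/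
abbrev Qt := W.R ⧸ W.Nu

/-- The projection. -/
def π : W.R →* W.Qt := QuotientGroup.mk' W.Nu

theorem π_surj : Function.Surjective W.π := QuotientGroup.mk'_surjective _

theorem π_eq_one (x : W.R) : W.π x = 1 ↔ (x : G) ∈ Subgroup.zpowers Φ.u := by
  rw [π, QuotientGroup.mk'_apply, QuotientGroup.eq_one_iff, Subgroup.mem_subgroupOf]

theorem π_comm (x y : W.R) :
    W.π x * W.π y = W.π y * W.π x ↔ (x : G) * y * (x : G)⁻¹ * (y : G)⁻¹ ∈ Subgroup.zpowers Φ.u := by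
  rw [← mul_inv_eq_iff_eq_mul, ← mul_inv_eq_one, ← map_inv, ← map_inv, ← map_mul, ← map_mul,
    ← map_mul, π_eq_one]
  rfl

/-- The image of a subgroup. -/
def sub (H : Subgroup G) : Subgroup W.Qt := (H.subgroupOf W.R).map W.π

theorem mem_sub {H : Subgroup G} {g : W.Qt} :
    g ∈ W.sub H ↔ ∃ x ∈ H, ∃ hx : x ∈ W.R, W.π ⟨x, hx⟩ = g := by
  constructor
  · rintro ⟨x, hx, rfl⟩; exact ⟨x, hx, x.2, rfl⟩
  · rintro ⟨x, hx, hxR, rfl⟩; exact ⟨⟨x, hxR⟩, hx, rfl⟩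

theorem card_sub {H : Subgroup G} (hHR : H ≤ W.R) (hu : Φ.u ∈ H) :
    Nat.card (W.sub H) * 3 = Nat.card H := by
  set f := W.π.comp (H.subgroupOf W.R).subtype with hf
  have h1 := f.ker.card_mul_index
  rw [Subgroup.index_ker] at h1
  have hr : f.range = W.sub H := by rw [hf, MonoidHom.range_comp, Subgroup.range_subtype]; rfl
  have hk : Nat.card f.ker = 3 := by
    rw [← orderOf_eq_prime Φ.u_exp Φ.u_ne, ← Nat.card_zpowers]
    refine Nat.card_congr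
      { toFun := fun x => ⟨((x : H.subgroupOf W.R) : W.R), (W.π_eq_one _).1 x.2⟩
        invFun := fun x => ⟨⟨⟨(x : G), hHR ((Subgroup.zpowers_le.2 hu) x.2)⟩,
          (Subgroup.zpowers_le.2 hu) x.2⟩, (W.π_eq_one _).2 x.2⟩
        left_inv := fun x => rfl
        right_inv := fun x => rfl }
  rw [hk, hr, Nat.card_congr (Subgroup.subgroupOfEquivOfLe hHR).toEquiv] at h1
  rw [← h1, mul_comm]

/-- The image of `z`. -/
def zbar : W.Qt := W.π ⟨C.z, W.z_R⟩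

theorem order_zbar : orderOf W.zbar = 3 := by
  refine orderOf_eq_prime ?_ ?_
  · rw [zbar, ← map_pow, show (⟨C.z, W.z_R⟩ : W.R) ^ 3 = 1 from Subtype.ext C.z_exp, map_one]
  · rw [zbar, Ne, π_eq_one]; exact Φ.z_not_u

/-- The part fixing `z`. -/
abbrev Kz : Subgroup G := W.R ⊓ Subgroup.centralizer ({C.z} : Set G)

theorem mem_Kz {g : G} : g ∈ W.Kz ↔ g ∈ W.R ∧ g * C.z = C.z * g := by
  rw [Subgroup.mem_inf, mem_cent_singleton]

theorem T_Kz : Φ.T ≤ W.Kz := fun x hx => W.mem_Kz.2 ⟨W.T_R hx, Φ.T_z hx⟩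

theorem τ_conj_T {x : G} (hx : x ∈ Φ.T) : W.τ * x * W.τ ∈ Φ.T := by
  have hK : W.τ * x * W.τ ∈ W.Kz :=
    mul_mem (mul_mem (W.mem_Kz.2 ⟨W.τ_R, W.τ_z⟩) (W.T_Kz hx)) (W.mem_Kz.2 ⟨W.τ_R, W.τ_z⟩)
  obtain ⟨hR, hz⟩ := W.mem_Kz.1 hK
  rcases W.R_z _ hR hz with h | h
  · exact h
  · exfalso
    rw [← mul_assoc, ← mul_assoc, W.τ_sq, one_mul] at h
    exact W.τ_notT ((Subgroup.mul_mem_cancel_left _ hx).1 h)

theorem card_Kz : Nat.card W.Kz = 486 := by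
  have h2 : (Φ.T.subgroupOf W.Kz).index = 2 := by
    rw [Subgroup.index_eq_two_iff']
    refine ⟨⟨W.τ, W.mem_Kz.2 ⟨W.τ_R, W.τ_z⟩⟩, fun g => ?_⟩
    simp only [Subgroup.mem_subgroupOf]
    push_cast
    obtain ⟨hR, hz⟩ := W.mem_Kz.1 g.2
    rcases W.R_z _ hR hz with h | h
    · exact Or.inr ⟨h, fun h' => W.τ_notT ((Subgroup.mul_mem_cancel_right _ h).1 h')⟩
    · exact Or.inl ⟨h, fun h' => W.τ_notT ((Subgroup.mul_mem_cancel_right _ h').1 h)⟩
  have h := (Φ.T.subgroupOf W.Kz).card_mul_index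
  rw [h2, Nat.card_congr (Subgroup.subgroupOfEquivOfLe W.T_Kz).toEquiv, Φ.card_T] at h
  exact h.symm

theorem norm_J {g : G} (hg : g ∈ W.Kz) : g ∈ Subgroup.normalizer (C.J : Set G) := by
  have hT : ∀ x ∈ Φ.T, x ∈ Subgroup.normalizer (C.J : Set G) :=
    fun x hx => C.toLoc.S_norm (Φ.mem_T.1 hx).1
  have hτi : W.τ⁻¹ = W.τ := inv_eq_of_mul_eq_one_right W.τ_sq
  have hτ : W.τ ∈ Subgroup.normalizer (C.J : Set G) := C.toLoc.norm_J_of_conj (fun j hj => by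
    rw [hτi]; exact (Φ.mem_T.1 (W.τ_conj_T (Φ.J_le_T hj))).1)
  obtain ⟨hR, hz⟩ := W.mem_Kz.1 hg
  rcases W.R_z g hR hz with h | h
  · exact hT g h
  · have h1 := mul_mem hτ (hT _ h)
    rwa [← mul_assoc, W.τ_sq, one_mul] at h1

theorem cent_zbar : Subgroup.centralizer ({W.zbar} : Set W.Qt) = W.sub W.Kz := by
  ext g
  rw [mem_sub, mem_cent_singleton]
  constructor
  · intro h
    obtain ⟨x, rfl⟩ := W.π_surj g
    exact ⟨x, W.mem_Kz.2 ⟨x.2, Φ.cent_z_coset ((W.π_comm x _).1 h)⟩, x.2, rfl⟩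
  · rintro ⟨x, hx, hxR, rfl⟩
    refine (W.π_comm _ _).2 ?_
    show x * C.z * x⁻¹ * C.z⁻¹ ∈ Subgroup.zpowers Φ.u
    rw [(W.mem_Kz.1 hx).2, mul_inv_cancel_right, mul_inv_cancel]
    exact one_mem _

theorem card_cent_zbar : Nat.card (Subgroup.centralizer ({W.zbar} : Set W.Qt)) = 162 := by
  have h := W.card_sub (H := W.Kz) inf_le_left (W.T_Kz (Φ.J_le_T Φ.u_J))
  rw [W.card_Kz] at h
  rw [W.cent_zbar]
  omega

theorem card_subJ : Nat.card (W.sub C.J) = 27 := by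
  have h := W.card_sub (H := C.J) (fun x hx => W.J_R hx) Φ.u_J
  rw [C.J_card] at h
  omega

theorem subJ_le : W.sub C.J ≤ Subgroup.centralizer ({W.zbar} : Set W.Qt) := by
  rw [W.cent_zbar]
  exact Subgroup.map_mono (Subgroup.comap_mono (Φ.J_le_T.trans W.T_Kz))

theorem subJ_comm : IsMulCommutative (W.sub C.J) := by
  refine ⟨⟨fun a b => Subtype.ext ?_⟩⟩
  obtain ⟨x, hx, hxR, hxa⟩ := W.mem_sub.1 a.2
  obtain ⟨y, hy, hyR, hyb⟩ := W.mem_sub.1 b.2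
  push_cast
  rw [← hxa, ← hyb, ← map_mul, ← map_mul]
  exact congrArg W.π (Subtype.ext (C.J_comm x hx y hy))

theorem subJ_exp : ∀ j ∈ W.sub C.J, j ^ 3 = 1 := by
  intro j hj
  obtain ⟨x, hx, hxR, rfl⟩ := W.mem_sub.1 hj
  rw [← map_pow, show (⟨x, hxR⟩ : W.R) ^ 3 = 1 from Subtype.ext (C.J_exp x hx), map_one]

theorem exists_eC : Nonempty (Subgroup.centralizer ({W.zbar} : Set W.Qt) ≃*
    Subgroup.centralizer ({Equiv.swap (0 : Fin 9) 1 * Equiv.swap 1 2 * Equiv.swap 3 4 *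
      Equiv.swap 4 5 * Equiv.swap 6 7 * Equiv.swap 7 8} : Set (Equiv.Perm (Fin 9)))) := by
  classical
  haveI : Fact (Nat.Prime 3) := ⟨Nat.prime_three⟩
  haveI : Fact (Nat.Prime 2) := ⟨Nat.prime_two⟩
  set Cz := Subgroup.centralizer ({W.zbar} : Set W.Qt) with hCz
  have hTC : W.sub Φ.T ≤ Cz := by
    rw [hCz, W.cent_zbar]; exact Subgroup.map_mono (Subgroup.comap_mono W.T_Kz)
  have hTcard : Nat.card ((W.sub Φ.T).subgroupOf Cz) = 81 := by
    have h := W.card_sub (H := Φ.T) (fun x hx => W.T_R hx) (Φ.J_le_T Φ.u_J)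
    rw [Φ.card_T] at h
    rw [Nat.card_congr (Subgroup.subgroupOfEquivOfLe hTC).toEquiv]
    omega
  -- the Sylow 3-subgroup
  obtain ⟨S, hS⟩ := (IsPGroup.of_card (p := 3) (n := 4) (by rw [hTcard]; norm_num) :
    IsPGroup 3 ((W.sub Φ.T).subgroupOf Cz)).exists_le_sylow
  have hSeq : (W.sub Φ.T).subgroupOf Cz = (S : Subgroup Cz) := by
    refine Subgroup.eq_of_le_of_card_ge hS ?_
    rw [hTcard]
    obtain ⟨k, hk⟩ := IsPGroup.iff_card.1 S.isPGroup'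
    have h1 := Subgroup.card_subgroup_dvd_card (S : Subgroup Cz)
    rw [W.card_cent_zbar, hk] at h1
    rw [hk]
    have hk4 : k ≤ 4 := by
      by_contra hlt
      have := (pow_dvd_pow 3 (show 5 ≤ k by omega)).trans h1
      norm_num at this
    calc 3 ^ k ≤ 3 ^ 4 := Nat.pow_le_pow_right (by norm_num) hk4
      _ = 81 := by norm_num
  -- the Sylow 2-subgroup
  have hτK : W.π ⟨W.τ, W.τ_R⟩ ∈ Cz := by
    rw [hCz, W.cent_zbar]
    exact W.mem_sub.2 ⟨W.τ, W.mem_Kz.2 ⟨W.τ_R, W.τ_z⟩, W.τ_R, rfl⟩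
  set τc : Cz := ⟨_, hτK⟩ with hτc
  have hτ2 : orderOf τc = 2 := by
    refine orderOf_eq_prime (Subtype.ext ?_) (fun h => W.τ_notT ?_)
    · push_cast
      rw [← map_pow, show (⟨W.τ, W.τ_R⟩ : W.R) ^ 2 = 1 from
        Subtype.ext (by push_cast; rw [pow_two, W.τ_sq]), map_one]
    · have h' : W.π ⟨W.τ, W.τ_R⟩ = 1 := congrArg Subtype.val h
      exact Φ.J_le_T ((Subgroup.zpowers_le.2 Φ.u_J) ((W.π_eq_one _).1 h'))
  obtain ⟨T₂, hT₂⟩ := (IsPGroup.of_card (p := 2) (n := 1) (by rw [Nat.card_zpowers, hτ2]; norm_num) :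
    IsPGroup 2 (Subgroup.zpowers τc)).exists_le_sylow
  -- the normal subgroup
  haveI hJn : ((W.sub C.J).subgroupOf Cz).Normal := by
    refine ⟨fun n hn g => ?_⟩
    rw [Subgroup.mem_subgroupOf] at hn ⊢
    push_cast
    have hg := g.2
    simp only [hCz, W.cent_zbar] at hg
    obtain ⟨x, hx, hxR, hxg⟩ := W.mem_sub.1 hg
    obtain ⟨y, hy, hyR, hyn⟩ := W.mem_sub.1 hn
    rw [← hxg, ← hyn, ← map_inv, ← map_mul, ← map_mul]
    exact W.mem_sub.2 ⟨x * y * x⁻¹, conj_mem_normalizer (W.norm_J hx) hy,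
      mul_mem (mul_mem hxR hyR) (inv_mem hxR), rfl⟩
  have hzC : W.zbar ∈ Cz := by rw [hCz, mem_cent_singleton]
  set zc : Cz := ⟨W.zbar, hzC⟩ with hzc
  have hzcentral : ∀ g : Cz, g * zc = zc * g := fun g => Subtype.ext (mem_cent_singleton.1 g.2)
  have hzS : zc ∈ (S : Subgroup Cz) := by
    rw [← hSeq, Subgroup.mem_subgroupOf]
    exact W.mem_sub.2 ⟨C.z, Φ.z_T, W.z_R, rfl⟩
  have hZ : (S : Subgroup Cz) ⊓ Subgroup.centralizer ((S : Subgroup Cz) : Set Cz) =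
      Subgroup.zpowers zc := by
    apply le_antisymm
    · intro g hg
      obtain ⟨hgS, hgc⟩ := Subgroup.mem_inf.1 hg
      rw [← hSeq, Subgroup.mem_subgroupOf] at hgS
      obtain ⟨x, hx, hxR, hxg⟩ := W.mem_sub.1 hgS
      have hcen : ∀ y ∈ Φ.T, x * y * x⁻¹ * y⁻¹ ∈ Subgroup.zpowers Φ.u := by
        intro y hy
        have hyC : W.π ⟨y, W.T_R hy⟩ ∈ Cz := hTC (W.mem_sub.2 ⟨y, hy, W.T_R hy, rfl⟩)
        have hyS : (⟨_, hyC⟩ : Cz) ∈ (S : Subgroup Cz) := by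
          rw [← hSeq, Subgroup.mem_subgroupOf]
          exact W.mem_sub.2 ⟨y, hy, W.T_R hy, rfl⟩
        have h := congrArg Subtype.val (Subgroup.mem_centralizer_iff.1 hgc _ hyS)
        push_cast at h
        rw [← hxg] at h
        exact (W.π_comm ⟨x, hxR⟩ ⟨y, W.T_R hy⟩).1 h.symm
      have hmem := Φ.T_centre hx hcen
      have hle : Subgroup.zpowers Φ.u ≤ Subgroup.normalizer (Subgroup.zpowers C.z : Set G) :=
        Subgroup.zpowers_le.2 (Cfsg.Lib.AltEightThree.mem_normalizer_of_cent Φ.u_z)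
      obtain ⟨a, ⟨i, rfl⟩, w, hw, rfl⟩ := Cfsg.Lib.Coprime.exists_mul_of_mem_sup hle hmem
      refine ⟨i, Subtype.ext ?_⟩
      push_cast
      rw [← hxg]
      have hwR : w ∈ W.R := (Subgroup.zpowers_le.2 W.u_R) hw
      rw [show (⟨C.z ^ i * w, hxR⟩ : W.R) = ⟨C.z, W.z_R⟩ ^ i * ⟨w, hwR⟩ from
        Subtype.ext (by push_cast; rfl), map_mul, map_zpow, (W.π_eq_one ⟨w, hwR⟩).2 hw, mul_one]
      rfl
    · refine Subgroup.zpowers_le.2 ⟨hzS, Subgroup.mem_centralizer_iff.2 (fun g _ => hzcentral g)⟩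
  refine Cfsg.Agent.S3376.result (G := Cz) W.card_cent_zbar S T₂ ((W.sub C.J).subgroupOf Cz) ?_ ?_ ?_
    _ hZ.symm ?_ ?_ ?_
  · haveI := W.subJ_comm
    infer_instance
  · intro a ha
    exact Subtype.ext (W.subJ_exp _ (Subgroup.mem_subgroupOf.1 ha))
  · rw [Nat.card_congr (Subgroup.subgroupOfEquivOfLe W.subJ_le).toEquiv, W.card_subJ]
  · rw [Nat.card_zpowers]
    exact (Subgroup.orderOf_coe zc).symm.trans W.order_zbar
  · refine Subgroup.zpowers_le.2 (Subgroup.mem_centralizer_iff.2 (fun g _ => hzcentral g))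
  · intro h
    apply W.τ_notT
    refine W.R_mod _ W.τ_R W.τ_z (fun j hj => ?_)
    have hjC : W.π ⟨j, W.J_R hj⟩ ∈ Cz := W.subJ_le (W.mem_sub.2 ⟨j, hj, W.J_R hj, rfl⟩)
    have hjS : (⟨_, hjC⟩ : Cz) ∈ (S : Subgroup Cz) := by
      rw [← hSeq, Subgroup.mem_subgroupOf]
      exact W.mem_sub.2 ⟨j, Φ.J_le_T hj, W.J_R hj, rfl⟩
    rw [← h] at hjS
    have h1 := congrArg Subtype.val
      (Subgroup.mem_centralizer_iff.1 hjS.2 τc (hT₂ (Subgroup.mem_zpowers τc)))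
    push_cast at h1
    exact (W.π_comm ⟨W.τ, W.τ_R⟩ ⟨j, W.J_R hj⟩).1 h1

theorem no_invariant (K : Subgroup W.Qt) (hK : (Nat.card K).Coprime 3)
    (hinv : ∀ j ∈ W.sub C.J, K.map (MulAut.conj j).toMonoidHom = K) : K = ⊥ := by
  set K₁ := (K.comap W.π).map W.R.subtype with hK₁
  have hK₁R : K₁ ≤ W.R := Subgroup.map_subtype_le _
  have hmem : ∀ x : W.R, (x : G) ∈ K₁ ↔ W.π x ∈ K := by
    intro x
    constructor
    · rintro ⟨y, hy, hyx⟩
      rwa [← Subtype.ext hyx]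
    · intro h; exact ⟨x, h, rfl⟩
  have huK₁ : Φ.u ∈ K₁ := (hmem ⟨Φ.u, W.u_R⟩).2 (by
    rw [(W.π_eq_one _).2 (Subgroup.mem_zpowers _)]; exact one_mem _)
  have hsubK : W.sub K₁ = K := by
    apply le_antisymm
    · intro g hg
      obtain ⟨x, hx, hxR, rfl⟩ := W.mem_sub.1 hg
      exact (hmem ⟨x, hxR⟩).1 hx
    · intro g hg
      obtain ⟨x, rfl⟩ := W.π_surj g
      exact W.mem_sub.2 ⟨x, (hmem x).2 hg, x.2, rfl⟩
  have hcard₁ : Nat.card K * 3 = Nat.card K₁ := by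
    rw [← hsubK]; exact W.card_sub hK₁R huK₁
  have hJK : ∀ j ∈ C.J, ∀ x ∈ K₁, j * x * j⁻¹ ∈ K₁ := by
    intro j hj x hx
    have hxR := hK₁R hx
    refine (hmem ⟨_, mul_mem (mul_mem (W.J_R hj) hxR) (inv_mem (W.J_R hj))⟩).2 ?_
    have h1 := hinv _ (W.mem_sub.2 ⟨j, hj, W.J_R hj, rfl⟩)
    rw [← h1]
    refine ⟨W.π ⟨x, hxR⟩, (hmem ⟨x, hxR⟩).1 hx, ?_⟩
    show W.π ⟨j, W.J_R hj⟩ * W.π ⟨x, hxR⟩ * (W.π ⟨j, W.J_R hj⟩)⁻¹ = _
    rw [← map_inv, ← map_mul, ← map_mul]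
    rfl
  set K₀ := K₁ ⊓ Subgroup.centralizer ({Φ.u} : Set G) with hK₀
  set N := (Subgroup.zpowers Φ.u).subgroupOf K₀ with hN
  have huK₀ : Φ.u ∈ K₀ := ⟨huK₁, mem_cent_singleton.2 rfl⟩
  haveI : N.Normal := by
    refine ⟨fun x hx g => ?_⟩
    rw [hN, Subgroup.mem_subgroupOf] at hx ⊢
    push_cast
    obtain ⟨i, hi⟩ := hx
    simp only at hi
    rw [← hi, ((show Commute (g : G) Φ.u from mem_cent_singleton.1 g.2.2).zpow_right i).eq,
      mul_inv_cancel_right]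
    exact zpow_mem (Subgroup.mem_zpowers _) i
  have hNcard : Nat.card N = 3 := by
    rw [Nat.card_congr (Subgroup.subgroupOfEquivOfLe (Subgroup.zpowers_le.2 huK₀)).toEquiv,
      Nat.card_zpowers]
    exact orderOf_eq_prime Φ.u_exp Φ.u_ne
  have hidx : N.index ∣ Nat.card K := by
    have h1 := N.card_mul_index
    rw [hNcard] at h1
    have h2 := Subgroup.card_dvd_of_le (inf_le_left : K₀ ≤ K₁)
    rw [← hcard₁, ← h1, mul_comm (Nat.card K)] at h2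
    exact Nat.dvd_of_mul_dvd_mul_left (by norm_num) h2
  have hn : N.index.Coprime 3 := hK.coprime_dvd_left hidx
  obtain ⟨H₀, hH₀⟩ := Subgroup.exists_right_complement'_of_coprime
    (N := N) (by rw [hNcard]; exact hn.symm)
  have hH₀card : Nat.card H₀ = N.index := by
    have h1 := hH₀.card_mul_card
    rw [← N.card_mul_index, hNcard] at h1
    exact Nat.eq_of_mul_eq_mul_left (by norm_num) h1
  set H := H₀.map K₀.subtype with hH
  have hHcard : Nat.card H = N.index := by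
    rw [hH, Subgroup.card_map_of_injective K₀.subtype_injective, hH₀card]
  have hHmem : ∀ x ∈ K₀, x ^ N.index = 1 → x ∈ H := by
    intro x hx hxn
    obtain ⟨⟨⟨w, hw⟩, ⟨y, hy⟩⟩, hwy⟩ := (Subgroup.isComplement'_def.1 hH₀).2 ⟨x, hx⟩
    have hwy' : (w : G) * (y : G) = x := congrArg Subtype.val hwy
    have hyn : (y : G) ^ N.index = 1 := by
      have h1 := congrArg (fun g : H₀ => ((g : K₀) : G)) (pow_card_eq_one' (x := (⟨y, hy⟩ : H₀)))
      rwa [hH₀card] at h1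
    have hwu : (w : G) ∈ Subgroup.zpowers Φ.u := Subgroup.mem_subgroupOf.1 hw
    have hcomm : Commute (w : G) (y : G) := by
      obtain ⟨i, hi⟩ := hwu
      simp only at hi
      rw [← hi]
      exact ((show Commute (y : G) Φ.u from mem_cent_singleton.1 y.2.2).zpow_right i).symm
    have hwn : (w : G) ^ N.index = 1 := by
      rw [← hwy', hcomm.mul_pow, hyn, mul_one] at hxn
      exact hxn
    have hw1 : (w : G) = 1 := eq_one_of_pow_coprime hwn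
      (C.J_exp _ ((Subgroup.zpowers_le.2 Φ.u_J) hwu)) hn
    rw [hw1, one_mul] at hwy'
    rw [← hwy']
    exact ⟨y, hy, rfl⟩
  have hHle : H ≤ K₀ := Subgroup.map_subtype_le _
  have hbot : H = ⊥ := by
    refine Φ.invariant_trivial (by rw [hHcard]; exact hn) ?_
      (fun r hr => mem_cent_singleton.1 (hHle hr).2)
    intro j hj r hr
    refine hHmem _ ⟨hJK j hj r (hHle hr).1, ?_⟩ ?_
    · have hju : Commute j Φ.u := C.J_comm _ hj _ Φ.u_J
      exact mem_cent_singleton.2 ((hju.mul_left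
        (show Commute r Φ.u from mem_cent_singleton.1 (hHle hr).2)).mul_left hju.inv_left).eq
    · have h1 := congrArg (fun g : H => (g : G)) (pow_card_eq_one' (x := (⟨r, hr⟩ : H)))
      rw [hHcard] at h1
      simp only [SubmonoidClass.coe_pow, OneMemClass.coe_one] at h1
      rw [conj_pow, h1, mul_one, mul_inv_cancel]
  have hN1 : N.index = 1 := by rw [← hHcard, hbot, Subgroup.card_bot]
  have hK₀u : ∀ x ∈ K₀, x ∈ Subgroup.zpowers Φ.u := fun x hx => by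
    have hx' : (⟨x, hx⟩ : K₀) ∈ N := by rw [Subgroup.index_eq_one.1 hN1]; trivial
    exact hx'
  rw [eq_bot_iff]
  intro g hg
  obtain ⟨k, rfl⟩ := W.π_surj g
  rw [Subgroup.mem_bot, π_eq_one]
  have hk : (k : G) ∈ K₁ := (hmem k).2 hg
  have hcomm : ∀ j ∈ C.J, (k : G) * j * (k : G)⁻¹ * j⁻¹ ∈ Subgroup.zpowers Φ.u := by
    intro j hj
    refine hK₀u _ ⟨?_, mem_cent_singleton.2 ?_⟩
    · have h1 := mul_mem hk (hJK j hj _ (inv_mem hk))
      rwa [← mul_assoc, ← mul_assoc] at h1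
    · have hju : Commute j Φ.u := C.J_comm _ hj _ Φ.u_J
      refine mul_inv_eq_iff_eq_mul.1 ?_
      have hjiu : j⁻¹ * Φ.u * j⁻¹⁻¹ = Φ.u := by rw [hju.inv_left.eq, mul_inv_cancel_right]
      have e : (k : G) * j * (k : G)⁻¹ * j⁻¹ * Φ.u * ((k : G) * j * (k : G)⁻¹ * j⁻¹)⁻¹ =
          (k : G) * (j * ((k : G)⁻¹ * (j⁻¹ * Φ.u * j⁻¹⁻¹) * (k : G)) * j⁻¹) * (k : G)⁻¹ := by group
      rw [e, hjiu]
      rcases W.R_pm _ (inv_mem k.2) with h | h <;> rw [inv_inv] at h <;> rw [h]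
      · rw [hju.eq, mul_inv_cancel_right]
        conv_lhs => rw [← h]
        group
      · rw [hju.inv_right.eq, mul_inv_cancel_right, ← h]
        group
  have hkT := W.R_mod _ k.2 (Φ.cent_z_coset (hcomm _ C.toLoc.z_J)) hcomm
  exact hK₀u _ ⟨hk, mem_cent_singleton.2 (Φ.mem_T.1 hkT).2⟩

section Nine

variable (φ : W.Qt ≃* Equiv.Perm (Fin 9))

/-- An element of `J` whose image is a three-cycle. -/
def TC (x : G) : Prop := ∃ hx : x ∈ W.R, (φ (W.π ⟨x, hx⟩)).IsThreeCycle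

theorem TC_conj {g x : G} (hg : g ∈ W.R) (h : W.TC φ x) : W.TC φ (g * x * g⁻¹) := by
  obtain ⟨hx, h3⟩ := h
  refine ⟨mul_mem (mul_mem hg hx) (inv_mem hg), ?_⟩
  show ((φ (W.π (⟨g, hg⟩ * ⟨x, hx⟩ * (⟨g, hg⟩ : W.R)⁻¹))).cycleType = {3})
  rw [map_mul, map_mul, map_inv, map_mul, map_mul, map_inv, Equiv.Perm.cycleType_conj]
  exact h3

/-- No element of order five of the quotient centralises the image of `x`. -/
def Clean (x : G) : Prop :=
  ∀ hx : x ∈ W.R, ∀ d : W.Qt, d ^ 5 = 1 → d * W.π ⟨x, hx⟩ = W.π ⟨x, hx⟩ * d → d = 1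

theorem clean_e : W.Clean Φ.e := by
  intro he d h5 hd
  obtain ⟨r, rfl⟩ := W.π_surj d
  have hr5 : (r : G) ^ 5 ∈ Subgroup.zpowers Φ.u := by
    rw [← map_pow] at h5
    simpa using (W.π_eq_one _).1 h5
  have hr15 : (r : G) ^ 15 = 1 := by
    rw [show 15 = 5 * 3 from rfl, pow_mul]
    exact C.J_exp _ ((Subgroup.zpowers_le.2 Φ.u_J) hr5)
  have hd6 : W.π r = W.π (r ^ 6) := by
    rw [map_pow, show 6 = 5 + 1 from rfl, pow_succ, h5, one_mul]
  rw [hd6] at hd ⊢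
  set w : G := (r : G) ^ 6 with hw
  have hw5 : w ^ 5 = 1 := by
    rw [hw, ← pow_mul, show 6 * 5 = 15 * 2 from rfl, pow_mul, hr15, one_pow]
  have hwu : Commute w Φ.u := by
    have h2 : Commute ((r : G) ^ 2) Φ.u := by
      refine mul_inv_eq_iff_eq_mul.1 ?_
      rw [pow_two, ← conj_conj]
      rcases W.R_pm _ r.2 with h | h
      · rw [h, h]
      · rw [h, ← conj_inv, h, inv_inv]
    rw [hw, show 6 = 2 * 3 from rfl, pow_mul]
    exact h2.pow_left 3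
  have hwe : w * Φ.e = Φ.e * w := by
    set c := w * Φ.e * w⁻¹ * Φ.e⁻¹ with hc
    have hcu : c ∈ Subgroup.zpowers Φ.u := by
      have h := (W.π_comm (r ^ 6) ⟨Φ.e, he⟩).1 hd
      simpa using h
    have hwc : Commute w c := by
      obtain ⟨i, hi⟩ := hcu
      simp only at hi
      rw [← hi]; exact hwu.zpow_right i
    have hiter : ∀ n : ℕ, w ^ n * Φ.e * (w ^ n)⁻¹ = c ^ n * Φ.e := by
      intro n
      induction n with
      | zero => simp
      | succ n ih =>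
        rw [pow_succ' w, ← conj_conj, ih, ← conj_mul, (hwc.pow_right n).eq, mul_inv_cancel_right,
          pow_succ, mul_assoc (c ^ n)]
        congr 1
        rw [hc]; group
    have h := hiter 5
    rw [hw5] at h
    simp only [one_mul, inv_one, mul_one] at h
    have hc1 : c = 1 := eq_one_of_pow_coprime (mul_eq_right.1 h.symm)
      (C.J_exp _ ((Subgroup.zpowers_le.2 Φ.u_J) hcu)) (by norm_num)
    exact mul_inv_eq_iff_eq_mul.1 (mul_inv_eq_one.1 hc1)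
  have hwu' : w * Φ.u * w⁻¹ = Φ.u := by rw [hwu.eq, mul_inv_cancel_right]
  have hwJ := Φ.cent_e w hwe (Or.inl hwu')
  have hmod := card_cent_modEq C.J w hw5 hwJ
  set F := C.J ⊓ Subgroup.centralizer ({w} : Set G) with hF
  have h9 : 9 ≤ Nat.card F := by
    have hmem : ∀ p : ZMod 3 × ZMod 3, Φ.c p.1 (p.2, 0, 0) ∈ F := by
      intro p
      refine ⟨Φ.c_J _ _, mem_cent_singleton.2 ?_⟩
      have e : Φ.c p.1 (p.2, 0, 0) = Φ.u ^ p.1.val * Φ.e ^ p.2.val := by simp [c, e1]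
      rw [e]
      exact ((hwu.pow_right _).mul_right ((show Commute w Φ.e from hwe).pow_right _)).symm.eq
    have := Nat.card_le_card_of_injective (fun p => (⟨_, hmem p⟩ : F)) (fun p p' h => by
      obtain ⟨h1, h2⟩ := Φ.c_inj (congrArg Subtype.val h)
      exact Prod.ext h1 (congrArg Prod.fst h2))
    simpa [Nat.card_eq_fintype_card] using this
  obtain ⟨k, hk4, hk⟩ := (Nat.dvd_prime_pow Nat.prime_three (m := 4)).1
    (show Nat.card F ∣ 3 ^ 4 by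
      have := Subgroup.card_dvd_of_le (inf_le_left : F ≤ C.J)
      rwa [C.J_card] at this)
  have hk81 : Nat.card F = 81 := by
    rw [C.J_card, hk] at hmod
    rw [hk] at h9 ⊢
    interval_cases k <;> first | rfl | (exfalso; revert hmod h9; decide)
  have hFJ : F = C.J := Subgroup.eq_of_le_of_card_ge inf_le_left (by rw [hk81, C.J_card])
  have hwin : w ∈ C.J := C.toLoc.cent_J (fun j hj => by
    rw [← hFJ] at hj
    exact (mem_cent_singleton.1 hj.2).symm)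
  rw [π_eq_one]
  push_cast
  rw [← hw, eq_one_of_pow_coprime hw5 (C.J_exp w hwin) (by norm_num)]
  exact one_mem _

theorem clean_z : W.Clean C.z := by
  intro hz d h5 hd
  have hmem : d ∈ Subgroup.centralizer ({W.zbar} : Set W.Qt) := mem_cent_singleton.2 hd
  have h := congrArg Subtype.val
    (pow_card_eq_one' (x := (⟨d, hmem⟩ : Subgroup.centralizer ({W.zbar} : Set W.Qt))))
  rw [W.card_cent_zbar] at h
  exact eq_one_of_pow_coprime h5 h (by norm_num)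

theorem clean_w13 (l : ZMod 3) {q : K3} (hq : W13 q) : W.Clean (Φ.c l q) := by
  refine Φ.of_w13 W.Clean ?_ ?_ ?_ W.clean_e W.clean_z l hq
  · intro x hx k h hxR d h5 hd
    have hx' := W.J_R hx
    refine h hx' d h5 ?_
    have hu : Φ.u ^ k.val ∈ W.R := pow_mem W.u_R _
    rwa [show (⟨x * Φ.u ^ k.val, hxR⟩ : W.R) = ⟨x, hx'⟩ * ⟨Φ.u ^ k.val, hu⟩ from rfl, map_mul,
      (W.π_eq_one ⟨Φ.u ^ k.val, hu⟩).2 (pow_mem (Subgroup.mem_zpowers _) _), mul_one] at hd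
  · intro x hx h hxR d h5 hd
    refine h (W.J_R hx) d h5 ?_
    rw [show (⟨x⁻¹, hxR⟩ : W.R) = (⟨x, W.J_R hx⟩ : W.R)⁻¹ from rfl, map_inv] at hd
    simpa using (show Commute d (W.π ⟨x, W.J_R hx⟩)⁻¹ from hd).inv_right.eq
  · intro g hg x hx h hxR d h5 hd
    have hgR : g ∈ W.R := by
      rcases hg with rfl | rfl | rfl
      exacts [W.a_R, W.b_R, W.m_R]
    set γ := W.π ⟨g, hgR⟩ with hγ
    rw [show (⟨g * x * g⁻¹, hxR⟩ : W.R) = ⟨g, hgR⟩ * ⟨x, W.J_R hx⟩ * (⟨g, hgR⟩ : W.R)⁻¹ from rfl,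
      map_mul, map_mul, map_inv, ← hγ] at hd
    have h1 := h (W.J_R hx) (γ⁻¹ * d * γ⁻¹⁻¹) (by rw [conj_pow, h5, mul_one, mul_inv_cancel]) (by
      calc γ⁻¹ * d * γ⁻¹⁻¹ * W.π ⟨x, W.J_R hx⟩
          = γ⁻¹ * (d * (γ * W.π ⟨x, W.J_R hx⟩ * γ⁻¹)) * γ := by group
        _ = γ⁻¹ * (γ * W.π ⟨x, W.J_R hx⟩ * γ⁻¹ * d) * γ := by rw [hd]
        _ = _ := by group)
    exact conj_eq_one_iff.1 h1

theorem two_not_TC (l : ZMod 3) {i j : ZMod 3} (hi : i ≠ 0) (hj : j ≠ 0) :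
    ¬ W.TC φ (Φ.c l (i, j, 0)) := by
  intro h1
  have hk : ∀ i j : ZMod 3, i ≠ 0 → j ≠ 0 →
      ((i, -j, (0 : ZMod 3)) ≠ (i, j, 0) ∧ (i, -j, (0 : ZMod 3)) ≠ (-i, -j, 0)) ∧
      (((0 : ZMod 3), i, j) ≠ (i, j, 0) ∧ ((0 : ZMod 3), i, j) ≠ (-i, -j, 0)) ∧
      (((0 : ZMod 3), i, -j) ≠ (i, j, 0) ∧ ((0 : ZMod 3), i, -j) ≠ (-i, -j, 0)) ∧
      (((0 : ZMod 3), i, j) ≠ (i, -j, 0) ∧ ((0 : ZMod 3), i, j) ≠ (-i, j, 0)) ∧
      (((0 : ZMod 3), i, -j) ≠ (i, -j, 0) ∧ ((0 : ZMod 3), i, -j) ≠ (-i, j, 0)) ∧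
      (((0 : ZMod 3), i, -j) ≠ (0, i, j) ∧ ((0 : ZMod 3), i, -j) ≠ (0, -i, -j)) := by
    decide +kernel
  obtain ⟨n12, n13, n14, n23, n24, n34⟩ := hk i j hi hj
  have h2 := W.TC_conj φ W.a_R h1
  rw [Φ.conj_a] at h2
  have h3 := W.TC_conj φ W.m_R h1
  rw [Φ.conj_m] at h3
  have h4 := W.TC_conj φ W.m_R h2
  rw [Φ.conj_m] at h4
  simp only [neg_zero] at h2 h3 h4
  obtain ⟨r1, t1⟩ := h1
  obtain ⟨r2, t2⟩ := h2
  obtain ⟨r3, t3⟩ := h3
  obtain ⟨r4, t4⟩ := h4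
  have hcomm : ∀ {l l' : ZMod 3} {q q' : K3} (r : Φ.c l q ∈ W.R) (r' : Φ.c l' q' ∈ W.R),
      φ (W.π ⟨_, r⟩) * φ (W.π ⟨_, r'⟩) = φ (W.π ⟨_, r'⟩) * φ (W.π ⟨_, r⟩) := by
    intro l l' q q' r r'
    rw [← map_mul, ← map_mul, ← map_mul, ← map_mul]
    congr 2
    exact Subtype.ext (C.J_comm _ (Φ.c_J _ _) _ (Φ.c_J _ _))
  have hne : ∀ {l l' : ZMod 3} {q q' : K3} (r : Φ.c l q ∈ W.R) (r' : Φ.c l' q' ∈ W.R),
      (q' ≠ q ∧ q' ≠ -q) → φ (W.π ⟨_, r'⟩) ≠ φ (W.π ⟨_, r⟩) ∧ φ (W.π ⟨_, r'⟩) ≠ (φ (W.π ⟨_, r⟩))⁻¹ := by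
    intro l l' q q' r r' hq
    constructor
    · intro h
      have h' := mul_inv_eq_one.2 (φ.injective h)
      rw [← map_inv, ← map_mul, π_eq_one] at h'
      push_cast at h'
      rw [← c_neg, ← c_add, mem_zpowers_iff_c] at h'
      exact hq.1 (add_neg_eq_zero.1 h')
    · intro h
      rw [← map_inv] at h
      have h' := φ.injective h
      rw [eq_inv_iff_mul_eq_one, ← map_mul, π_eq_one] at h'
      push_cast at h'
      rw [← c_add, mem_zpowers_iff_c] at h'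
      exact hq.2 (eq_neg_of_add_eq_zero_left h')
  exact nine_four_cycles t1 t2 t3 t4 (hcomm r1 r2) (hcomm r1 r3) (hcomm r1 r4) (hcomm r2 r3)
    (hcomm r2 r4) (hcomm r3 r4)
    (hne r1 r2 (by simpa using n12)) (hne r1 r3 (by simpa using n13))
    (hne r1 r4 (by simpa using n14)) (hne r2 r3 (by simpa using n23))
    (hne r2 r4 (by simpa using n24)) (hne r3 r4 (by simpa using n34))

include φ in
theorem not_nine : False := by
  set P := (W.sub C.J).map φ.toMonoidHom with hP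
  obtain ⟨p, hp, hp3⟩ := nine_exists_three_cycle P (by
      rintro _ ⟨x, hx, rfl⟩ _ ⟨y, hy, rfl⟩
      haveI := W.subJ_comm
      rw [← map_mul, ← map_mul]
      exact congrArg φ.toMonoidHom
        (congrArg Subtype.val (mul_comm' (⟨x, hx⟩ : W.sub C.J) ⟨y, hy⟩)))
    (by
      rintro _ ⟨x, hx, rfl⟩
      rw [← map_pow, W.subJ_exp x hx, map_one])
    (by rw [hP, Subgroup.card_map_of_injective φ.injective, W.card_subJ])
  obtain ⟨g, hg, rfl⟩ := hp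
  obtain ⟨x, hx, hxR, rfl⟩ := W.mem_sub.1 hg
  obtain ⟨l, ⟨i, j, k⟩, rfl⟩ := Φ.exists_c hx
  have hTC : W.TC φ (Φ.c l (i, j, k)) := ⟨hxR, hp3⟩
  have hsplit : ((i, j, k) : K3) = 0 ∨ W13 (i, j, k) ∨ (i ≠ 0 ∧ j ≠ 0 ∧ k = 0) ∨
      (i = 0 ∧ j ≠ 0 ∧ k ≠ 0) ∨ (i ≠ 0 ∧ j = 0 ∧ k ≠ 0) := by
    simp only [W13, Prod.mk_eq_zero]
    by_cases hi : i = 0 <;> by_cases hj : j = 0 <;> by_cases hk : k = 0 <;> simp [hi, hj, hk]
  rcases hsplit with h0 | hw | ⟨hi, hj, rfl⟩ | ⟨rfl, hj, hk⟩ | ⟨hi, rfl, hk⟩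
  · have h1 : W.π ⟨Φ.c l (i, j, k), hxR⟩ = 1 := (W.π_eq_one _).2 (Φ.mem_zpowers_iff_c.2 h0)
    have h3 : ((φ (W.π ⟨Φ.c l (i, j, k), hxR⟩)).cycleType = {3}) := hp3
    rw [h1, map_one, Equiv.Perm.cycleType_one] at h3
    exact absurd h3.symm (by simp)
  · obtain ⟨d, h5, h1, hd⟩ := nine_five_cent hp3
    apply h1
    have hd1 : φ.symm d = 1 := by
      refine W.clean_w13 l hw hxR _ (by rw [← map_pow, h5, map_one]) ?_
      apply φ.injective
      rw [map_mul, map_mul, φ.apply_symm_apply]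
      exact hd
    rw [← φ.apply_symm_apply d, hd1, map_one]
  · exact W.two_not_TC φ l hi hj hTC
  · have h := W.TC_conj φ W.m_R (W.TC_conj φ W.m_R hTC)
    rw [Φ.conj_m, Φ.conj_m] at h
    exact W.two_not_TC φ l hj hk h
  · have h := W.TC_conj φ W.m_R hTC
    rw [Φ.conj_m] at h
    exact W.two_not_TC φ l hk hi h

end Nine

theorem R_le_norm : W.R ≤ Subgroup.normalizer (C.J : Set G) := by
  obtain ⟨eC⟩ := W.exists_eC
  rcases Cfsg.Agent.S3343.result W.zbar W.order_zbar eC (W.sub C.J) W.subJ_le W.subJ_comm W.subJ_exp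
    W.card_subJ W.no_invariant with hN | ⟨⟨φ⟩⟩
  · intro g hg
    refine mem_normalizer_of_forall (fun j hj => ?_)
    have h := hN.conj_mem _ (W.mem_sub.2 ⟨j, hj, W.J_R hj, rfl⟩) (W.π ⟨g, hg⟩)
    rw [← map_inv, ← map_mul, ← map_mul] at h
    obtain ⟨y, hy, hyR, hyg⟩ := W.mem_sub.1 h
    have h2 := mul_inv_eq_one.2 hyg.symm
    rw [← map_inv, ← map_mul, π_eq_one] at h2
    push_cast at h2
    have h3 := mul_mem ((Subgroup.zpowers_le.2 Φ.u_J) h2) hy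
    rwa [inv_mul_cancel_right] at h3
  · exact (W.not_nine φ).elim

end Top

variable (Φ)

/-- The centraliser of a point of the second kind normalises `J`. -/
theorem cent_norm {g : G} (hg : g * Φ.u = Φ.u * g) :
    g ∈ Subgroup.normalizer (C.J : Set G) := by
  obtain ⟨W⟩ := Φ.exists_top
  exact W.R_le_norm (W.cent_le g hg)

end UFrame

namespace LocC

variable (C : LocC G)

/-- The condition used in the analysis holds in every configuration. -/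
theorem dec : C.toLocH.Dec := by
  intro u hu g hgu hgt
  refine C.toLocH.t_norm_D ?_ hgt
  obtain ⟨Φ, n, hn, hnu⟩ : ∃ Φ : UFrame C, ∃ n ∈ Subgroup.normalizer (C.J : Set G),
      n * Φ.u * n⁻¹ = u := by
    rcases hu with rfl | rfl
    · exact C.exists_frames.1
    · exact C.exists_frames.2
  have h1 : n⁻¹ * g * n ∈ Subgroup.normalizer (C.J : Set G) := by
    refine Φ.cent_norm ?_
    calc n⁻¹ * g * n * Φ.u = n⁻¹ * (g * (n * Φ.u * n⁻¹)) * n := by group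
      _ = n⁻¹ * (n * Φ.u * n⁻¹ * g) * n := by rw [hnu, hgu]
      _ = Φ.u * (n⁻¹ * g * n) := by group
  have h2 := mul_mem (mul_mem hn h1) (inv_mem hn)
  have e : n * (n⁻¹ * g * n) * n⁻¹ = g := by group
  rwa [e] at h2

end LocC

end Cfsg.Lib.McLThree
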