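import Cfsg.Agent.Lib.McLThree.UFrame
import Cfsg.Agent.Lib.McLThree.Elements

/-!
The part of the centraliser of a point of the second kind which lies in the centraliser of `z`.
-/

set_option autoImplicit false
set_option linter.style.haveILetI false
set_option linter.unusedSectionVars false

namespace Cfsg.Lib.McLThree

open Cfsg.Lib.Recog.Icosa
open Cfsg.Lib.AltEightThree (mem_cent_singleton conj_mem_normalizer mem_normalizer_of_forall)

theorem sl_orders : ∀ A : SL25, A ^ 3 = 1 ∨ A ^ 5 = 1 ∨ A = gensSL 2 ∨ A ^ 2 = gensSL 2 ∨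
    A ^ 3 = gensSL 2 ∨ A ^ 5 = gensSL 2 := by
  decide +kernel

universe v

variable {G : Type v} [Group G] [Finite G]

/-- The pairs of powers of two commuting elements of order three. -/
theorem card_sup_zpowers_le {z u : G} (hz : z ^ 3 = 1) (hu : u ^ 3 = 1) (h : z * u = u * z) :
    Nat.card ↥(Subgroup.zpowers z ⊔ Subgroup.zpowers u) ≤ 9 := by
  let f : Subgroup.zpowers z × Subgroup.zpowers u →* G :=
    MonoidHom.noncommCoprod (Subgroup.zpowers z).subtype (Subgroup.zpowers u).subtype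
      (fun a b => by
        obtain ⟨i, hi⟩ := a.2
        obtain ⟨j, hj⟩ := b.2
        show Commute (a : G) (b : G)
        rw [← hi, ← hj]
        exact (show Commute z u from h).zpow_zpow i j)
  have hr : f.range = Subgroup.zpowers z ⊔ Subgroup.zpowers u := by
    simp [f, MonoidHom.noncommCoprod_range]
  rw [← hr]
  have h3 : ∀ x : G, x ^ 3 = 1 → Nat.card (Subgroup.zpowers x) ≤ 3 := fun x hx => by
    rw [Nat.card_zpowers]
    exact orderOf_le_of_pow_eq_one (by norm_num) hx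
  calc Nat.card f.range ≤ Nat.card (Subgroup.zpowers z × Subgroup.zpowers u) :=
        Nat.card_le_card_of_surjective _ f.rangeRestrict_surjective
    _ = Nat.card (Subgroup.zpowers z) * Nat.card (Subgroup.zpowers u) := Nat.card_prod _ _
    _ ≤ 9 := Nat.mul_le_mul (h3 z hz) (h3 u hu)

namespace Loc

variable (D : Loc G)

theorem S_JQ {s : G} (hs : s ∈ (D.S : Subgroup G)) : ∃ j ∈ D.J, ∃ c ∈ D.Q, s = j * c := by
  obtain ⟨σ, hσJ, hσQ⟩ := D.exists_sigma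
  obtain ⟨i, -, c, hc, rfl⟩ := D.S_decomp hs (D.J_le hσJ) hσQ
  exact ⟨σ ^ i, pow_mem hσJ i, c, hc, rfl⟩

theorem S_pow {s : G} (hs : s ∈ (D.S : Subgroup G)) : s ^ 729 = 1 := by
  have h := congrArg Subtype.val (pow_card_eq_one' (x := (⟨s, hs⟩ : (D.S : Subgroup G))))
  rw [D.S_card] at h
  exact h

/-- `S` acts trivially on `Q ∩ J` modulo the centre. -/
theorem S_triv_A {s a : G} (hs : s ∈ (D.S : Subgroup G)) (ha : a ∈ D.A) : D.Triv s a := by
  obtain ⟨j, hj, c, hc, rfl⟩ := D.S_JQ hs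
  refine (D.triv_mul (D.z_S _ (D.J_le hj)) ?_ (D.triv_Q hc ha.1)).1
  simp [Triv, D.J_comm _ hj _ ha.2]

end Loc

namespace LocC

variable (C : LocC G)

/-- `L` has index at most two in the centraliser of `z`. -/
theorem mul_mem_L {g g' : G} (hg : g * C.z = C.z * g) (hg' : g' * C.z = C.z * g')
    (h : g ∉ C.L) (h' : g' ∉ C.L) : g * g' ∈ C.L := by
  have step : ∀ x : G, x * C.z = C.z * x → x ∉ C.L → ∃ c ∈ C.Q, ∃ hz : (c⁻¹ * x) * C.z = C.z * (c⁻¹ * x),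
      ∃ ht : (c⁻¹ * x) * C.t = C.t * (c⁻¹ * x),
        Equiv.Perm.sign (C.ρ ⟨c⁻¹ * x, C.mem_NZ_of_cent hz ht⟩) = -1 := by
    intro x hx hxL
    obtain ⟨c, hc, ht⟩ := C.toLocT.adjust_t hx
    have hz : (c⁻¹ * x) * C.z = C.z * (c⁻¹ * x) :=
      ((show Commute c C.z from C.toLoc.Q_z hc).inv_left.mul_left hx).eq
    refine ⟨c, hc, hz, ht, ?_⟩
    rcases Int.units_eq_one_or (Equiv.Perm.sign (C.ρ ⟨c⁻¹ * x, C.mem_NZ_of_cent hz ht⟩)) with h1 | h1
    · exfalso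
      apply hxL
      have h2 := mul_mem (C.toLoc.Q_le_L hc) (C.mem_L_of_even hz ht h1)
      rwa [mul_inv_cancel_left] at h2
    · exact h1
  obtain ⟨c, hc, hcz, hct, hs⟩ := step g hg h
  obtain ⟨c', hc', hcz', hct', hs'⟩ := step g' hg' h'
  have hcc : (c⁻¹ * g) * (c'⁻¹ * g') ∈ C.L := by
    refine C.mem_L_of_even
      ((show Commute (c⁻¹ * g) C.z from hcz).mul_left (show Commute (c'⁻¹ * g') C.z from hcz')).eq
      ((show Commute (c⁻¹ * g) C.t from hct).mul_left (show Commute (c'⁻¹ * g') C.t from hct')).eq ?_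
    show Equiv.Perm.sign (C.ρ (⟨c⁻¹ * g, C.mem_NZ_of_cent hcz hct⟩ *
      ⟨c'⁻¹ * g', C.mem_NZ_of_cent hcz' hct'⟩)) = 1
    rw [map_mul, map_mul, hs, hs']
    rfl
  have h2 : g * c' * g⁻¹ ∈ C.Q := C.toLoc.Q_conj hg hc'
  have h3 := mul_mem (mul_mem (C.toLoc.Q_le_L hc) (mul_mem (C.toLoc.Q_le_L (C.toLoc.Q_conj
    (show c⁻¹ * C.z = C.z * c⁻¹ from (show Commute c C.z from C.toLoc.Q_z hc).inv_left.eq) h2))
    (one_mem _))) hcc
  have e : c * (c⁻¹ * (g * c' * g⁻¹) * c⁻¹⁻¹ * 1) * (c⁻¹ * g * (c'⁻¹ * g')) = g * g' := by group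
  rwa [e] at h3

end LocC

namespace UFrame

variable {C : LocC G} (Φ : UFrame C)

theorem u_Q : Φ.u ∈ C.Q := Φ.u_A.1

theorem u_exp : Φ.u ^ 3 = 1 := C.J_exp _ Φ.u_J

theorem u_z : Φ.u * C.z = C.z * Φ.u := C.toLoc.Q_z Φ.u_Q

theorem z_not_u : C.z ∉ Subgroup.zpowers Φ.u := by
  intro h
  rcases zpow_mem_of_three Φ.u_exp h with h | h | h
  · exact C.z_ne h
  · exact Φ.u_not_z (h ▸ Subgroup.mem_zpowers _)
  · refine Φ.u_not_z ?_
    have e : Φ.u = C.z ^ 2 := by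
      rw [h, ← pow_mul, show 2 * 2 = 3 + 1 from rfl, pow_succ, Φ.u_exp, one_mul]
    exact e ▸ pow_mem (Subgroup.mem_zpowers _) 2

/-- The centraliser of the point in `S`. -/
def T : Subgroup G := (C.S : Subgroup G) ⊓ Subgroup.centralizer ({Φ.u} : Set G)

theorem mem_T {x : G} : x ∈ Φ.T ↔ x ∈ (C.S : Subgroup G) ∧ x * Φ.u = Φ.u * x := by
  rw [T, Subgroup.mem_inf, mem_cent_singleton]

theorem J_le_T : C.J ≤ Φ.T := fun j hj => Φ.mem_T.2 ⟨C.J_le hj, C.J_comm _ hj _ Φ.u_J⟩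

theorem m_T : Φ.m ∈ Φ.T := Φ.mem_T.2 ⟨Φ.m_S, Φ.m_u⟩

theorem z_T : C.z ∈ Φ.T := Φ.J_le_T C.toLoc.z_J

theorem T_z {x : G} (hx : x ∈ Φ.T) : x * C.z = C.z * x := C.z_S x (Φ.mem_T.1 hx).1

theorem cent_z_coset {g : G} (hg : g * C.z * g⁻¹ * C.z⁻¹ ∈ Subgroup.zpowers Φ.u) :
    g * C.z = C.z * g := by
  have e : g * C.z * g⁻¹ = g * C.z * g⁻¹ * C.z⁻¹ * C.z := by group
  by_cases h1 : g * C.z * g⁻¹ * C.z⁻¹ = 1
  · rw [h1, one_mul] at e
    exact mul_inv_eq_iff_eq_mul.1 e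
  exfalso
  refine C.toLocJ.not_singular (a := g * C.z * g⁻¹) ?_ ?_ g rfl
  · rw [e]
    exact mul_mem ((Subgroup.zpowers_le.2 Φ.u_A) hg) C.toLoc.z_A
  · intro hz
    have hv : g * C.z * g⁻¹ * C.z⁻¹ ∈ Subgroup.zpowers C.z :=
      mul_mem hz (inv_mem (Subgroup.mem_zpowers _))
    rcases zpow_mem_of_three Φ.u_exp hg with h | h | h
    · exact h1 h
    · exact Φ.u_not_z (h ▸ hv)
    · refine Φ.u_not_z ?_
      have e2 : Φ.u = (g * C.z * g⁻¹ * C.z⁻¹) ^ 2 := by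
        rw [h, ← pow_mul, show 2 * 2 = 3 + 1 from rfl, pow_succ, Φ.u_exp, one_mul]
      exact e2 ▸ pow_mem hv 2

/-- Elements of `L` fixing the point lie in `S`. -/
theorem L_cent_le {g : G} (hg : g ∈ C.L) (hgu : g * Φ.u = Φ.u * g) : g ∈ Φ.T := by
  set P : Subgroup G := C.L ⊓ Subgroup.centralizer ({Φ.u} : Set G) with hP
  have hψ : ∀ x : G, ∀ hx : x ∈ C.L, x * Φ.u = Φ.u * x → C.ψ ⟨x, hx⟩ ^ 3 = 1 := by
    intro x hx hxu
    have hneg : ∀ n : ℕ, C.ψ ⟨x, hx⟩ ^ n = gensSL 2 → False := by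
      intro n hn
      rw [← map_pow] at hn
      have hw : x ^ n ∈ C.L := pow_mem hx n
      have hc := C.toLocT.mem_coset_t hw hn
      apply Φ.u_not_z
      refine C.toLocT.fix_t Φ.u_Q ?_
      have h1 : C.toLoc.Triv (x ^ n * C.t)⁻¹ Φ.u := C.toLoc.triv_Q (inv_mem hc) Φ.u_Q
      have h2 : C.toLoc.Triv (x ^ n) Φ.u := by
        simp [Loc.Triv, ((show Commute x Φ.u from hxu).pow_left n).eq]
      have h3 := (C.toLoc.triv_mul (C.toLoc.Q_z (inv_mem hc)) h1 h2).1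
      have e : (x ^ n * C.t)⁻¹ * x ^ n = C.t := by
        rw [mul_inv_rev, C.toLocT.t_inv, inv_mul_cancel_right]
      rwa [e] at h3
    rcases sl_orders (C.ψ ⟨x, hx⟩) with h | h | h | h | h | h
    · exact h
    · by_contra h3
      have hd5 : (x ^ 3) ^ 5 = 1 := by
        rw [← pow_mul, show 3 * 5 = 5 * 3 from rfl]
        exact C.toLoc.pow_three_Q hx h
      have hdQ : x ^ 3 ∉ C.Q := fun hq => h3 (by
        rw [← map_pow]; exact (C.ψ_ker _).2 hq)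
      have hdu : Commute (x ^ 3) Φ.u := (show Commute x Φ.u from hxu).pow_left 3
      have hdz : Commute (x ^ 3) C.z := (show Commute x C.z from C.L_cent x hx).pow_left 3
      rcases C.toLoc.d_invariant hdz.eq hd5 hdQ (Subgroup.zpowers C.z ⊔ Subgroup.zpowers Φ.u)
        (sup_le (Subgroup.zpowers_le.2 C.z_mem) (Subgroup.zpowers_le.2 Φ.u_Q))
        ((le_sup_left : Subgroup.zpowers C.z ≤ _) (Subgroup.mem_zpowers _)) (fun w hw => by
          have hw' : w ∈ Subgroup.centralizer ({x ^ 3} : Set G) :=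
            (sup_le (Subgroup.zpowers_le.2 (mem_cent_singleton.2 hdz.symm.eq))
              (Subgroup.zpowers_le.2 (mem_cent_singleton.2 hdu.symm.eq))) hw
          rw [← mem_cent_singleton.1 hw', mul_inv_cancel_right]; exact hw) with hQ | hle
      · have h9 := card_sup_zpowers_le C.z_exp Φ.u_exp Φ.u_z.symm
        rw [hQ, C.Q_card] at h9
        omega
      · exact Φ.u_not_z (hle ((le_sup_right : Subgroup.zpowers Φ.u ≤ _) (Subgroup.mem_zpowers _)))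
    · exact (hneg 1 (by rw [pow_one]; exact h)).elim
    · exact (hneg 2 h).elim
    · exact (hneg 3 h).elim
    · exact (hneg 5 h).elim
  have hPp : IsPGroup 3 P := isPGroup_of_forall_pow (k := 2) (fun x hx => by
    rw [show 3 ^ 2 = 3 * 3 from rfl]
    exact C.toLoc.pow_three_Q hx.1 (hψ x hx.1 (mem_cent_singleton.1 hx.2)))
  have hQp : IsPGroup 3 C.Q := isPGroup_of_forall_pow (k := 1) (by simpa using C.Q_exp)
  have hn : P ≤ Subgroup.normalizer (C.Q : Set G) := fun x hx =>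
    mem_normalizer_of_forall (fun q hq => C.toLoc.Q_conj (C.L_cent x hx.1) hq)
  have hle : (C.S : Subgroup G) ≤ P ⊔ C.Q := fun s hs => by
    obtain ⟨j, hj, c, hc, rfl⟩ := C.toLoc.S_JQ hs
    refine Subgroup.mul_mem_sup ⟨C.toLoc.S_le_L (C.J_le hj), ?_⟩ hc
    exact mem_cent_singleton.2 (C.J_comm _ hj _ Φ.u_J)
  have heq := C.S.is_maximal' (hPp.to_sup_of_normal_right' hQp hn) hle
  refine Φ.mem_T.2 ⟨?_, hgu⟩
  rw [← heq]
  exact (le_sup_left : P ≤ P ⊔ C.Q) ⟨hg, mem_cent_singleton.2 hgu⟩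

/-- An involution of `L` inverting the point. -/
theorem exists_inverting_point :
    ∃ τ ∈ C.L, τ * τ = 1 ∧ τ * Φ.u * τ⁻¹ = Φ.u⁻¹ ∧ C.t * τ ∈ (C.S : Subgroup G) := by
  obtain ⟨q₀, hq₀, hne⟩ : ∃ q ∈ C.Q, q * Φ.u⁻¹ * q⁻¹ ≠ Φ.u⁻¹ := by
    by_contra hcon
    push Not at hcon
    refine Φ.u_not_z (C.Q_centre _ Φ.u_Q (fun b hb => ?_))
    have h1 : Commute b Φ.u⁻¹ := mul_inv_eq_iff_eq_mul.1 (hcon b hb)
    simpa using h1.inv_right.symm.eq
  set k := q₀ * Φ.u⁻¹ * q₀⁻¹ * Φ.u with hk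
  have hkz : k ∈ Subgroup.zpowers C.z := by
    have h := C.Q_comm q₀ hq₀ Φ.u⁻¹ (inv_mem Φ.u_Q)
    rwa [inv_inv] at h
  have hk1 : k ≠ 1 := fun h => hne (mul_eq_one_iff_eq_inv.1 h)
  have hgen : Subgroup.zpowers C.z ≤ Subgroup.zpowers k := by
    rw [Subgroup.zpowers_le]
    rcases zpow_mem_of_three C.z_exp hkz with h | h | h
    · exact absurd h hk1
    · exact h ▸ Subgroup.mem_zpowers _
    · refine Subgroup.mem_zpowers_iff.2 ⟨2, ?_⟩
      rw [zpow_ofNat, h, ← pow_mul, show 2 * 2 = 3 + 1 from rfl, pow_succ, C.z_exp, one_mul]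
  have hw : C.t * Φ.u * C.t⁻¹ * Φ.u ∈ Subgroup.zpowers C.z := by
    have h := C.toLocT.t_inverts Φ.u_Q
    rw [C.toLocT.t_inv]
    have hc : Φ.u * (C.t * Φ.u * C.t) = C.t * Φ.u * C.t * Φ.u := by
      have h' : Commute Φ.u (Φ.u * (C.t * Φ.u * C.t)) := C.toLoc.zpow_comm_z h Φ.u Φ.u_z
      refine mul_left_cancel (a := Φ.u) ?_
      rw [h'.eq]; group
    rwa [hc] at h
  obtain ⟨n, hn⟩ : ∃ n : ℕ, k ^ n = (C.t * Φ.u * C.t⁻¹ * Φ.u)⁻¹ :=
    (isOfFinOrder_of_finite k).mem_powers_iff_mem_zpowers.mpr (hgen (inv_mem hw))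
  have hkq : Commute q₀ k := C.toLoc.zpow_comm_z hkz q₀ (C.toLoc.Q_z hq₀)
  have hiter : ∀ m : ℕ, q₀ ^ m * Φ.u⁻¹ * (q₀ ^ m)⁻¹ = k ^ m * Φ.u⁻¹ := by
    intro m
    induction m with
    | zero => simp
    | succ m ih =>
      rw [pow_succ', ← conj_conj, ih, ← conj_mul, (hkq.pow_right m).eq, mul_inv_cancel_right,
        pow_succ, mul_assoc (k ^ m)]
      congr 1
      rw [hk]; group
  set g₀ := q₀ ^ n * C.t with hg₀
  have hg₀L : g₀ ∈ C.L := mul_mem (C.toLoc.Q_le_L (pow_mem hq₀ n)) C.t_L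
  have hg₀u : g₀ * Φ.u * g₀⁻¹ = Φ.u⁻¹ := by
    set w := C.t * Φ.u * C.t⁻¹ * Φ.u with hw'
    have e1 : C.t * Φ.u * C.t⁻¹ = w * Φ.u⁻¹ := by rw [hw', mul_inv_cancel_right]
    rw [hg₀, ← conj_conj, e1, ← conj_mul, hiter, hn,
      C.toLoc.zpow_conj_eq (C.toLoc.Q_z (pow_mem hq₀ n)) hw, mul_inv_cancel_left]
  have hsq : g₀ * g₀ ∈ Φ.T := by
    refine Φ.L_cent_le (mul_mem hg₀L hg₀L) (mul_inv_eq_iff_eq_mul.1 ?_)
    rw [← conj_conj, hg₀u, ← conj_inv, hg₀u, inv_inv]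
  have he : g₀ ^ 729 = g₀ * (g₀ * g₀) ^ 364 := by
    rw [← pow_two, ← pow_mul, ← pow_succ']
  refine ⟨g₀ ^ 729, pow_mem hg₀L _, ?_, ?_, ?_⟩
  · rw [← pow_add, show 729 + 729 = 2 * 729 from rfl, pow_mul, pow_two]
    exact C.toLoc.S_pow (Φ.mem_T.1 hsq).1
  · rw [he, ← conj_conj, ((show Commute (g₀ * g₀) Φ.u from (Φ.mem_T.1 hsq).2).pow_left _).eq,
      mul_inv_cancel_right, hg₀u]
  · rw [he, ← mul_assoc]
    refine mul_mem ?_ (pow_mem (Φ.mem_T.1 hsq).1 _)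
    have h := C.Q_le (C.toLoc.Q_conj C.toLocT.t_z (pow_mem hq₀ n))
    rwa [C.toLocT.t_inv, mul_assoc (C.t)] at h

/-- An element fixing `z` and the point and centralising `J` modulo the point lies in `S`. -/
theorem cent_mod {g : G} (hgz : g * C.z = C.z * g) (hgu : g * Φ.u = Φ.u * g)
    (h : ∀ j ∈ C.J, g * j * g⁻¹ * j⁻¹ ∈ Subgroup.zpowers Φ.u) : g ∈ Φ.T := by
  have hgJ : g ∈ Subgroup.normalizer (C.J : Set G) := mem_normalizer_of_forall (fun j hj => by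
    have h1 := mul_mem ((Subgroup.zpowers_le.2 Φ.u_J) (h j hj)) hj
    rwa [inv_mul_cancel_right] at h1)
  have h3 : g ^ 3 ∈ C.J := by
    refine C.toLoc.cent_J (fun j hj => mul_inv_eq_iff_eq_mul.1 ?_)
    set w := g * j * g⁻¹ * j⁻¹ with hw
    have hwg : Commute g w := by
      obtain ⟨i, hi⟩ := h j hj
      simp only at hi
      rw [← hw] at hi
      rw [← hi]
      exact (show Commute g Φ.u from hgu).zpow_right i
    have hiter : ∀ n : ℕ, g ^ n * j * (g ^ n)⁻¹ = w ^ n * j := by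
      intro n
      induction n with
      | zero => simp
      | succ n ih =>
        rw [pow_succ', ← conj_conj, ih, ← conj_mul, (hwg.pow_right n).eq, mul_inv_cancel_right,
          pow_succ, mul_assoc (w ^ n)]
        congr 1
        rw [hw]; group
    rw [hiter 3, C.J_exp w ((Subgroup.zpowers_le.2 Φ.u_J) (h j hj)), one_mul]
  refine Φ.mem_T.2 ⟨C.toLoc.three_mem_S (fun s hs => C.toLoc.cent_norm_S hgJ hgz hs) (k := 2) ?_, hgu⟩
  rw [show 3 ^ 2 = 3 * 3 from rfl, pow_mul]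
  exact C.J_exp _ h3

/-- An element of `t S` does not centralise `J` modulo the point. -/
theorem coset_t_mod {g y : G} (hy : y ∈ (C.S : Subgroup G)) (hg : g = C.t * y)
    (h : ∀ j ∈ C.J, g * j * g⁻¹ * j⁻¹ ∈ Subgroup.zpowers Φ.u) : False := by
  set W := Subgroup.zpowers C.z ⊔ Subgroup.zpowers Φ.u with hW
  have hle : C.toLoc.A ≤ W := by
    intro a ha
    set x := g * a * g⁻¹ with hx
    have h1 : x * a⁻¹ ∈ W := (le_sup_right : Subgroup.zpowers Φ.u ≤ W) (h a ha.2)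
    have hxJ : x ∈ C.J := by
      have := mul_mem ((Subgroup.zpowers_le.2 Φ.u_J) (h a ha.2)) ha.2
      rwa [inv_mul_cancel_right] at this
    have h2 : a * x ∈ W := by
      apply (le_sup_left : Subgroup.zpowers C.z ≤ W)
      set w := y * a * y⁻¹ * a⁻¹ with hw
      have hwz : w ∈ Subgroup.zpowers C.z := C.toLoc.S_triv_A hy ha
      have e : x = w * (C.t * a * C.t⁻¹) := by
        rw [hx, hg, ← conj_conj, show y * a * y⁻¹ = w * a by rw [hw, inv_mul_cancel_right],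
          ← conj_mul, C.toLoc.zpow_conj_eq C.toLocT.t_z hwz]
      rw [e, ← mul_assoc, C.toLoc.zpow_comm_z hwz a (C.toLoc.Q_z ha.1), mul_assoc, C.toLocT.t_inv]
      exact mul_mem hwz (C.toLocT.t_inverts ha.1)
    have h3 : a * x * (x * a⁻¹)⁻¹ = a ^ 2 := by
      rw [mul_inv_rev, inv_inv, mul_assoc a x, ← mul_assoc x a, C.J_comm x hxJ a ha.2,
        mul_inv_cancel_right, pow_two]
    have h4 : a ^ 2 ∈ W := h3 ▸ mul_mem h2 (inv_mem h1)
    have h5 : a = (a ^ 2) ^ 2 := by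
      rw [← pow_mul, show 2 * 2 = 3 + 1 from rfl, pow_succ, C.J_exp a ha.2, one_mul]
    rw [h5]
    exact pow_mem h4 2
  have h27 := Subgroup.card_le_of_le hle
  rw [C.toLoc.card_A] at h27
  have := card_sup_zpowers_le C.z_exp Φ.u_exp Φ.u_z.symm
  rw [← hW] at this
  omega

/-- A group between the centraliser and the normaliser of the point whose part fixing `z` is an
extension of `T` by an involution. -/
structure Top where
  /-- the group -/
  R : Subgroup G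
  /-- the involution -/
  τ : G
  cent_le : ∀ g, g * Φ.u = Φ.u * g → g ∈ R
  R_pm : ∀ g ∈ R, g * Φ.u * g⁻¹ = Φ.u ∨ g * Φ.u * g⁻¹ = Φ.u⁻¹
  τ_R : τ ∈ R
  τ_sq : τ * τ = 1
  τ_z : τ * C.z = C.z * τ
  τ_notT : τ ∉ Φ.T
  R_z : ∀ g ∈ R, g * C.z = C.z * g → g ∈ Φ.T ∨ τ * g ∈ Φ.T
  R_mod : ∀ g ∈ R, g * C.z = C.z * g → (∀ j ∈ C.J, g * j * g⁻¹ * j⁻¹ ∈ Subgroup.zpowers Φ.u) →
    g ∈ Φ.T

theorem exists_top : Nonempty Φ.Top := by
  by_cases hB : ∀ g : G, g * C.z = C.z * g → g * Φ.u = Φ.u * g → g ∈ Φ.T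
  · obtain ⟨τ, hτL, hττ, hτu, hτS⟩ := Φ.exists_inverting_point
    have hpm : ∀ g ∈ Subgroup.normalizer (Subgroup.zpowers Φ.u : Set G),
        g * Φ.u * g⁻¹ = Φ.u ∨ g * Φ.u * g⁻¹ = Φ.u⁻¹ := by
      intro g hg
      rcases zpow_mem_of_three Φ.u_exp (conj_mem_normalizer hg (Subgroup.mem_zpowers _)) with h | h | h
      · exact absurd (conj_eq_one_iff.1 h) Φ.u_ne
      · exact Or.inl h
      · exact Or.inr (h.trans (eq_inv_of_mul_eq_one_left (by rw [← pow_succ, Φ.u_exp])))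
    have hcase : ∀ g : G, g * C.z = C.z * g → g * Φ.u * g⁻¹ = Φ.u⁻¹ → τ * g ∈ Φ.T := by
      intro g hgz hgu
      refine hB _ ((show Commute τ C.z from C.L_cent τ hτL).mul_left hgz).eq
        (mul_inv_eq_iff_eq_mul.1 ?_)
      rw [← conj_conj, hgu, ← conj_inv, hτu, inv_inv]
    refine ⟨{
      R := Subgroup.normalizer (Subgroup.zpowers Φ.u : Set G)
      τ := τ
      cent_le := fun g hg => Cfsg.Lib.AltEightThree.mem_normalizer_of_cent hg
      R_pm := hpm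
      τ_R := ?_
      τ_sq := hττ
      τ_z := C.L_cent τ hτL
      τ_notT := ?_
      R_z := ?_
      R_mod := ?_ }⟩
    · refine mem_normalizer_of_forall (fun x hx => ?_)
      obtain ⟨i, rfl⟩ := hx
      change τ * Φ.u ^ i * τ⁻¹ ∈ Subgroup.zpowers Φ.u
      rw [← conj_zpow, hτu]
      exact zpow_mem (inv_mem (Subgroup.mem_zpowers _)) i
    · intro h
      rw [(Φ.mem_T.1 h).2, mul_inv_cancel_right] at hτu
      exact Φ.u_ne (eq_one_of_pow_coprime
        (by rw [pow_two]; exact mul_eq_one_iff_eq_inv.2 hτu) Φ.u_exp (by norm_num))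
    · intro g hg hgz
      rcases hpm g hg with h | h
      · exact Or.inl (hB g hgz (mul_inv_eq_iff_eq_mul.1 h))
      · exact Or.inr (hcase g hgz h)
    · intro g hg hgz hmod
      rcases hpm g hg with h | h
      · exact hB g hgz (mul_inv_eq_iff_eq_mul.1 h)
      · exfalso
        refine Φ.coset_t_mod (y := C.t * g) ?_ ?_ hmod
        · have h1 := mul_mem hτS (Φ.mem_T.1 (hcase g hgz h)).1
          rwa [mul_assoc C.t, ← mul_assoc τ τ, hττ, one_mul] at h1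
        · rw [← mul_assoc, C.t_sq, one_mul]
  · push Not at hB
    obtain ⟨g₀, hg₀z, hg₀u, hg₀T⟩ := hB
    have hnotL : ∀ g : G, g * Φ.u = Φ.u * g → g ∉ Φ.T → g ∉ C.L :=
      fun g hgu hgT hgL => hgT (Φ.L_cent_le hgL hgu)
    have hg₀L := hnotL g₀ hg₀u hg₀T
    have hsq : g₀ * g₀ ∈ Φ.T := Φ.L_cent_le (C.mul_mem_L hg₀z hg₀z hg₀L hg₀L)
      ((show Commute g₀ Φ.u from hg₀u).mul_left hg₀u).eq
    have he : g₀ ^ 729 = g₀ * (g₀ * g₀) ^ 364 := by
      rw [← pow_two, ← pow_mul, ← pow_succ']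
    have hτT : g₀ ^ 729 ∉ Φ.T := by
      intro h
      rw [he] at h
      exact hg₀T ((Subgroup.mul_mem_cancel_right _ (pow_mem hsq _)).1 h)
    have hτu : g₀ ^ 729 * Φ.u = Φ.u * g₀ ^ 729 := ((show Commute g₀ Φ.u from hg₀u).pow_left _).eq
    have hτz : g₀ ^ 729 * C.z = C.z * g₀ ^ 729 := ((show Commute g₀ C.z from hg₀z).pow_left _).eq
    have hτL := hnotL _ hτu hτT
    refine ⟨{
      R := Subgroup.centralizer ({Φ.u} : Set G)
      τ := g₀ ^ 729
      cent_le := fun g hg => mem_cent_singleton.2 hg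
      R_pm := fun g hg => Or.inl (mul_inv_eq_iff_eq_mul.2 (mem_cent_singleton.1 hg))
      τ_R := mem_cent_singleton.2 hτu
      τ_sq := ?_
      τ_z := hτz
      τ_notT := hτT
      R_z := ?_
      R_mod := fun g hg hgz hmod => Φ.cent_mod hgz (mem_cent_singleton.1 hg) hmod }⟩
    · rw [← pow_add, show 729 + 729 = 2 * 729 from rfl, pow_mul, pow_two]
      exact C.toLoc.S_pow (Φ.mem_T.1 hsq).1
    · intro g hg hgz
      have hgu := mem_cent_singleton.1 hg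
      by_cases hT : g ∈ Φ.T
      · exact Or.inl hT
      · exact Or.inr (Φ.L_cent_le (C.mul_mem_L hτz hgz hτL (hnotL g hgu hT))
          ((show Commute (g₀ ^ 729) Φ.u from hτu).mul_left hgu).eq)

end UFrame

end Cfsg.Lib.McLThree
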